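import Cfsg.Agent.Lib.Recognition.USixTwo.Generated

/-!
# The component generates the unitary group of dimension six
-/

set_option autoImplicit false
set_option linter.unusedSectionVars false
set_option maxRecDepth 100000

namespace CfsgLib.Recognition.USixTwo

open CfsgLib.ThreeTransp.Extraspecial
open CfsgLib.Sporadic CfsgLib.Sporadic.FischerLines CfsgLib.Sporadic.FischerTransitivity
open CfsgLib.Sporadic.LargeFischer (D4 om nzd)
open scoped commutatorElement

theorem psu_field {F F₀ : Type*} [Field F] [Field F₀] (e : F ≃+* F₀) :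
    Nonempty (Cfsg.PSU 6 F 2 ≃* Cfsg.PSU 6 F₀ 2) := by
  refine ⟨QuotientGroup.congr _ _ (CfsgLib.Chevalley.G2Two.suCongr e 6 2) ?_⟩
  ext y
  set f := CfsgLib.Chevalley.G2Two.suCongr e 6 2
  simp only [Subgroup.mem_map, Subgroup.mem_center_iff]
  refine ⟨?_, fun hy => ⟨f.symm y, fun g => f.injective ?_, f.apply_symm_apply y⟩⟩
  · rintro ⟨x, hx, rfl⟩ g
    obtain ⟨g, rfl⟩ := f.surjective g
    exact (map_mul f g x).symm.trans ((congrArg f (hx g)).trans (map_mul f x g))
  · rw [map_mul, map_mul, f.apply_symm_apply]; exact hy (f g)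

theorem psu_dim {n : ℕ} (hn : 4 ≤ n) (hc : Nat.card (Cfsg.PSU n FieldFour 2) = 9196830720) : n = 6 := by
  have h := Cfsg.Agent.S0280.result (F := FieldFour) (q := 2) (FieldFour.card_eq.trans (by norm_num)) n (by omega)
  rw [hc] at h
  rcases Nat.lt_or_ge n 7 with h7 | h7
  · interval_cases n
    · norm_num [Finset.prod_range_succ, Nat.even_iff] at h
    · norm_num [Finset.prod_range_succ, Nat.even_iff] at h
    · rfl
  exfalso
  have h21 : 16 ≤ n * (n - 1) / 2 := by
    have : 7 * 6 ≤ n * (n - 1) := Nat.mul_le_mul h7 (by omega)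
    omega
  have hd : 2 ^ 16 ∣ n.gcd (2 + 1) * ((2 + 1) * 9196830720) := by
    rw [h]; exact (pow_dvd_pow 2 h21).trans (dvd_mul_right _ _)
  have hg : n.gcd (2 + 1) = 1 ∨ n.gcd (2 + 1) = 3 := by
    have := Nat.gcd_dvd_right n 3
    exact (Nat.dvd_prime Nat.prime_three).1 this
  rcases hg with e | e <;> rw [e] at hd <;> norm_num at hd

variable {X : Type*} [Group X] [Finite X]

namespace Core

variable {z : X} {J : Subgroup X} {π : X → V4} {ψ : ↥(Subgroup.centralizer ({z} : Set X)) →* (V4 ≃ₗ[ZMod 2] V4)}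
  (h : Core z J π ψ)
include h

theorem card_cent : Nat.card ↥(Subgroup.centralizer ({z} : Set X)) = 25920 * 512 := by
  have e : ψ.ker = J.subgroupOf (Subgroup.centralizer ({z} : Set X)) := by
    ext c; exact h.ker c
  have h1 := ψ.ker.card_mul_index
  rw [Subgroup.index_ker, h.model.card, e, Nat.card_congr (Subgroup.subgroupOfEquivOfLe h.le_cent).toEquiv,
    h.card_J] at h1
  omega

/-- The class inside the generated group. -/
def cls' : Set ↥h.span := {d | Near z (d : X)}

variable (hni : ∃ w, Member z w)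
include hni

theorem isTT : Cfsg.IsThreeTranspositionGroup h.cls' := by
  refine ⟨⟨fun d hd => ?_, fun d hd e he => ?_⟩, fun g d hd => h.near_conj g.2 hd, ?_⟩
  · obtain ⟨Jd, πd, ψd, hd'⟩ := h.exists_core (show Near z (d : X) from hd).isConj
    rw [← Subgroup.orderOf_coe, hd'.ord_z]
  · rcases h.near_order hd he with e' | e'
    · left
      refine Subtype.ext ?_
      show ((d * e : ↥h.span) : X) ^ 2 = 1
      rw [pow_two, Subgroup.coe_mul]
      calc (d : X) * e * (d * e) = (d : X) * (e * d) * e := by group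
        _ = (d : X) * d * (e * e) := by rw [← e']; group
        _ = 1 := by rw [h.sq_one hd, h.sq_one he, one_mul]
    · right; exact Subtype.ext e'
  · rw [eq_top_iff]
    rintro ⟨x, hx⟩ -
    have hx' : x ∈ Subgroup.closure {t | Near z t} := hx
    have : x ∈ (Subgroup.closure h.cls').map h.span.subtype := by
      rw [MonoidHom.map_closure]
      refine Subgroup.closure_mono ?_ hx'
      exact fun t ht => ⟨⟨t, h.mem_span ht⟩, ht, rfl⟩
    obtain ⟨y, hy, e⟩ := this
    exact (show y = ⟨x, hx⟩ from Subtype.ext e) ▸ hy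

theorem isCls : ∀ a ∈ h.cls', ∀ b ∈ h.cls', ∃ g : ↥h.span, g * a * g⁻¹ = b := by
  intro a ha b hb
  obtain ⟨g, hg, eg⟩ := h.exists_move hni ha
  obtain ⟨k, hk, ek⟩ := h.exists_move hni hb
  refine ⟨⟨k * g⁻¹, mul_mem hk (inv_mem hg)⟩, Subtype.ext ?_⟩
  show k * g⁻¹ * (a : X) * (k * g⁻¹)⁻¹ = b
  rw [← eg, ← ek]; group

theorem isPerfect : ⁅commutator ↥h.span, commutator ↥h.span⁆ = commutator ↥h.span := by
  have htop : commutator ↥h.span = ⊤ := by
    obtain ⟨a, ha, b, hb, e⟩ := h.z_commutator hni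
    have hC := h.cent_le_span hni
    have hz : (⟨z, h.mem_span (Or.inl rfl)⟩ : ↥h.span) ∈ commutator ↥h.span := by
      rw [show (⟨z, h.mem_span (Or.inl rfl)⟩ : ↥h.span) = ⁅(⟨a, hC (h.mem_cent ha)⟩ : ↥h.span), ⟨b, hC (h.mem_cent hb)⟩⁆
        from Subtype.ext (by rw [commutatorElement_def]; exact e.symm), _root_.commutator_def]
      exact Subgroup.commutator_mem_commutator (Subgroup.mem_top _) (Subgroup.mem_top _)
    rw [eq_top_iff, ← (h.isTT hni).2.2, Subgroup.closure_le]
    intro d hd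
    obtain ⟨g, eg⟩ := h.isCls hni ⟨z, h.mem_span (Or.inl rfl)⟩ (Or.inl rfl) d hd
    rw [← eg]
    exact (inferInstance : (commutator ↥h.span).Normal).conj_mem _ hz g
  rw [htop, ← _root_.commutator_def, htop]

omit hni in
theorem commute_coe {a b : ↥h.span} : Commute a b ↔ (a : X) * b = b * a :=
  ⟨fun e => congrArg Subtype.val e.eq, fun e => Subtype.ext e⟩

omit hni in
theorem commute_z {zz d : ↥h.span} (hzz : (zz : X) = z) : Commute zz d ↔ (d : X) * z = z * d := by
  rw [h.commute_coe]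
  refine ⟨fun e => ?_, fun e => ?_⟩
  · calc (d : X) * z = (d : X) * zz := congrArg _ hzz.symm
      _ = zz * d := e.symm
      _ = z * d := congrArg (· * (d : X)) hzz
  · calc (zz : X) * d = z * d := congrArg (· * (d : X)) hzz
      _ = d * z := e.symm
      _ = d * zz := congrArg _ hzz.symm

omit hni in
theorem nb_at {d : ↥h.span} {zz : ↥h.span} (hzz : (zz : X) = z) :
    d ∈ Nb h.cls' zz ↔ Member z (d : X) := by
  constructor
  · rintro ⟨hd, hne, hc⟩
    exact h.near_member (Or.inl rfl) hd ((h.commute_z hzz).1 hc).symm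
      (fun e => hne (Subtype.ext (e.trans hzz.symm)))
  · intro hm'
    exact ⟨Or.inr (Or.inl hm'), fun e => hm'.2.2 ((congrArg Subtype.val e).trans hzz),
      (h.commute_z hzz).2 hm'.2.1⟩

omit hni in
theorem pp_at {zz a c : ↥h.span} {i k : Fin 45} (hzz : (zz : X) = z) (ha : h.At (a : X) i) (hc : h.At (c : X) k) :
    Pp h.cls' zz c = Pp h.cls' zz a ↔ k = i := by
  constructor
  · intro e
    by_contra hne
    obtain ⟨r, r1, r2⟩ := exists_separating (Ne.symm hne)
    obtain ⟨m, hm', hme⟩ := h.exists_member ⟨_, ha.1⟩ (ptV_q _ r.2).1 (ptV_q _ r.2).2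
    have hat : h.At m r := ⟨hm', hme⟩
    have hmem : (⟨m, h.mem_span (Or.inr (Or.inl hm'))⟩ : ↥h.span) ∈ Pp h.cls' zz a :=
      ⟨Or.inr (Or.inl hm'), (h.commute_z hzz).2 hm'.2.1,
        h.commute_coe.2 ((h.at_commute ha hat).2 r1)⟩
    rw [← e] at hmem
    exact r2 ((h.at_commute hc hat).1 (h.commute_coe.1 hmem.2.2))
  · rintro rfl
    ext e
    refine and_congr_right fun he => and_congr_right fun hze => ?_
    rw [h.commute_coe, h.commute_coe]
    have hze' := (h.commute_z hzz).1 hze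
    by_cases hez : (e : X) = z
    · rw [hez]; exact ⟨fun _ => ha.1.2.1, fun _ => hc.1.2.1⟩
    obtain ⟨r, hr⟩ := h.exists_at (h.near_member (Or.inl rfl) he hze'.symm hez)
    rw [h.at_commute hc hr, h.at_commute ha hr]

theorem line_five {zz a : ↥h.span} (hzz : (zz : X) = z) (ha : a ∈ Nb h.cls' zz) :
    (Ln h.cls' zz a).ncard = 5 := by
  have hm' := (h.nb_at hzz).1 ha
  obtain ⟨i, hi⟩ := h.exists_at hm'
  have e : Subtype.val '' Ln h.cls' zz a = insert z {t | h.At t i} := by
    ext t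
    constructor
    · rintro ⟨c, ⟨hc, hor⟩, rfl⟩
      rcases hor with rfl | ⟨hcc, hpp⟩
      · exact Or.inl hzz
      · by_cases hcz : (c : X) = z
        · exact Or.inl hcz
        obtain ⟨k, hk⟩ := h.exists_at (h.near_member (Or.inl rfl) hc ((h.commute_z hzz).1 hcc).symm hcz)
        rw [h.pp_at hzz hi hk] at hpp
        exact Or.inr (hpp ▸ hk)
    · rintro (rfl | ht)
      · exact ⟨zz, ⟨Or.inl hzz, Or.inl rfl⟩, hzz⟩
      · refine ⟨⟨t, h.mem_span (Or.inr (Or.inl ht.1))⟩, ⟨Or.inr (Or.inl ht.1), Or.inr ⟨?_, ?_⟩⟩, rfl⟩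
        · exact (h.commute_z hzz).2 ht.1.2.1
        · exact (h.pp_at hzz hi (show h.At (Subtype.val (⟨t, h.mem_span (Or.inr (Or.inl ht.1))⟩ : ↥h.span)) i from ht)).2 rfl
  rw [← Set.ncard_image_of_injective _ Subtype.val_injective, e,
    Set.ncard_insert_of_notMem (fun e0 => e0.1.2.2 rfl) (Set.toFinite _), h.fibre_card hni]

theorem isThick : Thick h.cls' where
  grp := h.isTT hni
  cls := h.isCls hni
  perf := h.isPerfect hni
  rad := h.no_solvable hni
  twins := by
    obtain ⟨i, hi⟩ := h.exists_at hni.choose_spec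
    obtain ⟨b, hb, hne⟩ : ∃ b, h.At b i ∧ b ≠ hni.choose :=
      Set.exists_ne_of_one_lt_ncard (by rw [h.fibre_card hni]; norm_num : 1 < {t | h.At t i}.ncard) _
    refine ⟨⟨z, h.mem_span (Or.inl rfl)⟩, ⟨_, h.mem_span (Or.inr (Or.inl hi.1))⟩,
      ⟨b, h.mem_span (Or.inr (Or.inl hb.1))⟩, Or.inl rfl, (h.nb_at rfl).2 hi.1, (h.nb_at rfl).2 hb.1,
      fun e => hne (congrArg Subtype.val e).symm, h.commute_coe.2 ((h.at_commute hi hb).2 (Or.inl rfl)), fun e he => ?_⟩
    obtain ⟨k, hk⟩ := h.exists_at ((h.nb_at rfl).1 he)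
    rw [h.commute_coe, h.commute_coe, h.at_commute hi hk, h.at_commute hb hk]

theorem isFive : ∀ y ∈ h.cls', ∀ a ∈ Nb h.cls' y, (Ln h.cls' y a).ncard = 5 := by
  intro y hy a ha
  obtain ⟨g, hg⟩ := h.isCls hni y hy ⟨z, h.mem_span (Or.inl rfl)⟩ (Or.inl rfl)
  have := h.line_five hni (zz := g * y * g⁻¹) (a := g * a * g⁻¹) (by rw [hg]) (nb_conj (h.isTT hni) g ha)
  rwa [ln_conj (h.isTT hni), Set.ncard_image_of_injective _ (conj_inj g)] at this

theorem card_span : Nat.card ↥h.span = 9196830720 := by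
  have hC := h.cent_le_span hni
  set zz : ↥h.span := ⟨z, h.mem_span (Or.inl rfl)⟩
  have hst : Nat.card ↥(Subgroup.centralizer ({zz} : Set ↥h.span)) = 25920 * 512 := by
    rw [← h.card_cent]
    refine Nat.card_congr
      { toFun := fun g => ⟨(g : ↥h.span), Subgroup.mem_centralizer_singleton_iff.2
          (congrArg Subtype.val (Subgroup.mem_centralizer_singleton_iff.1 g.2))⟩
        invFun := fun g => ⟨⟨g, hC g.2⟩, Subgroup.mem_centralizer_singleton_iff.2
          (Subtype.ext (Subgroup.mem_centralizer_singleton_iff.1 g.2))⟩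
        left_inv := fun _ => rfl
        right_inv := fun _ => rfl }
  have horb : (MulAction.orbit (ConjAct ↥h.span) zz).ncard = 693 := by
    rw [← h.card_near hni, ← Set.ncard_image_of_injective _ Subtype.val_injective]
    congr 1
    ext t
    constructor
    · rintro ⟨_, ⟨g, rfl⟩, rfl⟩
      exact h.z_near (ConjAct.ofConjAct g).2
    · intro ht
      obtain ⟨g, hg, rfl⟩ := h.exists_move hni ht
      exact ⟨_, ⟨ConjAct.toConjAct ⟨g, hg⟩, rfl⟩, rfl⟩
  have h1 := MulAction.index_stabilizer (ConjAct ↥h.span) zz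
  rw [horb, ConjAct.stabilizer_eq_centralizer] at h1
  have h2 := (Subgroup.centralizer ({zz} : Set ↥h.span)).card_mul_index
  rw [hst] at h2
  have h3 : (Subgroup.centralizer ({zz} : Set ↥h.span)).index = 693 := by
    rw [← h1]
    rfl
  rw [h3] at h2
  omega

/-- The component generates the unitary group. -/
theorem span_iso : Nonempty (↥h.span ≃* Cfsg.PSU 6 FieldFour 2) := by
  obtain ⟨zz, hzz⟩ : ∃ zz : ↥h.span, (zz : X) = z := ⟨⟨z, h.mem_span (Or.inl rfl)⟩, rfl⟩
  obtain ⟨w, hw⟩ := hni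
  obtain ⟨Jw, πw, ψw, hwc⟩ := h.exists_core hw.1
  obtain ⟨i, hi⟩ := hwc.exists_at hw.symm
  obtain ⟨r, r1, -⟩ := exists_nonorth_both i i
  obtain ⟨t, ht, hte⟩ := hwc.exists_member ⟨z, hw.symm⟩ (ptV_q _ r.2).1 (ptV_q _ r.2).2
  have hn : z * t ≠ t * z := fun e => r1 ((hwc.at_commute hi ⟨ht, hte⟩).1 e)
  have htn : Near z t := Or.inr (Or.inr ⟨w, hw, ht⟩)
  have F : FischerTrans.Frame h.cls' zz ⟨t, h.mem_span htn⟩ :=
    { thick := h.isThick ⟨w, hw⟩
      five := h.isFive ⟨w, hw⟩
      hx := Or.inl hzz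
      hz := htn
      hn := fun e => hn ((h.commute_z hzz).1 e).symm }
  obtain ⟨n, hn4, ⟨e⟩, -⟩ := FischerCoord.main F
  obtain rfl := psu_dim hn4 ((Nat.card_congr e.toEquiv).symm.trans (h.card_span ⟨w, hw⟩))
  exact ⟨e⟩

end Core

end CfsgLib.Recognition.USixTwo
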