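import Cfsg.Agent.Lib.Recognition.USixTwo.Unitary

/-!
# All conjugates lie in the component

A product of two commuting conjugates has such a representation in one component only, so two conjugates of
different components have a product of odd order. An involution commuting with such a product `z w` and with a
conjugate `c` outside is then either a product of two conjugates or of three, and both are absurd.
-/

set_option autoImplicit false
set_option linter.unusedSectionVars false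

namespace CfsgLib.Recognition.USixTwo

open CfsgLib.ThreeTransp.Extraspecial
open CfsgLib.Sporadic.LargeFischer (D4 om nzd)

variable {X : Type*} [Group X] [Finite X]

/-- The power of a product moving one involution to the other. -/
theorem conj_of_odd {p c : X} (hp : p * p = 1) (hc : c * c = 1) {k : ℕ} (h : (p * c) ^ (2 * k + 1) = 1) :
    (p * c) ^ k * p * ((p * c) ^ k)⁻¹ = c := by
  have hinv : ∀ k : ℕ, p * ((p * c) ^ k)⁻¹ = (p * c) ^ k * p := by
    intro k
    induction k with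
    | zero => simp
    | succ k ih =>
      have e : p * (p * c)⁻¹ = p * c * p := by
        rw [mul_inv_rev, inv_eq_of_mul_eq_one_right hp, inv_eq_of_mul_eq_one_right hc, mul_assoc]
      calc p * ((p * c) ^ (k + 1))⁻¹ = p * (p * c)⁻¹ * ((p * c) ^ k)⁻¹ := by rw [pow_succ]; group
        _ = p * c * (p * ((p * c) ^ k)⁻¹) := by rw [e]; group
        _ = p * c * (p * c) ^ k * p := by rw [ih]; group
        _ = _ := by rw [← pow_succ']
  rw [mul_assoc, hinv, ← mul_assoc, ← pow_add]
  have h' : (p * c) ^ (k + k) * (p * c) = 1 := by rw [← pow_succ, ← two_mul, h]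
  rw [eq_inv_of_mul_eq_one_left h', mul_inv_rev, inv_eq_of_mul_eq_one_right hp, mul_assoc, hp, mul_one,
    inv_eq_of_mul_eq_one_right hc]

theorem pow_commute {p c u : X} (hp : p * u = u * p) (hc : c * u = u * c) (m : ℕ) :
    (p * c) ^ m * u = u * (p * c) ^ m := by
  have : Commute (p * c) u := Commute.mul_left hp hc
  exact (this.pow_left m).eq

/-- The elements `p (pc)^m` are conjugate to `p` or to `c`. -/
theorem reflection_conj {p c : X} (hp : p * p = 1) (hc : c * c = 1) : ∀ m : ℕ,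
    (Even m → IsConj p (p * (p * c) ^ m)) ∧ (Odd m → IsConj c (p * (p * c) ^ m)) := by
  have step : ∀ m : ℕ, IsConj (p * (p * c) ^ m) (p * (p * c) ^ (m + 2)) := fun m => by
    refine isConj_iff.2 ⟨(p * c)⁻¹, ?_⟩
    rw [inv_inv, show (p * c) ^ (m + 2) = p * c * (p * c) ^ m * (p * c) by rw [pow_succ, pow_succ', mul_assoc],
      mul_inv_rev, inv_eq_of_mul_eq_one_right hp, inv_eq_of_mul_eq_one_right hc]
    calc c * p * (p * (p * c) ^ m) * (p * c) = c * (p * p) * (p * c) ^ m * (p * c) := by group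
      _ = p * p * c * (p * c) ^ m * (p * c) := by rw [hp, mul_one, one_mul]
      _ = _ := by simp only [mul_assoc]
  intro m
  induction m using Nat.twoStepInduction with
  | zero => exact ⟨fun _ => by rw [pow_zero, mul_one], fun h => absurd h (by decide)⟩
  | one => exact ⟨fun h => absurd h (by decide), fun _ => by rw [pow_one, ← mul_assoc, hp, one_mul]⟩
  | more m ih _ =>
    exact ⟨fun h => (ih.1 ((Nat.even_add.1 h).2 (by decide))).trans (step m),
      fun h => (ih.2 ((Nat.odd_add.1 h).2 (by decide))).trans (step m)⟩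

/-- The central involution of a dihedral group of even order. -/
theorem half_power {p c : X} (hp : p * p = 1) (hc : c * c = 1) {m : ℕ} (hm : orderOf (p * c) = 2 * m) :
    (p * c) ^ m ≠ 1 ∧ (p * c) ^ m * (p * c) ^ m = 1 ∧ p * (p * c) ^ m = (p * c) ^ m * p ∧
      c * (p * c) ^ m = (p * c) ^ m * c ∧ (c * p) ^ m = (p * c) ^ m := by
  have hpos := orderOf_pos (p * c)
  have h1 : (p * c) ^ m * (p * c) ^ m = 1 := by rw [← pow_add, ← two_mul, ← hm, pow_orderOf_eq_one]
  have hcp : (c * p) ^ m = (p * c) ^ m := by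
    rw [show c * p = (p * c)⁻¹ by rw [mul_inv_rev, inv_eq_of_mul_eq_one_right hp, inv_eq_of_mul_eq_one_right hc],
      inv_pow, inv_eq_of_mul_eq_one_right h1]
  have hpc : p * (p * c) ^ m = (p * c) ^ m * p := by
    conv_lhs => rw [← hcp]
    exact (SemiconjBy.pow_right (show SemiconjBy p (c * p) (p * c) by simp [SemiconjBy, mul_assoc]) m).eq
  have hcc : c * (p * c) ^ m = (p * c) ^ m * c := by
    conv_rhs => rw [← hcp]
    exact (SemiconjBy.pow_right (show SemiconjBy c (p * c) (c * p) by simp [SemiconjBy, mul_assoc]) m).eq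
  exact ⟨pow_ne_one_of_lt_orderOf (by omega) (by omega), h1, hpc, hcc, hcp⟩

namespace Core

variable {z : X} {J : Subgroup X} {π : X → V4} {ψ : ↥(Subgroup.centralizer ({z} : Set X)) →* (V4 ≃ₗ[ZMod 2] V4)}
  (h : Core z J π ψ)
include h

theorem sq_conj {a : X} (ha : IsConj z a) : a * a = 1 := by
  obtain ⟨Ja, πa, ψa, hc⟩ := h.exists_core ha
  exact hc.extra.z_sq

theorem ntrans {a b c : X} (ha : IsConj z a) (h1 : Near a b) (h2 : Near b c) : Near a c := by
  obtain ⟨Ja, πa, ψa, hc⟩ := h.exists_core ha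
  exact hc.near_trans h1 h2

theorem pair_not_conj {x y : X} (hx : IsConj z x) (hy : Member x y) : ¬ IsConj z (x * y) := by
  obtain ⟨Jx, πx, ψx, hc⟩ := h.exists_core hx
  obtain ⟨J', π', ψ', P⟩ := hc.exists_couple hy.1 hy.2.1 hy.2.2
  intro e
  exact P.mul_not_conj (by rw [hy.2.1]; exact hx.symm.trans e)

theorem near_braid {x e : X} (hx : IsConj z x) (he : Near x e) : x * e = e * x ∨ x * e * x = e * x * e := by
  obtain ⟨Jx, πx, ψx, hc⟩ := h.exists_core hx
  refine (hc.near_order (Or.inl rfl) he).imp id fun e3 => ?_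
  have e1 := h.sq_conj hx
  have e2 := h.sq_conj (hx.trans he.isConj)
  calc x * e * x = (x * e) ^ 3 * (e⁻¹ * x⁻¹ * e⁻¹) := by rw [pow_three]; group
    _ = _ := by rw [e3, one_mul, inv_eq_of_mul_eq_one_right e1, inv_eq_of_mul_eq_one_right e2]

/-- A member of the component fixing a product of a commuting pair fixes both. -/
theorem pair_commute {x y e : X} (hx : IsConj z x) (hy : Member x y) (he : Near x e)
    (hc : e * (x * y) = x * y * e) : e * x = x * e ∧ e * y = y * e := by
  have hxy : IsConj z y := hx.trans hy.1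
  have hxx := h.sq_conj hx
  have hyy := h.sq_conj hxy
  have hee := h.sq_conj (hx.trans he.isConj)
  have hye : Near y e := h.ntrans hxy (Or.inr (Or.inl hy.symm)) he
  by_cases h1 : e * x = x * e
  · refine ⟨h1, mul_left_cancel (a := x) ?_⟩
    rw [← mul_assoc, ← h1, mul_assoc, hc, mul_assoc]
  exfalso
  have h2 : ¬ e * y = y * e := fun e2 => h1 (mul_right_cancel (b := y) (by
    rw [mul_assoc, hc, mul_assoc x y e, ← e2, ← mul_assoc]))
  have b1 := (h.near_braid hx he).resolve_left fun e0 => h1 e0.symm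
  have b2 := (h.near_braid hxy hye).resolve_left fun e0 => h2 e0.symm
  have e1 : y * e * y = x * e * x := by
    calc y * e * y = x * (x * y) * e * y := by rw [← mul_assoc x x y, hxx, one_mul]
      _ = x * (e * (x * y)) * y := by rw [hc]; group
      _ = x * e * x * (y * y) := by group
      _ = _ := by rw [hyy, mul_one]
  rw [b1, b2] at e1
  exact hy.2.2 (mul_left_cancel (mul_right_cancel e1))

/-- Product representations in one component are unique. -/
theorem prod_unique {x y x' y' : X} (hx : IsConj z x) (hy : Member x y) (hn : Near x x') (hy' : Member x' y')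
    (e : x * y = x' * y') : x' = x ∨ x' = y := by
  have hx'2 := h.sq_conj (hx.trans hn.isConj)
  obtain ⟨c1, -⟩ := h.pair_commute hx hy hn (by
    rw [e, ← mul_assoc, hx'2, one_mul, mul_assoc, hy'.2.1, ← mul_assoc, hx'2, one_mul])
  by_contra hcon
  push Not at hcon
  obtain ⟨Jx, πx, ψx, hc⟩ := h.exists_core hx
  have hmx' : Member x x' := hc.near_member (Or.inl rfl) hn c1.symm hcon.1
  have hy'eq : y' = x' * (x * y) := by rw [e, ← mul_assoc, hx'2, one_mul]
  by_cases hyx : y' = x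
  · apply hcon.2
    rw [hyx, c1] at e
    exact (mul_left_cancel e).symm
  have c2 : y' * x = x * y' := by
    rw [hy'eq, mul_assoc, mul_assoc x y x, hy.2.1, ← mul_assoc x' x, c1, mul_assoc]
  have hmy' : Member x y' := ⟨hn.isConj.trans hy'.1, c2, hyx⟩
  obtain ⟨a, ha, ha0, ea⟩ := hc.member_point hy
  obtain ⟨b, hb, hb0, eb⟩ := hc.member_point hmx'
  obtain ⟨d, hd, hd0, ed⟩ := hc.member_point hmy'
  have key : tv b * tv d = tv a := by
    rw [← ea, ← eb, ← ed, ← map_mul, show cz hmx'.2.1 * cz hmy'.2.1 = cz (rfl : x * x = x * x) * cz hy.2.1 from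
      Subtype.ext e.symm, map_mul, (hc.ker (cz rfl)).2 hc.extra.z_mem, one_mul]
  by_cases hne : tv b = tv d
  · rw [hne, tv_mul_self] at key
    exact tv_ne_one ha ha0 key.symm
  · refine pair_ne_tv hb hb0 hd hd0 ?_ hne ha ha0 key
    by_contra h0
    exact (tv_braid hb hd h0).2 (by
      rw [← eb, ← ed, ← map_mul, ← map_mul]
      exact congrArg ψx (Subtype.ext hy'.2.1.symm))

/-- The members commuting with all common neighbours of two. -/
def OnLine (_h : Core z J π ψ) (x y e : X) : Prop :=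
  Near x e ∧ ∀ d, Near x d → d * x = x * d → d * y = y * d → d * e = e * d

/-- Being on the line is having the same point. -/
theorem online_iff {x y e : X} {Jx : Subgroup X} {πx : X → V4}
    {ψx : ↥(Subgroup.centralizer ({x} : Set X)) →* (V4 ≃ₗ[ZMod 2] V4)} (hc : Core x Jx πx ψx) {i : Fin 45}
    (hy : hc.At y i) : h.OnLine x y e ↔ e = x ∨ hc.At e i := by
  obtain ⟨hym, -⟩ := id hy
  constructor
  · rintro ⟨he, hall⟩
    by_cases hex : e = x
    · exact Or.inl hex
    right
    have c1 : x * e = e * x := hall x (Or.inl rfl) rfl hym.2.1.symm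
    obtain ⟨k, hk⟩ := hc.exists_at (hc.near_member (Or.inl rfl) he c1 hex)
    by_contra hne
    obtain ⟨r, r1, r2⟩ := exists_separating (i := i) (j := k) fun e0 => hne (e0 ▸ hk)
    obtain ⟨m, hm', hme⟩ := hc.exists_member ⟨y, hym⟩ (ptV_q _ r.2).1 (ptV_q _ r.2).2
    have hat : hc.At m r := ⟨hm', hme⟩
    exact r2 ((hc.at_commute hk hat).1
      (hall m (Or.inr (Or.inl hm')) hm'.2.1 ((hc.at_commute hy hat).2 r1).symm).symm)
  · rintro (rfl | he)
    · exact ⟨Or.inl rfl, fun d _ h1 _ => h1⟩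
    obtain ⟨hem, -⟩ := id he
    refine ⟨Or.inr (Or.inl hem), fun d hd h1 h2 => ?_⟩
    by_cases hdx : d = x
    · rw [hdx]; exact hem.2.1.symm
    obtain ⟨r, hr⟩ := hc.exists_at (hc.near_member (Or.inl rfl) hd h1.symm hdx)
    exact ((hc.at_commute he hr).2 ((hc.at_commute hy hr).1 h2.symm)).symm

theorem online_symm {x y e : X} (hx : IsConj z x) (hy : Member x y) (he : h.OnLine x y e) : h.OnLine y x e :=
  ⟨h.ntrans (hx.trans hy.1) (Or.inr (Or.inl hy.symm)) he.1,
    fun d hd h1 h2 => he.2 d (h.ntrans hx (Or.inr (Or.inl hy)) hd) h2 h1⟩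

theorem online_conj {x y e : X} (g : X) (he : h.OnLine x y e) :
    h.OnLine (g * x * g⁻¹) (g * y * g⁻¹) (g * e * g⁻¹) := by
  refine ⟨he.1.conjBy g, fun d hd h1 h2 => ?_⟩
  have key := he.2 (g⁻¹ * d * g) (by
    have := hd.conjBy g⁻¹
    simpa [mul_assoc] using this) ?_ ?_
  · calc d * (g * e * g⁻¹) = g * ((g⁻¹ * d * g) * e) * g⁻¹ := by group
      _ = _ := by rw [key]; group
  · calc g⁻¹ * d * g * x = g⁻¹ * (d * (g * x * g⁻¹)) * g := by group
      _ = _ := by rw [h1]; group
  · calc g⁻¹ * d * g * y = g⁻¹ * (d * (g * y * g⁻¹)) * g := by group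
      _ = _ := by rw [h2]; group

/-- The other three members of a line. -/
theorem five_line {x y : X} (hx : IsConj z x) (hy : Member x y) :
    (∀ e, h.OnLine x y e → e ≠ x → Member x e ∧ (e ≠ y → Member y e)) ∧
    (∀ p q, h.OnLine x y p → h.OnLine x y q → p ≠ x → p ≠ y → q ≠ x → q ≠ y → p ≠ q →
      h.OnLine x y (x * y * (p * q)) ∧ x * y * (p * q) ≠ x ∧ x * y * (p * q) ≠ y ∧ x * y * (p * q) ≠ p ∧
        x * y * (p * q) ≠ q ∧ x * y * (p * q) * p = p * (x * y * (p * q)) ∧ p * q = q * p) ∧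
    ∃ p q, h.OnLine x y p ∧ h.OnLine x y q ∧ p ≠ x ∧ p ≠ y ∧ q ≠ x ∧ q ≠ y ∧ p ≠ q := by
  obtain ⟨Jx, πx, ψx, hc⟩ := h.exists_core hx
  obtain ⟨i, hi⟩ := hc.exists_at hy
  obtain ⟨J', π', ψ', P⟩ := hc.exists_couple hy.1 hy.2.1 hy.2.2
  obtain ⟨f, hinj, hf0, hfive, hfz, hrel⟩ := P.exists_index
  have hat : ∀ c, hc.At (f c) i := fun c => by
    obtain ⟨j, hj, e⟩ := ((hfive (f c)).2 (Or.inr ⟨c, rfl⟩)).resolve_left (hfz c)
    obtain ⟨hm', hψ⟩ := hc.member_conj ⟨j, hc.mem_cent hj⟩ hy
    have hm2 : Member x (f c) := e ▸ hm'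
    refine ⟨hm2, ?_⟩
    obtain ⟨_, ey⟩ := hi
    have := hψ hm'.2.1
    rw [(hc.ker ⟨j, _⟩).2 hj, one_mul, inv_one, mul_one, ey] at this
    rw [← this]
    exact congrArg ψx (Subtype.ext e)
  have hsurj : ∀ e, h.OnLine x y e → e ≠ x → ∃ c, f c = e := by
    intro e he hne
    obtain ⟨hem, ee⟩ := ((h.online_iff hc hi).1 he).resolve_left hne
    obtain ⟨_, ey⟩ := hi
    exact ((hfive e).1 (Or.inr (P.coset hem.2.1 hem.1 (ee.trans ey.symm)))).resolve_left hem.2.2
  have hon : ∀ c, h.OnLine x y (f c) := fun c => (h.online_iff hc hi).2 (Or.inr (hat c))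
  have hcomm : ∀ c d, f c * f d = f d * f c := fun c d => (hc.at_commute (hat c) (hat d)).2 (Or.inl rfl)
  refine ⟨fun e he hne => ?_, fun p q hp hq hpx hpy hqx hqy hpq => ?_, ⟨f (1, 0), f (0, 1), hon _, hon _, hfz _,
    fun e => absurd (hinj (e.trans hf0.symm)) (by decide), hfz _,
    fun e => absurd (hinj (e.trans hf0.symm)) (by decide), fun e => absurd (hinj e) (by decide)⟩⟩
  · obtain ⟨c, rfl⟩ := hsurj e he hne
    obtain ⟨hm', -⟩ := hat c
    exact ⟨hm', fun e0 => ⟨hy.1.symm.trans hm'.1, by rw [← hf0]; exact hcomm c 0, e0⟩⟩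
  obtain ⟨c, rfl⟩ := hsurj p hp hpx
  obtain ⟨d, rfl⟩ := hsurj q hq hqx
  have hc0 : c ≠ 0 := fun e => hpy (by rw [e, hf0])
  have hd0 : d ≠ 0 := fun e => hqy (by rw [e, hf0])
  have hcd : c ≠ d := fun e => hpq (by rw [e])
  have hr : x * y * (f c * f d) = f (c + d) := by
    have e := hrel c d hc0 hd0 hcd
    rw [show f 0 * f c * (f 0 * f d) = f c * (f 0 * f 0) * f d by rw [hcomm 0 c]; group, hf0, P.ww, mul_one] at e
    rw [e, ← mul_assoc (x * y), show x * y * x = y * (x * x) by rw [← hy.2.1, mul_assoc], P.zz, mul_one, ← mul_assoc,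
      P.ww, one_mul]
  rw [hr]
  obtain ⟨s1, s2, s3⟩ := (by decide : ∀ c d : D4, c ≠ 0 → d ≠ 0 → c ≠ d → c + d ≠ 0 ∧ c + d ≠ c ∧ c + d ≠ d) c d hc0 hd0 hcd
  exact ⟨hon _, hfz _, fun e => s1 (hinj (e.trans hf0.symm)), fun e => s2 (hinj e), fun e => s3 (hinj e),
    hcomm _ _, hcomm _ _⟩

/-- A product of a commuting pair is not one from another component. -/
theorem no_double_pair {x y c d : X} (hx : IsConj z x) (hy : Member x y) (hcd : Member c d) (hn : ¬ Near x c)
    (hc : IsConj z c) (e : x * y = c * d) : False := by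
  set u := x * y with hu
  have hxx := h.sq_conj hx
  have hyy := h.sq_conj (hx.trans hy.1)
  have hcc := h.sq_conj hc
  have huc : c * u = u * c := by rw [e, mul_assoc, hcd.2.1]
  have huu : u * u = 1 := by
    calc u * u = x * (y * x) * y := by rw [hu]; group
      _ = x * x * (y * y) := by rw [hy.2.1]; group
      _ = 1 := by rw [hxx, hyy, one_mul]
  obtain ⟨hmem, hthird, p₁, p₂, hp₁, hp₂, n1, n2, n3, n4, n5⟩ := h.five_line hx hy
  have hout : ∀ r, Near x r → ¬ (c * r = r * c) := by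
    intro r hr e0
    by_cases hrc : c = r
    · exact hn (hrc ▸ hr)
    exact hn (h.ntrans hx hr (Or.inr (Or.inl ⟨(hx.trans hr.isConj).symm.trans hc, e0, hrc⟩)))
  have key : ∀ p, h.OnLine x y p → p ≠ x → p ≠ y → c * (p * x) = p * x * c := by
    intro p hp hpx hpy
    obtain ⟨hpm, hpy'⟩ := hmem p hp hpx
    have hpu : p * u = u * p := by rw [hu, ← mul_assoc, hpm.2.1, mul_assoc, (hpy' hpy).2.1, mul_assoc]
    have hpc : IsConj z p := hx.trans hpm.1
    have hpp := h.sq_conj hpc
    rcases Nat.even_or_odd' (orderOf (p * c)) with ⟨m, hm | hm⟩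
    swap
    · exfalso
      have hk := conj_of_odd hpp hcc (k := m) (by rw [← hm, pow_orderOf_eq_one])
      set g := (p * c) ^ m
      have hgu : g⁻¹ * u * g = u := by
        rw [mul_assoc, ← pow_commute hpu huc m, inv_mul_cancel_left]
      have hpd : Member p (g⁻¹ * d * g) := by
        have h1 := hcd.conjBy g⁻¹
        rw [inv_inv, show g⁻¹ * c * g = p by rw [← hk]; group] at h1
        exact h1
      rcases h.prod_unique hx hy hp.1 hpd (by
        rw [← hu, ← hgu, e, show p = g⁻¹ * c * g by rw [← hk]; group]; group) with e' | e'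
      · exact hpx e'
      · exact hpy e'
    obtain ⟨hj1, hjj, hjp, hjc, -⟩ := half_power hpp hcc hm
    set j := (p * c) ^ m with hj
    set q := p * j with hq
    have hju : j * u = u * j := pow_commute hpu huc m
    have hqu : q * u = u * q := by rw [hq, mul_assoc, hju, ← mul_assoc, hpu, mul_assoc]
    have hqconj : IsConj z q := by
      rcases Nat.even_or_odd m with hev | hodd
      · exact hpc.trans ((reflection_conj hpp hcc m).1 hev)
      · exact hc.trans ((reflection_conj hpp hcc m).2 hodd)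
    have hpq : Member p q := ⟨hpc.symm.trans hqconj, by rw [hq, mul_assoc, ← hjp],
      fun e0 => hj1 (mul_eq_left.1 e0)⟩
    have hqn : Near x q := h.ntrans hx hp.1 (Or.inr (Or.inl hpq))
    have hq' : q = x ∨ q = y := by
      rcases Nat.even_or_odd' m with ⟨k, hk | hk⟩
      · set t := (p * c) ^ k with ht
        have htu : t * u * t⁻¹ = u := by rw [ht, pow_commute hpu huc k, mul_inv_cancel_right]
        have htp : t * p * t⁻¹ = q := by
          have e1 : p * t⁻¹ = t * p := by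
            rw [ht, ← inv_pow, mul_inv_rev, inv_eq_of_mul_eq_one_right hpp, inv_eq_of_mul_eq_one_right hcc]
            exact (SemiconjBy.pow_right (show SemiconjBy p (c * p) (p * c) by simp [SemiconjBy, mul_assoc]) k).eq
          rw [mul_assoc, e1, ← mul_assoc, hjp, hj, hk, ht, ← pow_add, two_mul]
        have hxt : IsConj z (t * x * t⁻¹) := hx.trans (isConj_iff.2 ⟨t, rfl⟩)
        have hnx : Near x (t * x * t⁻¹) := h.ntrans hx hqn (by
          have := (hp.1.conjBy t).symm
          rwa [htp] at this)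
        have hprod : x * y = t * x * t⁻¹ * (t * y * t⁻¹) := by
          rw [← hu, ← htu, hu]; group
        have hon : h.OnLine x y q := by
          have := h.online_conj t hp
          rw [htp] at this
          rcases h.prod_unique hx hy hnx (hy.conjBy t) hprod with e' | e'
          · rw [e'] at hprod this
            rwa [← mul_left_cancel hprod] at this
          · rw [e'] at hprod this
            rw [← hy.2.1] at hprod
            rw [← mul_left_cancel hprod] at this
            exact h.online_symm (hx.trans hy.1) hy.symm this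
        by_cases hqx : q = x
        · exact Or.inl hqx
        by_cases hqy : q = y
        · exact Or.inr hqy
        exfalso
        obtain ⟨hr, -⟩ := hthird p q hp hon hpx hpy hqx hqy hpq.2.2.symm
        refine hout _ hr.1 ?_
        rw [hq, ← mul_assoc p, hpp, one_mul, ← mul_assoc, huc, mul_assoc, hjc, ← mul_assoc]
      · have hdu : d = c * u := by rw [e, ← mul_assoc, hcc, one_mul]
        have hdd := h.sq_conj (hc.trans hcd.1)
        have hpd : (p * d) ^ m = j * u := by
          have hcom : Commute (p * c) u := Commute.mul_left hpu huc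
          rw [hdu, ← mul_assoc, hcom.mul_pow, hk, pow_succ u, pow_mul, pow_two, huu, one_pow, one_mul, ← hk]
        have hq1 : IsConj z (q * u) := by
          refine (hc.trans hcd.1).trans ?_
          have := (reflection_conj hpp hdd m).2 ⟨k, hk⟩
          rw [hpd, ← mul_assoc] at this
          exact this
        have hm1 : Member q (q * u) := ⟨hqconj.symm.trans hq1, by rw [mul_assoc, ← hqu],
          fun e0 => by
            have : u = 1 := mul_eq_left.1 e0
            rw [hu] at this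
            exact hy.2.2 ((eq_inv_of_mul_eq_one_right this).trans (inv_eq_of_mul_eq_one_right hxx))⟩
        exact h.prod_unique hx hy hqn hm1 (by rw [← hu, ← mul_assoc, h.sq_conj hqconj, one_mul])
    have hjq : j = p * q := by rw [hq, ← mul_assoc, hpp, one_mul]
    rcases hq' with e' | e'
    · rw [← e', ← hjq]; exact hjc
    · have : p * x = j * u := by
        rw [hjq, e', hu, show p * y * (x * y) = p * (y * x * y) by group, hy.2.1, mul_assoc x y y, hyy, mul_one]
      rw [this, ← mul_assoc, hjc, mul_assoc j, huc, ← mul_assoc]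
  obtain ⟨hr, r1, r2, -, -, hrp, hpq⟩ := hthird p₁ p₂ hp₁ hp₂ n1 n2 n3 n4 n5
  set r := x * y * (p₁ * p₂) with hrdef
  refine hout y (Or.inr (Or.inl hy)) ?_
  have hyeq : y = (p₁ * x) * (p₂ * x) * (r * x) := by
    have c1 := (hmem p₁ hp₁ n1).1.2.1
    have c2 := (hmem p₂ hp₂ n3).1.2.1
    have c3 := (hmem r hr r1).1.2.1
    have hp1 := h.sq_conj (hx.trans (hmem p₁ hp₁ n1).1.1)
    have hp2 := h.sq_conj (hx.trans (hmem p₂ hp₂ n3).1.1)
    have hsq : p₁ * p₂ * (p₁ * p₂) = 1 := by
      calc p₁ * p₂ * (p₁ * p₂) = p₁ * (p₂ * p₁) * p₂ := by group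
        _ = p₁ * p₁ * (p₂ * p₂) := by rw [← hpq]; group
        _ = 1 := by rw [hp1, hp2, one_mul]
    have cr2 : p₂ * x * (r * x) = p₂ * r := by
      rw [mul_assoc p₂, ← mul_assoc x, ← c3, mul_assoc r, hxx, mul_one]
    have cr : p₂ * r * x = x * (p₂ * r) := by rw [mul_assoc, c3, ← mul_assoc, c2, mul_assoc]
    have hpr : p₁ * (p₂ * r) = r * (p₁ * p₂) := by
      have h2 : p₂ * r = r * p₂ := by
        obtain ⟨-, -, -, -, -, h2, -⟩ := hthird p₂ p₁ hp₂ hp₁ n3 n4 n1 n2 n5.symm
        rw [← hpq, ← hrdef] at h2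
        exact h2.symm
      rw [h2, ← mul_assoc, ← hrp, mul_assoc]
    rw [mul_assoc (p₁ * x), cr2, mul_assoc p₁, ← cr, ← mul_assoc p₁, hpr, hrdef, mul_assoc (x * y), hsq, mul_one,
      mul_assoc, hy.2.1, ← mul_assoc, hxx, one_mul]
  rw [hyeq]
  exact ((Commute.mul_right (key p₁ hp₁ n1 n2) (key p₂ hp₂ n3 n4)).mul_right (key r hr r1 r2)).eq

/-- Two conjugates of different components have a product of odd order. -/
theorem cross_odd {p c : X} (hp : IsConj z p) (hc : IsConj z c) (hn : ¬ Near p c) :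
    ∃ k, orderOf (p * c) = 2 * k + 1 := by
  rcases Nat.even_or_odd' (orderOf (p * c)) with ⟨m, hm | hm⟩
  swap
  · exact ⟨m, hm⟩
  exfalso
  have hpp := h.sq_conj hp
  have hcc := h.sq_conj hc
  obtain ⟨hj1, hjj, hjp, hjc, hcp⟩ := half_power hpp hcc hm
  have hconj : IsConj z (p * (p * c) ^ m) ∧ IsConj z (c * (p * c) ^ m) := by
    rcases Nat.even_or_odd m with hev | hodd
    · exact ⟨hp.trans ((reflection_conj hpp hcc m).1 hev), hc.trans (hcp ▸ (reflection_conj hcc hpp m).1 hev)⟩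
    · exact ⟨hc.trans ((reflection_conj hpp hcc m).2 hodd), hp.trans (hcp ▸ (reflection_conj hcc hpp m).2 hodd)⟩
  set j := (p * c) ^ m
  refine h.no_double_pair hp (y := p * j) (d := c * j) ⟨hp.symm.trans hconj.1, by rw [mul_assoc, ← hjp],
    fun e => hj1 (mul_eq_left.1 e)⟩ ⟨hc.symm.trans hconj.2, by rw [mul_assoc, ← hjc],
    fun e => hj1 (mul_eq_left.1 e)⟩ hn hc ?_
  rw [← mul_assoc, hpp, ← mul_assoc, hcc]

/-- Two conjugates of different components centralising an element are moved to each other centralising it. -/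
theorem cross_move {p c i : X} (hp : IsConj z p) (hc : IsConj z c) (hn : ¬ Near p c) (hpi : p * i = i * p)
    (hci : c * i = i * c) : ∃ g, g * p * g⁻¹ = c ∧ g * i = i * g := by
  obtain ⟨k, hk⟩ := h.cross_odd hp hc hn
  exact ⟨_, conj_of_odd (h.sq_conj hp) (h.sq_conj hc) (k := k) (by rw [← hk, pow_orderOf_eq_one]),
    pow_commute hpi hci k⟩

/-- Only members of the component centralise a product of two of its members. -/
theorem pair_cent {x y c : X} (hx : IsConj z x) (hy : Member x y) (hc : IsConj z c)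
    (hcu : c * (x * y) = x * y * c) : Near x c := by
  by_contra hn
  have hxu : x * (x * y) = x * y * x := by rw [mul_assoc x y x, hy.2.1]
  obtain ⟨g, hg, hgu⟩ := h.cross_move hx hc hn hxu hcu
  refine h.no_double_pair hx hy (hg ▸ hy.conjBy g) hn hc ?_
  rw [← hg, show g * x * g⁻¹ * (g * y * g⁻¹) = g * (x * y) * g⁻¹ by group, hgu, mul_inv_cancel_right]

/-- An element fixing a component fixes one of its members. -/
theorem fix_member {t g : X} (ht : IsConj z t) (hg : g * g = 1) (hfix : Near t (g * t * g⁻¹)) :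
    ∃ e, Near t e ∧ g * e = e * g := by
  classical
  obtain ⟨Jt, πt, ψt, hc⟩ := h.exists_core ht
  let S := {e // Near t e}
  haveI : Fintype S := Fintype.ofFinite S
  by_cases hni : ∃ w, Member t w
  swap
  · refine ⟨t, Or.inl rfl, ?_⟩
    rcases hfix with e | e | ⟨q, hq, -⟩
    · exact mul_inv_eq_iff_eq_mul.1 e
    · exact absurd ⟨_, e⟩ hni
    · exact absurd ⟨_, hq⟩ hni
  let φ : S → S := fun e => ⟨g * e.1 * g⁻¹, h.ntrans ht hfix (e.2.conjBy g)⟩
  have hφ : Function.Involutive φ := fun e => Subtype.ext (by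
    show g * (g * e.1 * g⁻¹) * g⁻¹ = e.1
    rw [show g * (g * e.1 * g⁻¹) * g⁻¹ = g * g * e.1 * (g * g)⁻¹ by group, hg]; group)
  have hcard : ¬ 2 ∣ Fintype.card S := by
    have := hc.card_near hni
    rw [← Nat.card_coe_set_eq] at this
    change Nat.card S = 693 at this
    rw [← Nat.card_eq_fintype_card, this]
    norm_num
  haveI : Fact (Nat.Prime 2) := ⟨Nat.prime_two⟩
  obtain ⟨e, he⟩ := Equiv.Perm.exists_fixed_point_of_prime (p := 2) (n := 1) hcard (σ := hφ.toPerm)
    (Equiv.ext fun e => by simp [pow_two, Equiv.Perm.mul_apply, hφ e])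
  exact ⟨e.1, e.2, mul_inv_eq_iff_eq_mul.1 (congrArg Subtype.val he)⟩

/-- A product of three members is not that of a pair. -/
theorem triple_not_pair {f g d x y : X} (hf : IsConj z f) (hg : Member f g) (hd : Member f d)
    (hgd : Member g d) (hoff : ¬ h.OnLine f g d) (hy : Member x y) (hx : IsConj z x) :
    x * y ≠ f * (g * d) := by
  intro e
  have hff := h.sq_conj hf
  have hfu : f * (x * y) = x * y * f := by
    rw [e, mul_assoc f (g * d) f, mul_assoc g d f, hd.2.1, ← mul_assoc g f d, hg.2.1, mul_assoc f g d]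
  have hnx : Near x f := h.pair_cent hx hy hf hfu
  obtain ⟨c1, c2⟩ := h.pair_commute hx hy hnx hfu
  obtain ⟨Jf, πf, ψf, hc⟩ := h.exists_core hf
  by_cases hxf : x = f
  · rw [hxf] at e
    exact h.pair_not_conj (hf.trans hg.1) hgd (mul_left_cancel e ▸ hx.trans hy.1)
  by_cases hyf : y = f
  · rw [hyf, ← c1] at e
    exact h.pair_not_conj (hf.trans hg.1) hgd (mul_left_cancel e ▸ hx)
  have mx : Member f x := ⟨hnx.isConj.symm, c1.symm, hxf⟩
  have my : Member f y := ⟨hnx.isConj.symm.trans hy.1, c2.symm, hyf⟩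
  obtain ⟨ig, hig⟩ := hc.exists_at hg
  obtain ⟨id', hid⟩ := hc.exists_at hd
  obtain ⟨ix, hix⟩ := hc.exists_at mx
  obtain ⟨iy, hiy⟩ := hc.exists_at my
  have hgd_ne : ig ≠ id' := fun e0 => hoff ((h.online_iff hc hig).2 (Or.inr (e0 ▸ hid)))
  have key : tvP ix * tvP iy = tvP ig * tvP id' := by
    obtain ⟨_, ex⟩ := hix
    obtain ⟨_, ey⟩ := hiy
    obtain ⟨_, eg⟩ := hig
    obtain ⟨_, ed⟩ := hid
    rw [← ex, ← ey, ← eg, ← ed, ← map_mul, ← map_mul,
      show cz mx.2.1 * cz my.2.1 = cz (rfl : f * f = f * f) * (cz hg.2.1 * cz hd.2.1) from Subtype.ext e,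
      map_mul, (hc.ker (cz rfl)).2 hc.extra.z_mem, one_mul]
  have horth : ∀ {i k : Fin 45}, i ≠ k → tvP i * tvP k = tvP k * tvP i → hm (ptV i) (ptV k) = 0 := fun hne e0 =>
    ((orthP_iff _ _).1 (((tvP_commute_iff _ _).1 e0).resolve_left hne)).2
  have hxy_ne : ix ≠ iy := by
    intro e0
    rw [e0, show tvP iy * tvP iy = 1 from tv_mul_self _] at key
    exact hgd_ne (tvP_inj ((eq_inv_of_mul_eq_one_left key.symm).trans (inv_eq_of_mul_eq_one_right (tv_mul_self _))))
  have hcx := (tvP_commute_iff ix iy).2 ((hc.at_commute hix hiy).1 hy.2.1.symm)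
  have hcg := (tvP_commute_iff ig id').2 ((hc.at_commute hig hid).1 hgd.2.1.symm)
  obtain ⟨x', y', hmx, hmy, hxy', hgx, hdy⟩ : ∃ x' y', Member x' y' ∧ IsConj z x' ∧ x' * y' = f * (g * d) ∧
      hc.At x' ig ∧ hc.At y' id' := by
    rcases pair_unique (ptV_q _ ix.2).1 (ptV_q _ ix.2).2 (ptV_q _ iy.2).1 (ptV_q _ iy.2).2 (horth hxy_ne hcx)
      (fun e0 => hxy_ne (tvP_inj e0)) (ptV_q _ ig.2).1 (ptV_q _ ig.2).2 (ptV_q _ id'.2).1 (ptV_q _ id'.2).2
      (horth hgd_ne hcg) (fun e0 => hgd_ne (tvP_inj e0)) key with ⟨e1, e2⟩ | ⟨e1, e2⟩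
    · exact ⟨x, y, hy, hx, e, tvP_inj e1 ▸ hix, tvP_inj e2 ▸ hiy⟩
    · exact ⟨y, x, hy.symm, hx.trans hy.1, by rw [hy.2.1]; exact e, tvP_inj e2 ▸ hiy, tvP_inj e1 ▸ hix⟩
  obtain ⟨mx', -⟩ := id hgx
  obtain ⟨my', -⟩ := id hdy
  have hfd' : f * (g * d) = g * (f * d) := by rw [← mul_assoc, ← hg.2.1, mul_assoc]
  have hx'g : x' ≠ g := by
    intro e0
    rw [e0, hfd'] at hxy'
    exact h.pair_not_conj hf hd (mul_left_cancel hxy' ▸ hmy.trans hmx.1)
  have hy'd : y' ≠ d := by
    intro e0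
    rw [e0, ← mul_assoc f g d] at hxy'
    exact h.pair_not_conj hf hg (mul_right_cancel hxy' ▸ hmy)
  obtain ⟨hmem, hthird, p, q, hp, hq, n1, n2, n3, n4, n5⟩ := h.five_line hf hg
  have hxon : h.OnLine f g x' := (h.online_iff hc hig).2 (Or.inr hgx)
  obtain ⟨p', hp', m1, m2, m3⟩ : ∃ p', h.OnLine f g p' ∧ p' ≠ f ∧ p' ≠ g ∧ x' ≠ p' := by
    by_cases e0 : x' = p
    · exact ⟨q, hq, n3, n4, e0 ▸ n5⟩
    · exact ⟨p, hp, n1, n2, e0⟩
  obtain ⟨hr, r1, -, -, r4, -, hxp⟩ := hthird x' p' hxon hp' mx'.2.2 hx'g m1 m2 m3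
  set r := f * g * (x' * p') with hrdef
  have hyd : Member y' d :=
    ⟨my'.1.symm.trans hd.1, ((hc.at_commute hid hdy).2 (Or.inl rfl)), hy'd.symm⟩
  have hp'm := (hmem p' hp' m1).1
  have hrp : Member r p' := by
    obtain ⟨Jr, -⟩ := hmem r hr r1
    refine ⟨Jr.1.symm.trans hp'm.1, ?_, fun e0 => r4 e0.symm⟩
    exact (hp'.2 r hr.1 (hr.2 f (Or.inl rfl) rfl hg.2.1.symm).symm
      (hr.2 g (Or.inr (Or.inl hg)) hg.2.1 rfl).symm).symm
  have hprod : y' * d = r * p' := by
    have hxx := h.sq_conj hmy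
    have hdd := h.sq_conj (hf.trans hd.1)
    have hpp := h.sq_conj (hf.trans hp'm.1)
    have cfg : f * g * x' = x' * (f * g) := by
      rw [mul_assoc, hxon.2 g (Or.inr (Or.inl hg)) hg.2.1 rfl, ← mul_assoc, ← mx'.2.1, mul_assoc]
    calc y' * d = x' * (x' * y') * d := by rw [← mul_assoc x' x', hxx, one_mul]
      _ = x' * (f * g) * (d * d) := by rw [hxy']; group
      _ = f * g * x' * (p' * p') := by rw [hdd, hpp, mul_one, mul_one, cfg]
      _ = r * p' := by rw [hrdef]; group
  have hny : Near y' r := h.ntrans (hf.trans my'.1) (Or.inr (Or.inl my'.symm)) hr.1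
  have heq := h.prod_unique (hf.trans my'.1) hyd hny hrp hprod
  have hne : ∀ e', h.OnLine f g e' → hc.At e' id' → False := fun e' he' hat => by
    obtain ⟨hem, -⟩ := id hat
    exact hgd_ne (hc.at_unique (((h.online_iff hc hig).1 he').resolve_left hem.2.2) hat)
  rcases heq with e0 | e0
  · exact hne r hr (e0 ▸ hdy)
  · exact hne r hr (e0 ▸ hid)

variable (hni : ∃ w, Member z w)
include hni

/-- Every conjugate lies in the component. -/
theorem all_near {c : X} (hc : IsConj z c) : Near z c := by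
  by_contra hn
  obtain ⟨w, hw⟩ := hni
  set u := z * w with hu
  have hz : IsConj z z := IsConj.refl z
  have hcc := h.sq_conj hc
  have hww := h.sq_conj hw.1
  have huu : u * u = 1 := by
    calc u * u = z * (w * z) * w := by rw [hu]; group
      _ = z * z * (w * w) := by rw [hw.2.1]; group
      _ = 1 := by rw [h.extra.z_sq, hww, one_mul]
  rcases Nat.even_or_odd' (orderOf (u * c)) with ⟨m, hm | hm⟩
  swap
  · have := conj_of_odd huu hcc (k := m) (by rw [← hm, pow_orderOf_eq_one])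
    exact h.pair_not_conj hz hw (hc.trans (isConj_iff.2 ⟨_, this⟩).symm)
  obtain ⟨hi1, hii, hiu, hic, hcu⟩ := half_power huu hcc hm
  set i := (u * c) ^ m with hi
  have hnotD : ∀ {x : X}, Near z x → c * x = x * c → False := by
    intro x hx e
    by_cases hcx : c = x
    · exact hn (hcx ▸ hx)
    · exact hn (h.ntrans hz hx (Or.inr (Or.inl ⟨hx.isConj.symm.trans hc, e, hcx⟩)))
  have hzi : Near z (i * z * i⁻¹) := h.pair_cent hz hw (isConj_iff.2 ⟨i, rfl⟩) (by
    calc i * z * i⁻¹ * (z * w) = i * z * (i⁻¹ * u) := by rw [hu]; group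
      _ = i * (z * u) * i⁻¹ := by
        rw [show i⁻¹ * u = u * i⁻¹ by rw [inv_eq_of_mul_eq_one_right hii, hiu]]; group
      _ = i * (u * z) * i⁻¹ := by
        congr 2
        rw [hu, mul_assoc z w z, hw.2.1]
      _ = z * w * (i * z * i⁻¹) := by rw [← mul_assoc i u z, ← hiu, hu]; group)
  obtain ⟨e₀, he₀, hie⟩ := h.fix_member hz hii hzi
  rcases Nat.even_or_odd m with hev | hodd
  · -- the central involution is a product of two members outside
    have hconj : IsConj z (c * i) := hc.trans (hcu ▸ (reflection_conj hcc huu m).1 hev)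
    refine hn (h.ntrans hz he₀ (h.pair_cent hc (y := c * i) ?_ he₀.isConj ?_).symm)
    · exact ⟨hc.symm.trans hconj, by rw [mul_assoc, ← hic], fun e => hi1 (mul_eq_left.1 e)⟩
    · rw [← mul_assoc c c, hcc, one_mul, hie]
  -- it is a product of three
  set d := u * i with hd
  have hdconj : IsConj z d := hc.trans ((reflection_conj huu hcc m).2 hodd)
  have hdu : d * (z * w) = z * w * d := by rw [← hu, hd, mul_assoc, ← hiu]
  have hdn := h.pair_cent hz hw hdconj hdu
  obtain ⟨cd1, cd2⟩ := h.pair_commute hz hw hdn hdu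
  have hi' : i = u * d := by rw [hd, ← mul_assoc, huu, one_mul]
  by_cases hdz : d = z
  · refine hnotD (x := i) ?_ hic
    rw [hi', hdz, hu, mul_assoc, hw.2.1, ← mul_assoc, h.extra.z_sq, one_mul]
    exact Or.inr (Or.inl hw)
  by_cases hdw : d = w
  · refine hnotD (x := i) ?_ hic
    rw [hi', hdw, hu, mul_assoc, hww, mul_one]
    exact Or.inl rfl
  obtain ⟨hmem, hthird, p₁, p₂, hp₁, hp₂, n1, n2, n3, n4, n5⟩ := h.five_line hz hw
  by_cases hon : h.OnLine z w d
  · obtain ⟨q, hq, q1, q2, q3⟩ : ∃ q, h.OnLine z w q ∧ q ≠ z ∧ q ≠ w ∧ d ≠ q := by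
      by_cases e0 : d = p₁
      · exact ⟨p₂, hp₂, n3, n4, e0 ▸ n5⟩
      · exact ⟨p₁, hp₁, n1, n2, e0⟩
    obtain ⟨hr, r1, -, -, r4, -, -⟩ := hthird d q hon hq hdz hdw q1 q2 q3
    set r := z * w * (d * q) with hrdef
    have hqq := h.sq_conj (hq.1.isConj)
    have hrq : Member r q := ⟨hr.1.isConj.symm.trans hq.1.isConj,
      (hq.2 r hr.1 (hr.2 z (Or.inl rfl) rfl hw.2.1.symm).symm
        (hr.2 w (Or.inr (Or.inl hw)) hw.2.1 rfl).symm).symm, fun e => r4 e.symm⟩
    refine hn (h.ntrans hz hr.1 (h.pair_cent hr.1.isConj hrq hc ?_))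
    have : r * q = i := by
      rw [hi', hrdef, ← hu, mul_assoc, mul_assoc d, hqq, mul_one]
    rw [this]; exact hic
  obtain ⟨hr, r1, r2, r3, r4, hrp, hpp⟩ := hthird p₁ p₂ hp₁ hp₂ n1 n2 n3 n4 n5
  set r := z * w * (p₁ * p₂) with hrdef
  obtain ⟨mp1, mp1w⟩ := hmem p₁ hp₁ n1
  obtain ⟨mp2, mp2w⟩ := hmem p₂ hp₂ n3
  have hdp : ∀ {p}, h.OnLine z w p → d * p = p * d := fun hp => hp.2 d hdn cd1 cd2
  have hp1i : p₁ * i = i * p₁ := by
    have h1 : p₁ * u = u * p₁ := by rw [hu, ← mul_assoc, mp1.2.1, mul_assoc, (mp1w n2).2.1, mul_assoc]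
    rw [hi', ← mul_assoc p₁, h1, mul_assoc u p₁, ← hdp hp₁, ← mul_assoc]
  have hzi' : z * i = i * z := by
    have h1 : z * u = u * z := by rw [hu, mul_assoc z w z, hw.2.1]
    rw [hi', ← mul_assoc z u, h1, mul_assoc u z, ← cd1, ← mul_assoc]
  obtain ⟨g, hg, hgi⟩ := h.cross_move hz hc hn hzi' hic
  obtain ⟨k, hk, hki⟩ := h.cross_move mp1.1 hc (fun e => hn (h.ntrans hz hp₁.1 e)) hp1i hic
  set a := k⁻¹ * g with ha
  have hap : a * z * a⁻¹ = p₁ := by
    rw [show a * z * a⁻¹ = k⁻¹ * (g * z * g⁻¹) * k by rw [ha]; group, hg, ← hk]; group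
  have hai : a * i * a⁻¹ = i := by
    rw [show a * i * a⁻¹ = k⁻¹ * (g * i * g⁻¹) * k by rw [ha]; group, hgi, mul_inv_cancel_right, mul_assoc, ← hki,
      inv_mul_cancel_left]
  have hwd : Member w d := ⟨hw.1.symm.trans hdconj, cd2, hdw⟩
  have hrd : Member r d := ⟨hr.1.isConj.symm.trans hdconj, hdp hr, fun e => hon (e ▸ hr)⟩
  have hp2d : Member p₂ d := ⟨mp2.1.symm.trans hdconj, hdp hp₂, fun e => hon (e ▸ hp₂)⟩
  have hrp2 : Member r p₂ := ⟨hr.1.isConj.symm.trans mp2.1,
    (hp₂.2 r hr.1 (hr.2 z (Or.inl rfl) rfl hw.2.1.symm).symm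
      (hr.2 w (Or.inr (Or.inl hw)) hw.2.1 rfl).symm).symm, fun e => r4 e.symm⟩
  have hoff : ¬ h.OnLine r p₂ d := by
    intro hon2
    refine hon ⟨hdn, fun e he e1 e2 => ?_⟩
    exact hon2.2 e (h.ntrans hr.1.isConj hr.1.symm he) (hr.2 e he e1 e2) (hp₂.2 e he e1 e2)
  refine h.triple_not_pair hr.1.isConj hrp2 hrd hp2d hoff (hwd.conjBy a) (hw.1.trans (isConj_iff.2 ⟨a, rfl⟩)) ?_
  have e1 : w * d = z * i := by
    rw [hi', hu, mul_assoc, ← mul_assoc z z, h.extra.z_sq, one_mul]
  have e2 : r * p₂ = p₁ * u := by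
    have h1 : p₁ * u = u * p₁ := by rw [hu, ← mul_assoc, mp1.2.1, mul_assoc, (mp1w n2).2.1, mul_assoc]
    rw [hrdef, h1, mul_assoc, mul_assoc p₁, h.sq_conj mp2.1, mul_one]
  rw [show a * w * a⁻¹ * (a * d * a⁻¹) = a * (w * d) * a⁻¹ by group, e1,
    show a * (z * i) * a⁻¹ = a * z * a⁻¹ * (a * i * a⁻¹) by group, hap, hai, hi', ← mul_assoc, ← e2, mul_assoc]

/-- The whole group is the one generated by the component. -/
theorem span_eq_top : h.span = ⊤ := by
  rw [eq_top_iff]
  intro g _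
  obtain ⟨k, hk, e⟩ := h.exists_move hni (h.all_near hni (isConj_iff.2 ⟨g, rfl⟩))
  have hgk : k⁻¹ * g ∈ Subgroup.centralizer ({z} : Set X) := by
    rw [Subgroup.mem_centralizer_singleton_iff]
    calc k⁻¹ * g * z = k⁻¹ * (g * z * g⁻¹) * g := by group
      _ = k⁻¹ * (k * z * k⁻¹) * g := by rw [e]
      _ = z * (k⁻¹ * g) := by group
  have := mul_mem hk (h.cent_le_span hni hgk)
  rwa [mul_inv_cancel_left] at this

/-- Recognition of the unitary group of dimension six. -/
theorem exists_iso_psu {K : Type*} [Field K] [Fintype K] (hK : Fintype.card K = 4) :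
    Nonempty (X ≃* Cfsg.PSU 6 K 2) := by
  obtain ⟨e⟩ := h.span_iso hni
  obtain ⟨j⟩ := psu_field (FiniteField.ringEquivOfCardEq (K := CfsgLib.Sporadic.FieldFour) (K' := K)
    (by rw [CfsgLib.Sporadic.FieldFour.card_eq, hK]))
  exact ⟨((Subgroup.topEquiv.symm.trans (MulEquiv.subgroupCongr (h.span_eq_top hni).symm)).trans e).trans j⟩

end Core

end CfsgLib.Recognition.USixTwo
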