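import Cfsg.Agent.Lib.Recognition.USixTwo.Local

/-!
# The component of the commuting graph

Every member has forty-five fibres of four neighbours. If two conjugates do not commute and have a common
neighbour, their common neighbours meet each fibre exactly once, so the component has diameter two and
`1 + 180 + 512 = 693` members.
-/

set_option autoImplicit false
set_option linter.unusedSectionVars false

namespace CfsgLib.Recognition.USixTwo

open CfsgLib.ThreeTransp.Extraspecial
open CfsgLib.Sporadic.LargeFischer (D4 om nzd)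

theorem tvP_commute_iff (i k : Fin 45) :
    tvP i * tvP k = tvP k * tvP i ↔ i = k ∨ orthP i k = true := by
  constructor
  · intro e
    by_contra hc
    push Not at hc
    refine (tv_braid (ptV_q _ i.2).1 (ptV_q _ k.2).1 fun h0 => hc.2 ?_).2 e
    exact (orthP_iff i k).2 ⟨hc.1, h0⟩
  · rintro (rfl | e)
    · rfl
    · exact tv_commute (ptV_q _ i.2).1 (ptV_q _ k.2).1 ((orthP_iff i k).1 e).2

variable {X : Type*} [Group X] [Finite X]

theorem Member.symm {z t : X} (h : Member z t) : Member t z := ⟨h.1.symm, h.2.1.symm, h.2.2.symm⟩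

/-- At distance at most two in the commuting graph of the conjugates. -/
def Near (z t : X) : Prop := t = z ∨ Member z t ∨ ∃ e, Member z e ∧ Member e t

theorem Near.isConj {z t : X} (h : Near z t) : IsConj z t := by
  rcases h with rfl | h | ⟨e, h1, h2⟩
  · exact IsConj.refl _
  · exact h.1
  · exact h1.1.trans h2.1

namespace Core

variable {z : X} {J : Subgroup X} {π : X → V4} {ψ : ↥(Subgroup.centralizer ({z} : Set X)) →* (V4 ≃ₗ[ZMod 2] V4)}
  (h : Core z J π ψ)
include h

theorem exists_core {t : X} (ht : IsConj z t) : ∃ J' π' ψ', Core (X := X) t J' π' ψ' := by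
  obtain ⟨g, rfl⟩ := isConj_iff.1 ht
  exact ⟨_, _, _, h.conj g⟩

/-- The member lies over the point. -/
def At (_h : Core z J π ψ) (t : X) (i : Fin 45) : Prop := ∃ ht : Member z t, ψ (cz ht.2.1) = tvP i

theorem exists_at {t : X} (ht : Member z t) : ∃ i, h.At t i := by
  obtain ⟨v, hv, hv0, e⟩ := h.member_point ht
  obtain ⟨i, hi⟩ := exists_tvP hv hv0
  exact ⟨i, ht, e.trans hi⟩

theorem at_unique {t : X} {i k : Fin 45} (h1 : h.At t i) (h2 : h.At t k) : i = k := by
  obtain ⟨_, e1⟩ := h1
  obtain ⟨_, e2⟩ := h2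
  exact tvP_inj (e1.symm.trans e2)

theorem at_commute {t t' : X} {i k : Fin 45} (h1 : h.At t i) (h2 : h.At t' k) :
    t * t' = t' * t ↔ i = k ∨ orthP i k = true := by
  obtain ⟨ht, e1⟩ := h1
  obtain ⟨ht', e2⟩ := h2
  rw [← tvP_commute_iff]
  refine ⟨fun e => ?_, fun e => ?_⟩
  · rw [← e1, ← e2, ← map_mul, ← map_mul]; exact congrArg ψ (Subtype.ext e)
  · refine h.orth_comm ht ht' (ptV_q _ i.2).1 (ptV_q _ i.2).2 (ptV_q _ k.2).1 (ptV_q _ k.2).2 e1 e2 ?_
    by_contra hne
    exact (tv_braid (ptV_q _ i.2).1 (ptV_q _ k.2).1 hne).2 e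

/-- The product of two members has order two or three. -/
theorem at_braid {t t' : X} {i k : Fin 45} (h1 : h.At t i) (h2 : h.At t' k) (hn : t * t' ≠ t' * t) :
    (t * t') ^ 3 = 1 := by
  obtain ⟨ht, e1⟩ := h1
  obtain ⟨ht', e2⟩ := h2
  refine (h.nonorth ⟨t, ht⟩ ht ht' (ptV_q _ i.2).1 (ptV_q _ i.2).2 (ptV_q _ k.2).1 (ptV_q _ k.2).2 e1 e2 fun e0 => hn ?_).1
  exact h.orth_comm ht ht' (ptV_q _ i.2).1 (ptV_q _ i.2).2 (ptV_q _ k.2).1 (ptV_q _ k.2).2 e1 e2 e0

/-- Commuting with two members of a fibre. -/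
theorem commute_of_two {t t' p : X} {i : Fin 45} (h1 : h.At t i) (h2 : h.At t' i) (hne : t ≠ t')
    (hp : IsConj z p) (c1 : p * t = t * p) (c2 : p * t' = t' * p) : p * z = z * p := by
  obtain ⟨ht, e1⟩ := h1
  obtain ⟨ht', e2⟩ := h2
  obtain ⟨J', π', ψ', P⟩ := h.exists_couple ht.1 ht.2.1 ht.2.2
  by_cases hpt : p = t
  · rw [hpt]; exact ht.2.1
  have hpm : Member t p := ⟨ht.1.symm.trans hp, c1, hpt⟩
  have hfive : t' ∈ Five t J' z := P.five_symm ▸ Or.inr (P.coset ht'.2.1 ht'.1 (e2.trans e1.symm))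
  obtain ⟨j, hj, hje⟩ := hfive.resolve_left hne.symm
  have htt : t' * t = t * t' := ((h.at_commute ⟨ht', e2⟩ ⟨ht, e1⟩).2 (Or.inl rfl))
  have hψ : ψ' (cz htt) = ψ' (cz P.symm.comm) := by
    rw [show cz htt = (⟨j, P.hw.mem_cent hj⟩ : ↥(Subgroup.centralizer ({t} : Set X))) * cz P.symm.comm *
      (⟨j, P.hw.mem_cent hj⟩ : ↥(Subgroup.centralizer ({t} : Set X)))⁻¹ from Subtype.ext hje, map_mul, map_mul,
      map_inv, (P.hw.ker _).2 hj, inv_one, one_mul, mul_one]
  have hzm : Member t z := ht.symm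
  obtain ⟨a, ha, ha0, ea⟩ := P.hw.member_point hpm
  obtain ⟨b, hb, hb0, eb⟩ := P.hw.member_point hzm
  refine P.hw.orth_comm hpm hzm ha ha0 hb hb0 ea eb ?_
  by_contra hab
  refine (tv_braid ha hb hab).2 ?_
  rw [← ea, ← eb, show cz hzm.2.1 = cz P.symm.comm from rfl, ← hψ, ← map_mul, ← map_mul]
  exact congrArg ψ' (Subtype.ext c2)

/-- A fibre has four members. -/
theorem fibre_card (hni : ∃ w, Member z w) (i : Fin 45) : {t | h.At t i}.ncard = 4 := by
  obtain ⟨w, hw, ew⟩ := h.exists_member hni (ptV_q _ i.2).1 (ptV_q _ i.2).2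
  obtain ⟨J', π', ψ', P⟩ := h.exists_couple hw.1 hw.2.1 hw.2.2
  obtain ⟨f, hinj, hf0, hfive, hfz, -⟩ := P.exists_index
  have e : {t | h.At t i} = Set.range f := by
    ext t
    constructor
    · rintro ⟨ht, et⟩
      exact ((hfive t).1 (Or.inr (P.coset ht.2.1 ht.1 (et.trans ew.symm)))).resolve_left ht.2.2
    · rintro ⟨c, rfl⟩
      obtain ⟨j, hj, e⟩ := ((hfive (f c)).2 (Or.inr ⟨c, rfl⟩)).resolve_left (hfz c)
      obtain ⟨hm', hψ⟩ := h.member_conj ⟨j, h.mem_cent hj⟩ hw
      have hm : Member z (f c) := e ▸ hm'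
      refine ⟨hm, ?_⟩
      have := hψ hm'.2.1
      rw [(h.ker ⟨j, _⟩).2 hj, one_mul, inv_one, mul_one, ew] at this
      rw [← show tv (ptV i) = tvP i from rfl, ← this]
      exact congrArg ψ (Subtype.ext e)
  rw [e, ← Set.image_univ, Set.ncard_image_of_injective _ hinj, Set.ncard_univ, Nat.card_eq_fintype_card]
  decide

/-- The members over a set of points. -/
theorem card_over (hni : ∃ w, Member z w) (S : Finset (Fin 45)) : {t | ∃ i ∈ S, h.At t i}.ncard = 4 * S.card := by
  classical
  induction S using Finset.induction_on with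
  | empty => simp
  | @insert a S ha ih =>
    rw [show {t | ∃ i ∈ insert a S, h.At t i} = {t | h.At t a} ∪ {t | ∃ i ∈ S, h.At t i} from Set.ext fun t => by simp,
      Set.ncard_union_eq (Set.disjoint_left.2 (by rintro t h1 ⟨i, hi, h2⟩; rw [h.at_unique h1 h2] at ha; exact ha hi)) (Set.toFinite _)
        (Set.toFinite _), h.fibre_card hni, ih, Finset.card_insert_of_notMem ha]
    ring

theorem card_members (hni : ∃ w, Member z w) : {t | Member z t}.ncard = 180 := by
  rw [show {t | Member z t} = {t | ∃ i ∈ (Finset.univ : Finset (Fin 45)), h.At t i} from Set.ext fun t =>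
    ⟨fun ht => (h.exists_at ht).imp fun i hi => ⟨Finset.mem_univ _, hi⟩, fun ⟨_, _, ht, _⟩ => ht⟩,
    h.card_over hni, Finset.card_univ, Fintype.card_fin]

/-- Common neighbours meet every fibre exactly once. -/
theorem cover {p : X} (hn : p * z ≠ z * p) {e₀ : X} (hz₀ : Member z e₀) (hp₀ : Member p e₀) :
    (∀ i, ∃ e, Member p e ∧ h.At e i) ∧ {e | Member z e ∧ Member p e}.ncard = 45 := by
  classical
  have hconj : IsConj z p := hz₀.1.trans hp₀.1.symm
  have inj : ∀ {e e' : X} {i}, Member p e → Member p e' → h.At e i → h.At e' i → e = e' := by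
    intro e e' i h1 h2 a1 a2
    by_contra hne
    exact hn (h.commute_of_two a1 a2 hne hconj h1.2.1.symm h2.2.1.symm)
  have step : ∀ {e i k}, Member p e → h.At e i → orthP i k = true → ∃ e', Member p e' ∧ h.At e' k := by
    intro e i k hpe hei hik
    obtain ⟨hze, -⟩ := id hei
    obtain ⟨Je, πe, ψe, he⟩ := h.exists_core hze.1
    obtain ⟨a, hza⟩ := he.exists_at hze.symm
    obtain ⟨b, hpb⟩ := he.exists_at hpe.symm
    have hab := mt (he.at_commute hpb hza).2 hn
    push Not at hab
    obtain ⟨hc, hpair⟩ := orthP_common b a hab.1 (Bool.eq_false_iff.2 hab.2)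
    set S := Finset.univ.filter fun k => orthP b k = true ∧ orthP a k = true with hS
    set T := {t | ∃ i ∈ S, he.At t i} with hT
    have hTmem : ∀ t ∈ T, Member z t ∧ Member p t ∧ t * e = e * t ∧ t ≠ e := by
      rintro t ⟨m, hm, htm⟩
      obtain ⟨-, h1, h2⟩ := Finset.mem_filter.1 hm
      have c1 := (he.at_commute hpb htm).2 (Or.inr h1)
      have c2 := (he.at_commute hza htm).2 (Or.inr h2)
      obtain ⟨hte, -⟩ := id htm
      refine ⟨⟨hze.1.trans hte.1, c2.symm, fun e0 => ((orthP_iff a m).1 h2).1 ?_⟩,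
        ⟨hpe.1.trans hte.1, c1.symm, fun e0 => ((orthP_iff b m).1 h1).1 ?_⟩, hte.2.1, hte.2.2⟩
      · subst e0; exact he.at_unique hza htm
      · subst e0; exact he.at_unique hpb htm
    choose! φ hφ using fun t (ht : t ∈ T) => h.exists_at (hTmem t ht).1
    set N := Finset.univ.filter fun m => orthP i m = true with hN
    have hsub : φ '' T ⊆ (N : Set (Fin 45)) := by
      rintro m ⟨t, ht, rfl⟩
      obtain ⟨-, hpt, hte, hne⟩ := hTmem t ht
      refine Finset.mem_coe.2 (Finset.mem_filter.2 ⟨Finset.mem_univ _, ?_⟩)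
      rcases (h.at_commute hei (hφ t ht)).1 hte.symm with e' | e'
      · exact absurd (inj hpt hpe (hφ t ht) (e' ▸ hei)) hne
      · exact e'
    have heq : φ '' T = (N : Set (Fin 45)) := by
      refine Set.eq_of_subset_of_ncard_le hsub ?_ (Set.toFinite _)
      have hinj : Set.InjOn φ T := fun t ht t' ht' ee =>
        inj (hTmem t ht).2.1 (hTmem t' ht').2.1 (hφ t ht) (by rw [ee]; exact hφ t' ht')
      rw [hinj.ncard_image, Set.ncard_coe_finset, orthP_count i, hT, he.card_over ⟨z, hze.symm⟩, hc]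
    obtain ⟨t, ht, hte⟩ := heq.ge (Finset.mem_coe.2 (Finset.mem_filter.2 ⟨Finset.mem_univ k, hik⟩))
    exact ⟨t, (hTmem t ht).2.1, hte ▸ hφ t ht⟩
  have all : ∀ i, ∃ e, Member p e ∧ h.At e i := by
    intro i
    obtain ⟨i₀, h0⟩ := h.exists_at hz₀
    rcases orthP_diam i₀ i with e | e | ⟨m, h1, h2⟩
    · exact ⟨e₀, hp₀, e ▸ h0⟩
    · exact step hp₀ h0 e
    · obtain ⟨e', he', hat⟩ := step hp₀ h0 h1
      exact step he' hat ((orthP_iff m i).2 ⟨fun e0 => ((orthP_iff i m).1 h2).1 e0.symm, by
        rw [hm_symm, ((orthP_iff i m).1 h2).2]; rfl⟩)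
  refine ⟨all, ?_⟩
  choose f hf using all
  rw [show {e | Member z e ∧ Member p e} = Set.range f from Set.ext fun e => by
    constructor
    · rintro ⟨h1, h2⟩
      obtain ⟨i, hi⟩ := h.exists_at h1
      exact ⟨i, inj (hf i).1 h2 (hf i).2 hi⟩
    · rintro ⟨i, rfl⟩
      exact ⟨(hf i).2.1, (hf i).1⟩, ← Set.image_univ, Set.ncard_image_of_injective _
      (show Function.Injective f from fun i k e => h.at_unique (hf i).2 (by rw [e]; exact (hf k).2)),
    Set.ncard_univ, Nat.card_fin]

/-- The ball of radius two is closed under neighbours. -/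
theorem near_closed {t u : X} (ht : Near z t) (hu : Member t u) : Near z u := by
  rcases ht with rfl | ht | ⟨e, he, het⟩
  · exact Or.inr (Or.inl hu)
  · exact Or.inr (Or.inr ⟨t, ht, hu⟩)
  by_cases hc : t * z = z * t
  · by_cases htz : t = z
    · exact Or.inr (Or.inl (htz ▸ hu))
    · exact Or.inr (Or.inr ⟨t, ⟨he.1.trans het.1, hc, htz⟩, hu⟩)
  obtain ⟨Jt, πt, ψt, hcore⟩ := h.exists_core (he.1.trans het.1)
  obtain ⟨i, hi⟩ := hcore.exists_at hu
  obtain ⟨e', hze, hei⟩ := (hcore.cover (fun e0 => hc e0.symm) het.symm he).1 i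
  by_cases heu : u = e'
  · exact Or.inr (Or.inl (heu ▸ hze))
  · obtain ⟨hte, -⟩ := id hei
    exact Or.inr (Or.inr ⟨e', hze, hte.1.symm.trans hu.1, ((hcore.at_commute hi hei).2 (Or.inl rfl)), heu⟩)

/-- The component has 693 members. -/
theorem card_near (hni : ∃ w, Member z w) : {t | Near z t}.ncard = 693 := by
  classical
  haveI : Fintype X := Fintype.ofFinite X
  set N : Finset X := Finset.univ.filter fun e => Member z e with hN
  set S : Finset X := Finset.univ.filter fun t => t * z ≠ z * t ∧ ∃ e, Member z e ∧ Member e t with hS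
  have hNc : N.card = 180 := by
    rw [← h.card_members hni, ← Set.ncard_coe_finset, hN]; simp
  have habove : ∀ e ∈ N, (S.bipartiteAbove (fun e t => Member e t) e).card = 128 := by
    intro e he
    have hze := (Finset.mem_filter.1 he).2
    obtain ⟨Je, πe, ψe, hcore⟩ := h.exists_core hze.1
    obtain ⟨a, ha⟩ := hcore.exists_at hze.symm
    set B := Finset.univ.filter fun i => i ≠ a ∧ orthP i a = false with hB
    have hBc : B.card = 32 := by
      have hsym : ∀ i, orthP i a = orthP a i := fun i => by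
        rw [Bool.eq_iff_iff, orthP_iff, orthP_iff, hm_symm (ptV i)]
        exact and_congr ne_comm ⟨fun e0 => (by decide : ∀ x : D4, cj x = 0 → x = 0) _ e0, fun e0 => by rw [e0]; rfl⟩
      have : B = (Finset.univ.filter fun i => orthP a i = true)ᶜ.erase a := by
        ext i; simp [hB, hsym]
      rw [this, Finset.card_erase_of_mem (by simp [orthP_iff]), Finset.card_compl, orthP_count, Fintype.card_fin]
    rw [← Set.ncard_coe_finset, show ((S.bipartiteAbove (fun e t => Member e t) e : Finset X) : Set X) =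
      {t | ∃ i ∈ B, hcore.At t i} from Set.ext fun t => by
        simp only [Finset.coe_bipartiteAbove, hS, Finset.mem_filter, Finset.mem_univ, true_and, Set.mem_ofPred_eq, hB]
        constructor
        · rintro ⟨⟨hn, -⟩, het⟩
          obtain ⟨i, hi⟩ := hcore.exists_at het
          have := mt (hcore.at_commute hi ha).2 hn
          push Not at this
          exact ⟨i, ⟨this.1, Bool.eq_false_iff.2 this.2⟩, hi⟩
        · rintro ⟨i, ⟨h1, h2⟩, hi⟩
          obtain ⟨het, -⟩ := id hi
          refine ⟨⟨fun e0 => ?_, e, hze, het⟩, het⟩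
          rcases (hcore.at_commute hi ha).1 e0 with x | x
          · exact h1 x
          · exact absurd (x.symm.trans h2) (by decide),
      hcore.card_over ⟨z, hze.symm⟩, hBc]
  have hbelow : ∀ t ∈ S, (N.bipartiteBelow (fun e t => Member e t) t).card = 45 := by
    intro t ht
    obtain ⟨-, hn, e, hze, het⟩ := Finset.mem_filter.1 ht
    rw [← (h.cover hn hze het.symm).2, ← Set.ncard_coe_finset]
    congr 1
    ext e
    simp only [Finset.coe_bipartiteBelow, hN, Finset.mem_filter, Finset.mem_univ, true_and, Set.mem_ofPred_eq]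
    exact and_congr_right fun _ => ⟨fun x => x.symm, fun x => x.symm⟩
  have hsum := Finset.sum_card_bipartiteAbove_eq_sum_card_bipartiteBelow (r := fun e t => Member e t) (s := N) (t := S)
  rw [Finset.sum_congr rfl habove, Finset.sum_congr rfl hbelow, Finset.sum_const, Finset.sum_const, hNc, smul_eq_mul,
    smul_eq_mul] at hsum
  have hset : {t | Near z t} = ({z} : Set X) ∪ ({t | Member z t} ∪ (S : Set X)) := by
    ext t
    simp only [Set.mem_ofPred_eq, Set.mem_union, Set.mem_singleton_iff, hS, Finset.coe_filter, Finset.mem_univ, true_and]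
    constructor
    · rintro (e | e | ⟨e, he, het⟩)
      · exact Or.inl e
      · exact Or.inr (Or.inl e)
      · by_cases htz : t = z
        · exact Or.inl htz
        by_cases hc : t * z = z * t
        · exact Or.inr (Or.inl ⟨he.1.trans het.1, hc, htz⟩)
        · exact Or.inr (Or.inr ⟨hc, e, he, het⟩)
    · rintro (e | e | ⟨-, e⟩)
      · exact Or.inl e
      · exact Or.inr (Or.inl e)
      · exact Or.inr (Or.inr e)
  rw [hset, Set.ncard_union_eq ?_ (Set.toFinite _) (Set.toFinite _), Set.ncard_union_eq ?_ (Set.toFinite _)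
    (Set.toFinite _), Set.ncard_singleton, h.card_members hni, Set.ncard_coe_finset]
  · omega
  · exact Set.disjoint_left.2 fun t h1 h2 => (Finset.mem_filter.1 h2).2.1 h1.2.1
  · refine Set.disjoint_left.2 ?_
    rintro t (rfl : t = z) (h1 | h1)
    · exact h1.2.2 rfl
    · exact (Finset.mem_filter.1 h1).2.1 rfl

end Core

end CfsgLib.Recognition.USixTwo
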