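/-!
# Tables for the four-dimensional unitary group over the field with four elements

Vectors are coded by their coordinates, two bits each; words list transvections by the numbers of their points.
-/

set_option autoImplicit false

namespace CfsgLib.Recognition.USixTwo

/-- The least codes on the forty-five isotropic points. -/
def ptCodes : List Nat := [5, 6, 7, 17, 18, 19, 20, 24, 28, 65, 66, 67, 68, 72, 76, 80, 85, 86, 87, 89, 90, 91, 93, 94, 95, 96, 101, 102, 103, 105, 106, 107, 109, 110, 111, 112, 117, 118, 119, 121, 122, 123, 125, 126, 127]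

/-- The images of the unit codes under the transvections. -/
def tvCols : List (List Nat) := [
    [4, 8, 1, 2, 16, 32, 64, 128],
    [12, 4, 2, 3, 16, 32, 64, 128],
    [8, 12, 3, 1, 16, 32, 64, 128],
    [16, 32, 4, 8, 1, 2, 64, 128],
    [48, 16, 4, 8, 2, 3, 64, 128],
    [32, 48, 4, 8, 3, 1, 64, 128],
    [1, 2, 16, 32, 4, 8, 64, 128],
    [1, 2, 48, 16, 8, 12, 64, 128],
    [1, 2, 32, 48, 12, 4, 64, 128],
    [64, 128, 4, 8, 16, 32, 1, 2],
    [192, 64, 4, 8, 16, 32, 2, 3],
    [128, 192, 4, 8, 16, 32, 3, 1],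
    [1, 2, 64, 128, 16, 32, 4, 8],
    [1, 2, 192, 64, 16, 32, 8, 12],
    [1, 2, 128, 192, 16, 32, 12, 4],
    [1, 2, 4, 8, 64, 128, 16, 32],
    [84, 168, 81, 162, 69, 138, 21, 42],
    [252, 84, 82, 163, 70, 139, 22, 43],
    [168, 252, 83, 161, 71, 137, 23, 41],
    [88, 172, 243, 81, 73, 142, 25, 46],
    [244, 88, 241, 82, 74, 143, 26, 47],
    [172, 244, 242, 83, 75, 141, 27, 45],
    [92, 164, 162, 243, 77, 134, 29, 38],
    [248, 92, 163, 241, 78, 135, 30, 39],
    [164, 248, 161, 242, 79, 133, 31, 37],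
    [1, 2, 4, 8, 192, 64, 32, 48],
    [100, 184, 97, 178, 207, 69, 37, 58],
    [220, 100, 98, 179, 205, 70, 38, 59],
    [184, 220, 99, 177, 206, 71, 39, 57],
    [104, 188, 211, 97, 199, 73, 41, 62],
    [212, 104, 209, 98, 197, 74, 42, 63],
    [188, 212, 210, 99, 198, 75, 43, 61],
    [108, 180, 178, 211, 203, 77, 45, 54],
    [216, 108, 179, 209, 201, 78, 46, 55],
    [180, 216, 177, 210, 202, 79, 47, 53],
    [1, 2, 4, 8, 128, 192, 48, 16],
    [116, 152, 113, 146, 138, 207, 53, 26],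
    [236, 116, 114, 147, 139, 205, 54, 27],
    [152, 236, 115, 145, 137, 206, 55, 25],
    [120, 156, 227, 113, 142, 199, 57, 30],
    [228, 120, 225, 114, 143, 197, 58, 31],
    [156, 228, 226, 115, 141, 198, 59, 29],
    [124, 148, 146, 227, 134, 203, 61, 22],
    [232, 124, 147, 225, 135, 201, 62, 23],
    [148, 232, 145, 226, 133, 202, 63, 21]]

/-- Words moving the first unit vector. -/
def words0 : List (Nat × List Nat) := [
    (1, []),
    (2, [0, 2]),
    (3, [0, 1]),
    (4, [0]),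
    (8, [2]),
    (12, [1]),
    (16, [3]),
    (21, [9, 16]),
    (22, [9, 44]),
    (23, [9, 30]),
    (25, [9, 19]),
    (26, [9, 38]),
    (27, [9, 33]),
    (29, [9, 22]),
    (30, [9, 41]),
    (31, [9, 27]),
    (32, [5]),
    (37, [9, 26]),
    (38, [9, 24]),
    (39, [9, 40]),
    (41, [9, 29]),
    (42, [9, 18]),
    (43, [9, 43]),
    (45, [9, 32]),
    (46, [9, 21]),
    (47, [9, 37]),
    (48, [4]),
    (53, [9, 36]),
    (54, [9, 34]),
    (55, [9, 20]),
    (57, [9, 39]),
    (58, [9, 28]),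
    (59, [9, 23]),
    (61, [9, 42]),
    (62, [9, 31]),
    (63, [9, 17]),
    (64, [9]),
    (69, [3, 16]),
    (70, [3, 26]),
    (71, [3, 36]),
    (73, [3, 19]),
    (74, [3, 29]),
    (75, [3, 39]),
    (77, [3, 22]),
    (78, [3, 32]),
    (79, [3, 42]),
    (81, [0, 16]),
    (82, [0, 19]),
    (83, [0, 22]),
    (84, [16]),
    (88, [19]),
    (92, [22]),
    (97, [0, 26]),
    (98, [0, 29]),
    (99, [0, 32]),
    (100, [26]),
    (104, [29]),
    (108, [32]),
    (113, [0, 36]),
    (114, [0, 39]),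
    (115, [0, 42]),
    (116, [36]),
    (120, [39]),
    (124, [42]),
    (128, [11]),
    (133, [3, 44]),
    (134, [3, 24]),
    (135, [3, 34]),
    (137, [3, 38]),
    (138, [3, 18]),
    (139, [3, 28]),
    (141, [3, 41]),
    (142, [3, 21]),
    (143, [3, 31]),
    (145, [0, 44]),
    (146, [0, 38]),
    (147, [0, 41]),
    (148, [44]),
    (152, [38]),
    (156, [41]),
    (161, [0, 24]),
    (162, [0, 18]),
    (163, [0, 21]),
    (164, [24]),
    (168, [18]),
    (172, [21]),
    (177, [0, 34]),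
    (178, [0, 28]),
    (179, [0, 31]),
    (180, [34]),
    (184, [28]),
    (188, [31]),
    (192, [10]),
    (197, [3, 30]),
    (198, [3, 40]),
    (199, [3, 20]),
    (201, [3, 33]),
    (202, [3, 43]),
    (203, [3, 23]),
    (205, [3, 27]),
    (206, [3, 37]),
    (207, [3, 17]),
    (209, [0, 30]),
    (210, [0, 33]),
    (211, [0, 27]),
    (212, [30]),
    (216, [33]),
    (220, [27]),
    (225, [0, 40]),
    (226, [0, 43]),
    (227, [0, 37]),
    (228, [40]),
    (232, [43]),
    (236, [37]),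
    (241, [0, 20]),
    (242, [0, 23]),
    (243, [0, 17]),
    (244, [20]),
    (248, [23]),
    (252, [17])]

/-- Words moving the second unit vector and fixing the first. -/
def words1 : List (Nat × List Nat) := [
    (4, []),
    (8, [6, 8]),
    (12, [6, 7]),
    (16, [6]),
    (32, [8]),
    (48, [7]),
    (64, [12]),
    (84, [0, 1, 19, 21]),
    (88, [3, 5, 32, 33]),
    (92, [3, 4, 39, 41]),
    (100, [0, 1, 29, 31]),
    (104, [3, 5, 42, 43]),
    (108, [3, 4, 19, 21]),
    (116, [0, 1, 39, 41]),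
    (120, [3, 5, 22, 23]),
    (124, [3, 4, 29, 31]),
    (128, [14]),
    (148, [0, 1, 36, 38]),
    (152, [3, 5, 19, 20]),
    (156, [3, 4, 26, 28]),
    (164, [0, 1, 16, 18]),
    (168, [3, 5, 29, 30]),
    (172, [3, 4, 36, 38]),
    (180, [0, 1, 26, 28]),
    (184, [3, 5, 39, 40]),
    (188, [3, 4, 16, 18]),
    (192, [13]),
    (212, [0, 1, 32, 34]),
    (216, [3, 5, 36, 37]),
    (220, [3, 4, 22, 24]),
    (228, [0, 1, 42, 44]),
    (232, [3, 5, 16, 17]),
    (236, [3, 4, 32, 34]),
    (244, [0, 1, 22, 24]),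
    (248, [3, 5, 26, 27]),
    (252, [3, 4, 42, 44])]

/-- Words moving the third unit vector and fixing the first two. -/
def words2 : List (Nat × List Nat) := [
    (16, []),
    (32, [15, 35]),
    (48, [15, 25]),
    (64, [15]),
    (128, [35]),
    (192, [25])]

/-- Words moving the standard isotropic vector. -/
def wordsIso : List (Nat × List Nat) := [
    (5, []),
    (6, [3, 5]),
    (7, [3, 4]),
    (9, [6, 8]),
    (10, [1, 3, 4]),
    (11, [2]),
    (13, [6, 7]),
    (14, [1]),
    (15, [1, 6, 8]),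
    (17, [6]),
    (18, [1, 3]),
    (19, [2, 3]),
    (20, [3]),
    (24, [2, 6]),
    (28, [1, 6]),
    (33, [8]),
    (34, [1, 5]),
    (35, [2, 5]),
    (36, [5]),
    (40, [2, 8]),
    (44, [1, 8]),
    (49, [7]),
    (50, [1, 4]),
    (51, [2, 4]),
    (52, [4]),
    (56, [2, 7]),
    (60, [1, 7]),
    (65, [12]),
    (66, [1, 9]),
    (67, [2, 9]),
    (68, [9]),
    (72, [2, 12]),
    (76, [1, 12]),
    (80, [3, 12]),
    (85, [1, 21]),
    (86, [8, 31]),
    (87, [7, 43]),
    (89, [5, 33]),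
    (90, [5, 43]),
    (91, [23]),
    (93, [4, 41]),
    (94, [21]),
    (95, [4, 31]),
    (96, [5, 12]),
    (101, [1, 31]),
    (102, [7, 41]),
    (103, [6, 23]),
    (105, [4, 43]),
    (106, [4, 23]),
    (107, [33]),
    (109, [3, 21]),
    (110, [31]),
    (111, [3, 41]),
    (112, [4, 12]),
    (117, [1, 41]),
    (118, [6, 21]),
    (119, [8, 33]),
    (121, [3, 23]),
    (122, [3, 33]),
    (123, [43]),
    (125, [5, 31]),
    (126, [41]),
    (127, [5, 21]),
    (129, [14]),
    (130, [1, 11]),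
    (131, [2, 11]),
    (132, [11]),
    (136, [2, 14]),
    (140, [1, 14]),
    (144, [3, 14]),
    (149, [1, 37]),
    (150, [8, 17]),
    (151, [7, 29]),
    (153, [5, 19]),
    (154, [5, 29]),
    (155, [39]),
    (157, [4, 27]),
    (158, [37]),
    (159, [4, 17]),
    (160, [5, 14]),
    (165, [1, 17]),
    (166, [7, 27]),
    (167, [6, 39]),
    (169, [4, 29]),
    (170, [4, 39]),
    (171, [19]),
    (173, [3, 37]),
    (174, [17]),
    (175, [3, 27]),
    (176, [4, 14]),
    (181, [1, 27]),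
    (182, [6, 37]),
    (183, [8, 19]),
    (185, [3, 39]),
    (186, [3, 19]),
    (187, [29]),
    (189, [5, 17]),
    (190, [27]),
    (191, [5, 37]),
    (193, [13]),
    (194, [1, 10]),
    (195, [2, 10]),
    (196, [10]),
    (200, [2, 13]),
    (204, [1, 13]),
    (208, [3, 13]),
    (213, [1, 32]),
    (214, [8, 42]),
    (215, [7, 18]),
    (217, [5, 38]),
    (218, [5, 18]),
    (219, [28]),
    (221, [4, 22]),
    (222, [32]),
    (223, [4, 42]),
    (224, [5, 13]),
    (229, [1, 42]),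
    (230, [7, 22]),
    (231, [6, 28]),
    (233, [4, 18]),
    (234, [4, 28]),
    (235, [38]),
    (237, [3, 32]),
    (238, [42]),
    (239, [3, 22]),
    (240, [4, 13]),
    (245, [1, 22]),
    (246, [6, 32]),
    (247, [8, 38]),
    (249, [3, 28]),
    (250, [3, 38]),
    (251, [18]),
    (253, [5, 42]),
    (254, [22]),
    (255, [5, 32])]

/-- The commutator giving the standard transvection. -/
def commWords : List Nat × List Nat := ([15, 16], [25, 26])

/-- A Sylow subgroup centralising the standard transvection. -/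
def sylWords : List (List Nat) := [
    [],
    [15],
    [0],
    [0, 15],
    [15, 20, 35, 40],
    [20, 25, 34],
    [15, 20, 36, 44],
    [20, 26, 30],
    [15, 16, 35, 36],
    [16, 25, 30],
    [15, 16, 40, 44],
    [16, 26, 34],
    [15, 16, 30, 34],
    [16, 36, 40],
    [15, 16, 25, 26],
    [16, 35, 44],
    [15, 20, 25, 34],
    [20, 35, 40],
    [15, 20, 26, 30],
    [20, 36, 44],
    [20, 24],
    [0, 16],
    [15, 16],
    [16],
    [30, 34],
    [15, 36, 40],
    [25, 26],
    [15, 35, 44],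
    [40, 44],
    [15, 26, 34],
    [35, 36],
    [15, 25, 30],
    [15, 16, 25, 30],
    [16, 35, 36],
    [15, 16, 26, 34],
    [16, 40, 44],
    [36, 40],
    [15, 30, 34],
    [35, 44],
    [15, 25, 26],
    [16, 20],
    [0, 24],
    [15, 24],
    [24],
    [26, 30],
    [15, 36, 44],
    [25, 34],
    [15, 35, 40],
    [15, 16, 36, 40],
    [16, 30, 34],
    [15, 16, 35, 44],
    [16, 25, 26],
    [26, 34],
    [15, 40, 44],
    [25, 30],
    [15, 35, 36],
    [36, 44],
    [15, 26, 30],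
    [35, 40],
    [15, 25, 34],
    [16, 24],
    [0, 20],
    [15, 20],
    [20]]

/-- Its members as lists of columns. -/
def sylCols : List (List Nat) := [
    [1, 2, 4, 8, 16, 32, 64, 128],
    [1, 2, 4, 8, 64, 128, 16, 32],
    [4, 8, 1, 2, 16, 32, 64, 128],
    [4, 8, 1, 2, 64, 128, 16, 32],
    [27, 45, 30, 39, 21, 42, 64, 128],
    [27, 45, 30, 39, 64, 128, 21, 42],
    [30, 39, 27, 45, 21, 42, 64, 128],
    [30, 39, 27, 45, 64, 128, 21, 42],
    [43, 61, 46, 55, 31, 37, 64, 128],
    [43, 61, 46, 55, 64, 128, 31, 37],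
    [46, 55, 43, 61, 31, 37, 64, 128],
    [46, 55, 43, 61, 64, 128, 31, 37],
    [59, 29, 62, 23, 26, 47, 64, 128],
    [59, 29, 62, 23, 64, 128, 26, 47],
    [62, 23, 59, 29, 26, 47, 64, 128],
    [62, 23, 59, 29, 64, 128, 26, 47],
    [75, 141, 78, 135, 16, 32, 69, 138],
    [75, 141, 78, 135, 69, 138, 16, 32],
    [78, 135, 75, 141, 16, 32, 69, 138],
    [78, 135, 75, 141, 69, 138, 16, 32],
    [81, 162, 84, 168, 21, 42, 69, 138],
    [81, 162, 84, 168, 69, 138, 21, 42],
    [84, 168, 81, 162, 21, 42, 69, 138],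
    [84, 168, 81, 162, 69, 138, 21, 42],
    [97, 178, 100, 184, 31, 37, 69, 138],
    [97, 178, 100, 184, 69, 138, 31, 37],
    [100, 184, 97, 178, 31, 37, 69, 138],
    [100, 184, 97, 178, 69, 138, 31, 37],
    [113, 146, 116, 152, 26, 47, 69, 138],
    [113, 146, 116, 152, 69, 138, 26, 47],
    [116, 152, 113, 146, 26, 47, 69, 138],
    [116, 152, 113, 146, 69, 138, 26, 47],
    [139, 205, 142, 199, 16, 32, 79, 133],
    [139, 205, 142, 199, 79, 133, 16, 32],
    [142, 199, 139, 205, 16, 32, 79, 133],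
    [142, 199, 139, 205, 79, 133, 16, 32],
    [145, 226, 148, 232, 21, 42, 79, 133],
    [145, 226, 148, 232, 79, 133, 21, 42],
    [148, 232, 145, 226, 21, 42, 79, 133],
    [148, 232, 145, 226, 79, 133, 21, 42],
    [161, 242, 164, 248, 31, 37, 79, 133],
    [161, 242, 164, 248, 79, 133, 31, 37],
    [164, 248, 161, 242, 31, 37, 79, 133],
    [164, 248, 161, 242, 79, 133, 31, 37],
    [177, 210, 180, 216, 26, 47, 79, 133],
    [177, 210, 180, 216, 79, 133, 26, 47],
    [180, 216, 177, 210, 26, 47, 79, 133],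
    [180, 216, 177, 210, 79, 133, 26, 47],
    [203, 77, 206, 71, 16, 32, 74, 143],
    [203, 77, 206, 71, 74, 143, 16, 32],
    [206, 71, 203, 77, 16, 32, 74, 143],
    [206, 71, 203, 77, 74, 143, 16, 32],
    [209, 98, 212, 104, 21, 42, 74, 143],
    [209, 98, 212, 104, 74, 143, 21, 42],
    [212, 104, 209, 98, 21, 42, 74, 143],
    [212, 104, 209, 98, 74, 143, 21, 42],
    [225, 114, 228, 120, 31, 37, 74, 143],
    [225, 114, 228, 120, 74, 143, 31, 37],
    [228, 120, 225, 114, 31, 37, 74, 143],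
    [228, 120, 225, 114, 74, 143, 31, 37],
    [241, 82, 244, 88, 26, 47, 74, 143],
    [241, 82, 244, 88, 74, 143, 26, 47],
    [244, 88, 241, 82, 26, 47, 74, 143],
    [244, 88, 241, 82, 74, 143, 26, 47]]

/-- Its involutions: one point, or two points and a word moving the standard pair to them. -/
def sylInvs : List (List Nat × List Nat) := [
    ([15], []),
    ([0], []),
    ([0, 15], []),
    ([20, 24], [3, 27]),
    ([0, 16], [25, 34]),
    ([15, 16], [1, 3, 12, 34]),
    ([16], []),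
    ([30, 34], [1, 4, 32]),
    ([25, 26], [1, 22, 39]),
    ([40, 44], [1, 8, 33]),
    ([35, 36], [1, 17, 28]),
    ([36, 40], [1, 7, 29]),
    ([35, 44], [1, 22, 33]),
    ([16, 20], [5, 32]),
    ([0, 24], [25, 30]),
    ([15, 24], [1, 3, 12, 26]),
    ([24], []),
    ([26, 30], [1, 3, 31]),
    ([25, 34], [1, 21, 38]),
    ([26, 34], [1, 5, 38]),
    ([25, 30], [1, 17, 43]),
    ([36, 44], [1, 6, 41]),
    ([35, 40], [1, 21, 29]),
    ([16, 24], [4, 39]),
    ([0, 20], [25, 26]),
    ([15, 20], [1, 3, 12, 30]),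
    ([20], [])]

/-- Three elements fixing the standard isotropic vector. -/
def stabWords : List (List Nat) := [[15, 16, 44], [15, 20, 35], [16, 36, 40]]

/-- Closure rows: vector, rule, element, earlier row. -/
def closureRows : List (Nat × Nat × Nat × Nat) := [
    (10, 0, 0, 0),
    (15, 4, 0, 0),
    (80, 2, 2, 0),
    (85, 2, 2, 0),
    (90, 1, 2, 2),
    (95, 1, 2, 3),
    (97, 2, 0, 4),
    (100, 2, 0, 4),
    (107, 2, 0, 4),
    (110, 2, 0, 4),
    (112, 2, 0, 0),
    (117, 2, 0, 0),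
    (122, 1, 0, 10),
    (127, 1, 0, 11),
    (129, 2, 0, 5),
    (132, 2, 0, 5),
    (139, 2, 0, 5),
    (142, 2, 0, 5),
    (144, 2, 0, 1),
    (145, 1, 1, 6),
    (148, 1, 1, 7),
    (149, 2, 0, 1),
    (154, 1, 0, 21),
    (155, 1, 1, 8),
    (158, 1, 1, 9),
    (159, 1, 0, 18),
    (160, 2, 0, 11),
    (161, 1, 2, 20),
    (164, 1, 2, 19),
    (165, 2, 0, 11),
    (170, 2, 0, 11),
    (171, 1, 2, 24),
    (174, 1, 2, 23),
    (175, 2, 0, 11),
    (176, 1, 0, 4),
    (177, 1, 0, 20),
    (180, 1, 0, 19),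
    (181, 1, 0, 5),
    (186, 1, 0, 2),
    (187, 1, 0, 24),
    (190, 1, 0, 23),
    (191, 1, 0, 3),
    (208, 1, 0, 33),
    (209, 1, 0, 6),
    (212, 1, 0, 7),
    (213, 1, 0, 30),
    (218, 1, 0, 29),
    (219, 1, 0, 8),
    (222, 1, 0, 9),
    (223, 1, 0, 26),
    (224, 2, 1, 0),
    (225, 1, 2, 17),
    (228, 1, 2, 16),
    (229, 1, 0, 50),
    (234, 1, 1, 50),
    (235, 1, 2, 15),
    (238, 1, 2, 14),
    (239, 1, 0, 54),
    (240, 2, 0, 22),
    (241, 1, 0, 28),
    (244, 1, 0, 27),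
    (245, 2, 0, 22),
    (250, 2, 0, 22),
    (251, 1, 0, 32),
    (254, 1, 0, 31),
    (255, 2, 0, 22),
    (1, 1, 1, 60),
    (4, 1, 1, 59),
    (11, 1, 1, 64),
    (14, 1, 1, 63),
    (16, 2, 0, 25),
    (17, 2, 0, 2),
    (20, 2, 0, 2),
    (21, 2, 0, 25),
    (26, 2, 0, 25),
    (27, 2, 0, 2),
    (30, 2, 0, 2),
    (31, 2, 0, 25),
    (32, 2, 0, 53),
    (33, 1, 0, 68),
    (36, 1, 0, 69),
    (37, 2, 0, 53),
    (42, 2, 0, 53),
    (43, 1, 0, 66),
    (46, 1, 0, 67),
    (47, 2, 0, 53),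
    (48, 2, 0, 12),
    (49, 1, 0, 15),
    (52, 1, 0, 14),
    (53, 2, 0, 12),
    (58, 2, 0, 12),
    (59, 1, 0, 17),
    (62, 1, 0, 16),
    (63, 2, 0, 12),
    (64, 1, 0, 86),
    (65, 1, 0, 64),
    (68, 1, 0, 63),
    (69, 1, 0, 89),
    (74, 1, 0, 90),
    (75, 1, 0, 60),
    (78, 1, 0, 59),
    (79, 1, 0, 93),
    (81, 2, 0, 78),
    (84, 2, 0, 78),
    (91, 2, 0, 78),
    (94, 2, 0, 78),
    (96, 1, 0, 61),
    (101, 1, 0, 58),
    (106, 1, 0, 65),
    (111, 1, 0, 62),
    (113, 1, 0, 36),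
    (116, 1, 0, 35),
    (123, 1, 0, 40),
    (126, 1, 0, 39),
    (128, 1, 0, 70),
    (133, 1, 0, 73),
    (138, 1, 0, 74),
    (143, 1, 0, 77),
    (192, 1, 0, 78),
    (193, 1, 0, 56),
    (196, 1, 0, 55),
    (197, 1, 0, 81),
    (202, 1, 0, 82),
    (203, 1, 0, 52),
    (206, 1, 0, 51),
    (207, 1, 0, 85)]

/-- The members fixing the standard totally isotropic plane. -/
def planeCols : List (List Nat) := [
    [1, 2, 4, 8, 16, 32, 64, 128],
    [1, 2, 4, 8, 64, 128, 16, 32],
    [4, 8, 1, 2, 16, 32, 64, 128],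
    [4, 8, 1, 2, 64, 128, 16, 32],
    [81, 162, 84, 168, 21, 42, 69, 138],
    [81, 162, 84, 168, 69, 138, 21, 42],
    [84, 168, 81, 162, 21, 42, 69, 138],
    [84, 168, 81, 162, 69, 138, 21, 42],
    [161, 242, 164, 248, 31, 37, 79, 133],
    [161, 242, 164, 248, 79, 133, 31, 37],
    [164, 248, 161, 242, 31, 37, 79, 133],
    [164, 248, 161, 242, 79, 133, 31, 37],
    [241, 82, 244, 88, 26, 47, 74, 143],
    [241, 82, 244, 88, 74, 143, 26, 47],
    [244, 88, 241, 82, 26, 47, 74, 143],
    [244, 88, 241, 82, 74, 143, 26, 47]]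

/-- An element of order three centralising the standard product. -/
def thetaWord : List Nat := [3, 5, 12, 14]

/-- Elements scaling two orthogonal points. -/
def torusWords : List (Nat × List Nat) := [
    (80, [1, 3, 4, 25]),
    (85, [1, 3, 4, 30]),
    (90, [1, 3, 4, 34]),
    (95, [1, 3, 4, 26]),
    (96, [1, 3, 4, 35]),
    (101, [1, 3, 4, 40]),
    (106, [1, 3, 4, 44]),
    (111, [1, 3, 4, 36]),
    (112, [1, 3, 4, 15]),
    (117, [1, 3, 4, 20]),
    (122, [1, 3, 4, 24]),
    (127, [1, 3, 4, 16]),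
    (144, [1, 3, 4, 15]),
    (149, [1, 3, 4, 16]),
    (154, [1, 3, 4, 20]),
    (159, [1, 3, 4, 24]),
    (160, [1, 3, 4, 25]),
    (165, [1, 3, 4, 26]),
    (170, [1, 3, 4, 30]),
    (175, [1, 3, 4, 34]),
    (176, [1, 3, 4, 35]),
    (181, [1, 3, 4, 36]),
    (186, [1, 3, 4, 40]),
    (191, [1, 3, 4, 44]),
    (208, [1, 3, 4, 35]),
    (213, [1, 3, 4, 44]),
    (218, [1, 3, 4, 36]),
    (223, [1, 3, 4, 40]),
    (224, [1, 3, 4, 15]),
    (229, [1, 3, 4, 24]),
    (234, [1, 3, 4, 16]),
    (239, [1, 3, 4, 20]),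
    (240, [1, 3, 4, 25]),
    (245, [1, 3, 4, 34]),
    (250, [1, 3, 4, 26]),
    (255, [1, 3, 4, 30])]

/-- Elements fixing the standard isotropic vector and moving a second point orthogonal to it. -/
def orthWords : List (Nat × List Nat) := [
    (80, []),
    (85, [25, 34]),
    (90, [25, 26]),
    (95, [25, 30]),
    (96, [35]),
    (101, [44]),
    (106, [36]),
    (111, [40]),
    (112, [25]),
    (117, [30]),
    (122, [34]),
    (127, [26]),
    (144, [25]),
    (149, [26]),
    (154, [30]),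
    (159, [34]),
    (160, []),
    (165, [25, 30]),
    (170, [25, 34]),
    (175, [25, 26]),
    (176, [35]),
    (181, [40]),
    (186, [44]),
    (191, [36]),
    (208, [35]),
    (213, [36]),
    (218, [40]),
    (223, [44]),
    (224, [25]),
    (229, [34]),
    (234, [26]),
    (239, [30]),
    (240, []),
    (245, [25, 26]),
    (250, [25, 30]),
    (255, [25, 34])]

/-- Orthogonality between the points. -/
def orthMasks : List Nat := [18813149085696, 6775485136896, 9664524484608, 20075889913856, 5036127186944, 10037961715712, 30790084136448, 511104781824, 3848789822976, 5021425533376, 10042851066304, 20085702132160, 481506558008, 3852052463672, 30816419708984, 33488903, 4673613369929, 8866161005650, 17731848542308, 2273120133772, 697949070481, 1392110643362, 18150601179914, 5514873062676, 10999680846113, 34292629511, 705486394145, 1380873999626, 2276920006932, 5506452234852, 11012397474889, 18146405918802, 8867145073314, 17730469119116, 4674109327505, 35115652612103, 18730621473425,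 6640087864482, 9397524830348, 9107550511892, 17695946843425, 4571204692234, 2388547158610, 864379094116, 1213332736073]

end CfsgLib.Recognition.USixTwo
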