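import Cfsg.Agent.Lib.Sporadic.LargeFischer.Basic
import Cfsg.Agent.Lib.Recognition.USixTwo.Data

/-!
# The hermitian space of dimension four over the field with four elements, coded by numbers below 256
-/

set_option autoImplicit false
set_option maxRecDepth 100000

namespace CfsgLib.Recognition.USixTwo

open CfsgLib.Sporadic.LargeFischer (D4 om nzd)

/-- The space. -/
abbrev V4 : Type := Fin 4 → D4

/-- Multiplication in the field, `(1,0)` being the unit and `(0,1)` a primitive cube root of unity. -/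
def fm (a b : D4) : D4 := (a.1 * b.1 + a.2 * b.2, a.1 * b.2 + a.2 * b.1 + a.2 * b.2)

/-- The field automorphism. -/
def cj (a : D4) : D4 := (a.1 + a.2, a.2)

/-- The scalar action. -/
def scl (c : D4) (v : V4) : V4 := fun i => fm c (v i)

/-- The scalar of order three. -/
def omV (v : V4) : V4 := fun i => om (v i)

/-- The hermitian form. -/
def hm (u v : V4) : D4 :=
  fm (u 0) (cj (v 0)) + fm (u 1) (cj (v 1)) + fm (u 2) (cj (v 2)) + fm (u 3) (cj (v 3))

/-- The quadratic form. -/
def q4 (v : V4) : ZMod 2 := nzd (v 0) + nzd (v 1) + nzd (v 2) + nzd (v 3)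

/-- Its polar form. -/
def bs4 (u v : V4) : ZMod 2 := q4 (u + v) + q4 u + q4 v

/-- The code of a field element. -/
def cd (d : D4) : ℕ := d.1.val + 2 * d.2.val

/-- A bit. -/
def bitZ (b : Bool) : ZMod 2 := if b then 1 else 0

/-- The field element with the given code. -/
def dd (n : ℕ) : D4 := (bitZ (n.testBit 0), bitZ (n.testBit 1))

/-- The code of a vector. -/
def code (v : V4) : ℕ := cd (v 0) + 4 * (cd (v 1) + 4 * (cd (v 2) + 4 * cd (v 3)))

/-- A digit of a code. -/
def dg (n i : ℕ) : ℕ := (n >>> (2 * i)) &&& 3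

/-- The vector with the given code. -/
def dec (n : ℕ) : V4 := fun i => dd (dg n i.1)

/-- Multiplication of codes of field elements. -/
def mulN (a b : ℕ) : ℕ := [0, 0, 0, 0, 0, 1, 2, 3, 0, 2, 3, 1, 0, 3, 1, 2].getD (4 * a + b) 0

/-- The automorphism on codes. -/
def cjN (a : ℕ) : ℕ := [0, 1, 3, 2].getD a 0

/-- The hermitian form on codes. -/
def hN (m n : ℕ) : ℕ :=
  mulN (dg m 0) (cjN (dg n 0)) ^^^ mulN (dg m 1) (cjN (dg n 1)) ^^^ mulN (dg m 2) (cjN (dg n 2)) ^^^
    mulN (dg m 3) (cjN (dg n 3))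

/-- The quadratic form on codes. -/
def qN (n : ℕ) : Bool :=
  xor (xor (dg n 0 != 0) (dg n 1 != 0)) (xor (dg n 2 != 0) (dg n 3 != 0))

/-- The scalar action on codes. -/
def scN (c n : ℕ) : ℕ :=
  mulN c (dg n 0) + 4 * (mulN c (dg n 1) + 4 * (mulN c (dg n 2) + 4 * mulN c (dg n 3)))

theorem cd_spec : ∀ d : D4, cd d < 4 ∧ dd (cd d) = d := by decide

theorem cd_zero : cd 0 = 0 := by decide

theorem cd_add : ∀ a b : D4, cd (a + b) = cd a ^^^ cd b := by decide

theorem cd_dd : ∀ n < 4, cd (dd n) = n := by decide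

theorem cd_fm : ∀ a b : D4, cd (fm a b) = mulN (cd a) (cd b) := by decide

theorem cd_cj : ∀ a : D4, cd (cj a) = cjN (cd a) := by decide

theorem cd_om : ∀ a : D4, cd (om a) = mulN 2 (cd a) := by decide

theorem cd_inj {a b : D4} (e : cd a = cd b) : a = b := by rw [← (cd_spec a).2, e, (cd_spec b).2]

theorem code_lt (v : V4) : code v < 256 := by
  have := (cd_spec (v 0)).1; have := (cd_spec (v 1)).1; have := (cd_spec (v 2)).1; have := (cd_spec (v 3)).1
  unfold code; omega

theorem dg_code (v : V4) (i : Fin 4) : dg (code v) i.1 = cd (v i) := by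
  have := (cd_spec (v 0)).1; have := (cd_spec (v 1)).1; have := (cd_spec (v 2)).1; have := (cd_spec (v 3)).1
  unfold dg code
  rw [Nat.shiftRight_eq_div_pow, show (3 : ℕ) = 2 ^ 2 - 1 from rfl, Nat.and_two_pow_sub_one_eq_mod]
  fin_cases i <;> simp <;> omega

theorem dec_code (v : V4) : dec (code v) = v := funext fun i => by
  unfold dec
  rw [dg_code, (cd_spec _).2]

theorem code_injective : Function.Injective code := fun u v h => by rw [← dec_code u, ← dec_code v, h]

set_option maxHeartbeats 2000000 in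
theorem codes_ok : ∀ n < 256, code (dec n) = n := by decide +kernel

/-- Reduction of a statement about all vectors to the codes. -/
theorem forall_of_codes {p : ℕ → Bool} (h : (List.range 256).all p = true) (v : V4) : p (code v) = true :=
  List.all_eq_true.1 h (code v) (List.mem_range.2 (code_lt v))

theorem xor_four (a b c d : ℕ) (ha : a < 4) (hc : c < 4) :
    (a + 4 * b) ^^^ (c + 4 * d) = (a ^^^ c) + 4 * (b ^^^ d) := by
  have hac : a ^^^ c < 4 := Nat.xor_lt_two_pow (n := 2) ha hc
  have e : ∀ x y : ℕ, x < 4 → x + 4 * y = 2 ^ 2 * y + x := fun x y _ => by ring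
  apply Nat.eq_of_testBit_eq
  intro i
  rw [Nat.testBit_xor, e a b ha, e c d hc, e _ _ hac, Nat.testBit_two_pow_mul_add _ ha,
    Nat.testBit_two_pow_mul_add _ hc, Nat.testBit_two_pow_mul_add _ hac]
  split <;> rw [Nat.testBit_xor]

theorem code_add (u v : V4) : code (u + v) = code u ^^^ code v := by
  have h := fun (w : V4) i => (cd_spec (w i)).1
  simp only [code, Pi.add_apply, cd_add]
  rw [xor_four _ _ _ _ (h u 0) (h v 0), xor_four _ _ _ _ (h u 1) (h v 1), xor_four _ _ _ _ (h u 2) (h v 2)]

theorem code_zero : code 0 = 0 := by decide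

theorem code_scl (c : D4) (v : V4) : code (scl c v) = scN (cd c) (code v) := by
  simp only [scN]
  rw [show dg (code v) 0 = cd (v 0) from dg_code v 0, show dg (code v) 1 = cd (v 1) from dg_code v 1,
    show dg (code v) 2 = cd (v 2) from dg_code v 2, show dg (code v) 3 = cd (v 3) from dg_code v 3]
  simp only [code, scl, cd_fm]

theorem omV_eq (v : V4) : omV v = scl (0, 1) v :=
  funext fun i => (by decide : ∀ a : D4, om a = fm (0, 1) a) (v i)

theorem code_omV (v : V4) : code (omV v) = scN 2 (code v) := by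
  rw [omV_eq, code_scl]; rfl

theorem cd_hm (u v : V4) : cd (hm u v) = hN (code u) (code v) := by
  simp only [hm, hN, cd_add, cd_fm, cd_cj]
  rw [show dg (code u) 0 = cd (u 0) from dg_code u 0, show dg (code u) 1 = cd (u 1) from dg_code u 1,
    show dg (code u) 2 = cd (u 2) from dg_code u 2, show dg (code u) 3 = cd (u 3) from dg_code u 3,
    show dg (code v) 0 = cd (v 0) from dg_code v 0, show dg (code v) 1 = cd (v 1) from dg_code v 1,
    show dg (code v) 2 = cd (v 2) from dg_code v 2, show dg (code v) 3 = cd (v 3) from dg_code v 3]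

theorem q4_eq (v : V4) : q4 v = bitZ (qN (code v)) := by
  have key : ∀ a b c d : D4, nzd a + nzd b + nzd c + nzd d =
      bitZ (xor (xor (cd a != 0) (cd b != 0)) (xor (cd c != 0) (cd d != 0))) := by decide
  rw [q4, key, qN, show dg (code v) 0 = cd (v 0) from dg_code v 0, show dg (code v) 1 = cd (v 1) from dg_code v 1,
    show dg (code v) 2 = cd (v 2) from dg_code v 2, show dg (code v) 3 = cd (v 3) from dg_code v 3]

theorem q4_eq_zero_iff (v : V4) : q4 v = 0 ↔ qN (code v) = false := by
  rw [q4_eq]; cases qN (code v) <;> simp [bitZ]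

theorem bs4_eq (u v : V4) : bs4 u v = (hm u v).2 := by
  have key : ∀ a b : D4, nzd (a + b) + nzd a + nzd b = (fm a (cj b)).2 := by decide
  simp only [hm, bs4, q4, Pi.add_apply, Prod.snd_add, ← key]
  ring

theorem bitZ_iff : ∀ b : Bool, (bitZ b = 0 ↔ b = false) ∧ (bitZ b = 1 ↔ b = true) := by decide

end CfsgLib.Recognition.USixTwo
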