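import Cfsg.Agent.Lib.Recognition.USixTwo.Weak

/-!
# Two commuting conjugates: generalities
-/

set_option autoImplicit false
set_option linter.unusedSectionVars false

namespace CfsgLib.Recognition.USixTwo

open CfsgLib.ThreeTransp.Extraspecial
open CfsgLib.Sporadic.LargeFischer (D4 om nzd)

variable {X : Type*} [Group X] [Finite X]

/-- Two distinct commuting conjugates with their configurations. -/
structure Couple (z w : X) (J J' : Subgroup X) (π π' : X → V4)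
    (ψ : ↥(Subgroup.centralizer ({z} : Set X)) →* (V4 ≃ₗ[ZMod 2] V4))
    (ψ' : ↥(Subgroup.centralizer ({w} : Set X)) →* (V4 ≃ₗ[ZMod 2] V4)) : Prop where
  hz : Core z J π ψ
  hw : Core w J' π' ψ'
  conj : ∃ g, g * z * g⁻¹ = w ∧ J.map (MulAut.conj g).toMonoidHom = J'
  comm : w * z = z * w
  ne : w ≠ z

/-- The element as a member of the centraliser. -/
def cz {z w : X} (hc : w * z = z * w) : ↥(Subgroup.centralizer ({z} : Set X)) :=
  ⟨w, Subgroup.mem_centralizer_singleton_iff.2 hc⟩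

theorem cz_coe {z w : X} (hc : w * z = z * w) : (cz hc : X) = w := rfl

theorem Core.exists_couple {z : X} {J : Subgroup X} {π : X → V4}
    {ψ : ↥(Subgroup.centralizer ({z} : Set X)) →* (V4 ≃ₗ[ZMod 2] V4)} (h : Core z J π ψ) {w : X}
    (hc : IsConj z w) (hcomm : w * z = z * w) (hne : w ≠ z) :
    ∃ J' π' ψ', Couple z w J J' π π' ψ ψ' := by
  obtain ⟨g, rfl⟩ := isConj_iff.1 hc
  exact ⟨_, _, _, h, h.conj g, ⟨g, rfl, rfl⟩, hcomm, hne⟩

namespace Couple

variable {z w : X} {J J' : Subgroup X} {π π' : X → V4}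
  {ψ : ↥(Subgroup.centralizer ({z} : Set X)) →* (V4 ≃ₗ[ZMod 2] V4)}
  {ψ' : ↥(Subgroup.centralizer ({w} : Set X)) →* (V4 ≃ₗ[ZMod 2] V4)} (P : Couple z w J J' π π' ψ ψ')
include P

theorem symm : Couple w z J' J π' π ψ' ψ := by
  obtain ⟨g, hg, hJ⟩ := P.conj
  refine ⟨P.hw, P.hz, ⟨g⁻¹, by rw [← hg]; group, ?_⟩, P.comm.symm, P.ne.symm⟩
  rw [← hJ, Subgroup.map_map]
  convert Subgroup.map_id J
  ext x
  simp [mul_assoc]

theorem isConj : IsConj z w := by
  obtain ⟨g, hg, -⟩ := P.conj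
  exact isConj_iff.2 ⟨g, hg⟩

theorem ww : w * w = 1 := P.hw.extra.z_sq

theorem zz : z * z = 1 := P.hz.extra.z_sq

theorem winv : w⁻¹ = w := P.hw.extra.inv_z

theorem not_mem : w ∉ J := fun e => P.ne (P.hz.eq_of_isConj e P.isConj)

theorem not_mem' : z ∉ J' := P.symm.not_mem

theorem act_w {a : X} (ha : a ∈ J) : π (w * a * w⁻¹) = ψ (cz P.comm) (π a) := P.hz.act (cz P.comm) a ha

theorem psi_sq : ψ (cz P.comm) * ψ (cz P.comm) = 1 := by
  rw [← map_mul, show cz P.comm * cz P.comm = 1 from Subtype.ext P.ww, map_one]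

theorem psi_ne : ψ (cz P.comm) ≠ 1 := fun e => P.not_mem ((P.hz.ker _).1 e)

theorem psi_cases : (∃ v, q4 v = 0 ∧ v ≠ 0 ∧ ψ (cz P.comm) = tv v) ∨ (∃ a b, q4 a = 0 ∧ a ≠ 0 ∧ q4 b = 0 ∧
    b ≠ 0 ∧ hm a b = 0 ∧ tv a ≠ tv b ∧ ψ (cz P.comm) = tv a * tv b) :=
  involution_cases P.hz.model ⟨_, rfl⟩ P.psi_sq P.psi_ne

theorem jcomm {j : X} (hj : j ∈ J) : j * z = z * j := P.hz.cent_z hj

theorem conj_comm {j : X} (hj : j ∈ J) : j * w * j⁻¹ * z = z * (j * w * j⁻¹) := by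
  have h1 := P.jcomm hj
  have h2 : j⁻¹ * z = z * j⁻¹ := P.jcomm (inv_mem hj)
  calc j * w * j⁻¹ * z = j * (w * (j⁻¹ * z)) := by group
    _ = j * (w * z) * j⁻¹ := by rw [h2]; group
    _ = j * z * w * j⁻¹ := by rw [P.comm]; group
    _ = z * (j * w * j⁻¹) := by rw [h1]; group

theorem cof_mem {j : X} (hj : j ∈ J) : w * (j * w * j⁻¹) ∈ J := by
  have h1 := P.hz.norm w P.comm j hj
  have : w * (j * w * j⁻¹) = w * j * w⁻¹ * j⁻¹ := by rw [P.winv]; group
  rw [this]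
  exact mul_mem h1 (inv_mem hj)

theorem π_cof {j : X} (hj : j ∈ J) : π (w * (j * w * j⁻¹)) = ψ (cz P.comm) (π j) + π j := by
  have : w * (j * w * j⁻¹) = w * j * w⁻¹ * j⁻¹ := by rw [P.winv]; group
  rw [this, P.hz.π_mul _ (P.hz.norm w P.comm j hj) _ (inv_mem hj), P.act_w hj, P.hz.π_inv hj]

theorem cof_mul (j₁ j₂ : X) : w * (j₁ * j₂ * w * (j₁ * j₂)⁻¹) =
    w * (j₁ * w * j₁⁻¹) * (j₁ * (w * (j₂ * w * j₂⁻¹)) * j₁⁻¹) := by
  rw [show w * (j₁ * w * j₁⁻¹) * (j₁ * (w * (j₂ * w * j₂⁻¹)) * j₁⁻¹) =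
    w * (j₁ * (w * w) * (j₂ * w * j₂⁻¹) * j₁⁻¹) by group, P.ww]
  group

theorem conj_sq {j : X} (_hj : j ∈ J) : (j * w * j⁻¹) * (j * w * j⁻¹) = 1 := by
  rw [show (j * w * j⁻¹) * (j * w * j⁻¹) = j * (w * w) * j⁻¹ by group, P.ww, mul_one, mul_inv_cancel]

/-- No other conjugate under `J` lies in `J'`. -/
theorem conj_not_mem {j : X} (hj : j ∈ J) (hm : j * w * j⁻¹ ∈ J') : j * w * j⁻¹ = w :=
  P.hw.eq_of_isConj hm (isConj_iff.2 ⟨j, rfl⟩) |>.trans rfl

theorem meet_sq {b : X} (hb : b ∈ J) (hb' : b ∈ J') : b * b = 1 := by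
  rcases P.hz.sq_cases hb with e | e
  · exact e
  · rcases P.hw.sq_cases hb' with e' | e'
    · exact e'
    · exact absurd (e'.symm.trans e) P.ne

/-- An element of `J'` centralising `z` centralises the intersection. -/
theorem cross {b k : X} (hb : b ∈ J) (hb' : b ∈ J') (hk : k ∈ J') (hkz : k * z = z * k) : k * b = b * k := by
  rcases P.hw.extra.conj_cases hb' hk with e | e
  · exact mul_inv_eq_iff_eq_mul.1 e
  · exfalso
    have h1 := P.hz.norm k hkz b hb
    rw [e] at h1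
    exact P.not_mem ((Subgroup.mul_mem_cancel_left _ hb).1 h1)

theorem comm_meet {k k' : X} (hk : k ∈ J) (hkw : k * w = w * k) (hk' : k' ∈ J') (hk'z : k' * z = z * k') :
    k * k' * k⁻¹ * k'⁻¹ ∈ J ∧ k * k' * k⁻¹ * k'⁻¹ ∈ J' := by
  refine ⟨?_, mul_mem (P.hw.norm k hkw k' hk') (inv_mem hk')⟩
  rw [show k * k' * k⁻¹ * k'⁻¹ = k * (k' * k⁻¹ * k'⁻¹) by group]
  exact mul_mem hk (P.hz.norm k' hk'z _ (inv_mem hk))

/-- The elements of `J` centralising `w`, acting on the coordinates at `w`. -/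
def actOn (_P : Couple z w J J' π π' ψ ψ') :
    ↥(J ⊓ Subgroup.centralizer ({w} : Set X)) →* (V4 ≃ₗ[ZMod 2] V4) :=
  ψ'.comp (Subgroup.inclusion inf_le_right)

theorem actOn_apply (k : ↥(J ⊓ Subgroup.centralizer ({w} : Set X))) :
    P.actOn k = ψ' ⟨k, (Subgroup.mem_inf.1 k.2).2⟩ := rfl

theorem actOn_le : P.actOn.range ≤ ψ'.range := by rintro _ ⟨k, rfl⟩; exact ⟨_, rfl⟩

theorem actOn_two : IsPGroup 2 P.actOn.range := by
  have hK : IsPGroup 2 ↥(J ⊓ Subgroup.centralizer ({w} : Set X)) := P.hz.extra.isPGroup.to_le inf_le_left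
  exact hK.of_surjective P.actOn.rangeRestrict P.actOn.rangeRestrict_surjective

theorem actOn_comm : ∀ p ∈ P.actOn.range, p * ψ' (cz P.symm.comm) = ψ' (cz P.symm.comm) * p := by
  rintro _ ⟨k, rfl⟩
  rw [P.actOn_apply, ← map_mul, ← map_mul]
  congr 1
  exact Subtype.ext (P.jcomm (Subgroup.mem_inf.1 k.2).1)

theorem actOn_fix {b : X} (hb : b ∈ J) (hb' : b ∈ J') : ∀ p ∈ P.actOn.range, p (π' b) = π' b := by
  rintro _ ⟨k, rfl⟩
  obtain ⟨hk, hkw⟩ := Subgroup.mem_inf.1 k.2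
  rw [P.actOn_apply, ← P.hw.act _ b hb']
  congr 1
  show (k : X) * b * (k : X)⁻¹ = b
  rw [P.symm.cross hb' hb hk (Subgroup.mem_centralizer_singleton_iff.1 hkw), mul_inv_cancel_right]

/-- A bound on the index of the centraliser by the number of conjugates under `J`. -/
theorem card_cent {W : Finset V4} (hW : ∀ j ∈ J, π (w * (j * w * j⁻¹)) ∈ W) :
    512 ≤ Nat.card ↥(J ⊓ Subgroup.centralizer ({w} : Set X)) * (2 * W.card) := by
  classical
  set K := (J ⊓ Subgroup.centralizer ({w} : Set X)).subgroupOf J with hK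
  choose! rep hrep hrepπ using P.hz.π_surj
  let f : ↥J → X := fun j => w * ((j : X) * w * (j : X)⁻¹)
  have hf : ∀ j₁ j₂ : ↥J, f j₁ = f j₂ ↔ j₁⁻¹ * j₂ ∈ K := by
    intro j₁ j₂
    rw [hK, Subgroup.mem_subgroupOf, Subgroup.mem_inf, Subgroup.mem_centralizer_singleton_iff]
    simp only [f, mul_right_inj, Subgroup.coe_mul, Subgroup.coe_inv]
    constructor
    · intro e
      refine ⟨mul_mem (inv_mem j₁.2) j₂.2, ?_⟩
      calc (j₁ : X)⁻¹ * j₂ * w = (j₁ : X)⁻¹ * ((j₂ : X) * w * (j₂ : X)⁻¹) * j₂ := by group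
        _ = w * ((j₁ : X)⁻¹ * j₂) := by rw [← e]; group
    · rintro ⟨-, e⟩
      calc (j₁ : X) * w * (j₁ : X)⁻¹ = (j₁ : X) * (w * ((j₁ : X)⁻¹ * j₂)) * (j₂ : X)⁻¹ := by group
        _ = (j₂ : X) * w * (j₂ : X)⁻¹ := by rw [← e]; group
  let g : ↥J ⧸ K → ↥W × Bool := Quotient.lift (fun j => (⟨π (f j), hW j j.2⟩, decide (f j = rep (π (f j)))))
    (fun a b hab => by
      have := (hf a b).2 (QuotientGroup.leftRel_apply.1 hab)
      simp only [this])
  have hg : Function.Injective g := by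
    intro a b
    induction a using QuotientGroup.induction_on with
    | H a =>
      induction b using QuotientGroup.induction_on with
      | H b =>
        intro e
        apply QuotientGroup.eq.2
        rw [← hf]
        have e1 : π (f a) = π (f b) := congrArg (fun x => (x.1 : V4)) e
        have e2 : (f a = rep (π (f a))) ↔ (f b = rep (π (f b))) := decide_eq_decide.1 (congrArg Prod.snd e)
        have ha := P.cof_mem a.2
        have hb := P.cof_mem b.2
        have hra := (P.hz.π_eq_iff (hrep (π (f a))) ha).1 (hrepπ _)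
        have hrb := (P.hz.π_eq_iff (hrep (π (f b))) hb).1 (hrepπ _)
        rw [← e1] at hrb e2
        rcases hra with x | x <;> rcases hrb with y | y
        · exact x.trans y.symm
        · exact x.trans (e2.1 x).symm
        · exact ((e2.2 y).trans y.symm)
        · exact x.trans y.symm
  have hle := Nat.card_le_card_of_injective g hg
  rw [Nat.card_prod, Nat.card_eq_fintype_card (α := ↥W), Fintype.card_coe, Nat.card_eq_fintype_card (α := Bool),
    Fintype.card_bool] at hle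
  have hmul := K.card_mul_index
  rw [Subgroup.index, Nat.card_congr (Subgroup.subgroupOfEquivOfLe inf_le_left).toEquiv, P.hz.card_J] at hmul
  calc 512 = _ := hmul.symm
    _ ≤ _ := Nat.mul_le_mul_left _ (hle.trans (le_of_eq (mul_comm _ _)))

/-- A non-commuting pair in a large centraliser. -/
theorem exists_commutator (h64 : 64 ≤ Nat.card ↥(J ⊓ Subgroup.centralizer ({w} : Set X))) :
    ∃ g ∈ P.actOn.range, ∃ k ∈ P.actOn.range, g * k = ψ' (cz P.symm.comm) * (k * g) := by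
  obtain ⟨a, ha, b, hb, hab⟩ := P.hz.exists_noncomm (K := J ⊓ Subgroup.centralizer ({w} : Set X)) inf_le_left h64
  have hc := P.hz.extra.conj_eq_of_not_comm (Subgroup.mem_inf.1 hb).1 (Subgroup.mem_inf.1 ha).1
    (fun e => hab e)
  refine ⟨_, ⟨⟨a, ha⟩, rfl⟩, _, ⟨⟨b, hb⟩, rfl⟩, ?_⟩
  rw [P.actOn_apply, P.actOn_apply, ← map_mul, ← map_mul, ← map_mul]
  congr 1
  refine Subtype.ext ?_
  show a * b = z * (b * a)
  calc a * b = a * b * a⁻¹ * a := by group
    _ = b * z * a := by rw [hc]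
    _ = z * (b * a) := by rw [← P.hz.extra.z_comm (Subgroup.mem_inf.1 hb).1, mul_assoc]

end Couple

end CfsgLib.Recognition.USixTwo
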