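import Cfsg.Agent.Lib.Recognition.USixTwo.Component
import Cfsg.Agent.Lib.Sporadic.FischerUnitary
import Cfsg.Agent.S0280
import Cfsg.Agent.S0283
import Cfsg.Agent.Lib.Chevalley.G2Two.Transfer

/-!
# The group generated by the component

The component is a class of 3-transpositions of the group it generates, with lines of five members; so that group
is a projective special unitary group over the field with four elements, and the count gives dimension six.
-/

set_option autoImplicit false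
set_option linter.unusedSectionVars false
set_option maxRecDepth 100000

namespace CfsgLib.Recognition.USixTwo

open CfsgLib.ThreeTransp.Extraspecial
open CfsgLib.Sporadic
open CfsgLib.Sporadic.LargeFischer (D4 om nzd)

theorem nonorth_both : ∀ i < 45, ∀ j < 45, (List.range 45).any (fun k =>
    !(k == i || (orthMasks.getD i 0).testBit k) && !(k == j || (orthMasks.getD j 0).testBit k)) = true := by
  decide +kernel

theorem separated : ∀ i < 45, ∀ j < 45, i = j ∨ (List.range 45).any (fun k =>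
    (k == i || (orthMasks.getD i 0).testBit k) && !(k == j || (orthMasks.getD j 0).testBit k)) = true := by
  decide +kernel

theorem exists_nonorth_both (i j : Fin 45) :
    ∃ k, ¬ (i = k ∨ orthP i k = true) ∧ ¬ (j = k ∨ orthP j k = true) := by
  obtain ⟨k, hk, h⟩ := List.any_eq_true.1 (nonorth_both _ i.2 _ j.2)
  simp only [Bool.and_eq_true, Bool.not_eq_true', Bool.or_eq_false_iff, beq_eq_false_iff_ne] at h
  obtain ⟨⟨h1, h2⟩, h3, h4⟩ := h
  refine ⟨⟨k, List.mem_range.1 hk⟩, ?_, ?_⟩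
  · rintro (e | e)
    · exact h1 (congrArg Fin.val e).symm
    · exact Bool.eq_false_iff.1 h2 e
  · rintro (e | e)
    · exact h3 (congrArg Fin.val e).symm
    · exact Bool.eq_false_iff.1 h4 e

theorem exists_separating {i j : Fin 45} (h : i ≠ j) :
    ∃ k, (i = k ∨ orthP i k = true) ∧ ¬ (j = k ∨ orthP j k = true) := by
  obtain ⟨k, hk, e⟩ := List.any_eq_true.1 ((separated _ i.2 _ j.2).resolve_left fun e => h (Fin.ext e))
  simp only [Bool.and_eq_true, Bool.not_eq_true', Bool.or_eq_false_iff, Bool.or_eq_true, beq_iff_eq,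
    beq_eq_false_iff_ne] at e
  obtain ⟨e1, e2, e3⟩ := e
  refine ⟨⟨k, List.mem_range.1 hk⟩, e1.imp (fun x => Fin.ext x.symm) id, ?_⟩
  rintro (x | x)
  · exact e2 (congrArg Fin.val x).symm
  · exact Bool.eq_false_iff.1 e3 x

theorem singular_pairs : (List.range 256).all (fun n => (List.range 256).any fun a =>
    !qN a && !qN (n ^^^ a) && decide (n ^^^ a < 256)) = true := by decide +kernel

/-- Every vector is a sum of two singular ones. -/
theorem exists_singular_sum (v : V4) : ∃ a b, q4 a = 0 ∧ q4 b = 0 ∧ v = a + b := by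
  obtain ⟨a, ha, h⟩ := List.any_eq_true.1 (forall_of_codes singular_pairs v)
  simp only [Bool.and_eq_true, Bool.not_eq_true', decide_eq_true_eq] at h
  obtain ⟨⟨h1, h2⟩, h3⟩ := h
  refine ⟨dec a, dec (code v ^^^ a), ?_, ?_, code_injective ?_⟩
  · rw [q4_eq_zero_iff, codes_ok _ (List.mem_range.1 ha), h1]
  · rw [q4_eq_zero_iff, codes_ok _ h3, h2]
  · rw [code_add, codes_ok _ (List.mem_range.1 ha), codes_ok _ h3, Nat.xor_comm (code v), ← Nat.xor_assoc,
      Nat.xor_self, Nat.zero_xor]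

theorem fm_eq_zero : ∀ c : D4, c ≠ 0 → ∀ x : D4, fm c x = 0 → x = 0 := by decide

/-- An invariant additive subgroup which is not trivial contains all the singular vectors. -/
theorem singular_mem_of_invariant {W : AddSubgroup V4} (hW : ∀ g ∈ TG, ∀ x ∈ W, g x ∈ W) {x : V4} (hx : x ∈ W)
    (hx0 : x ≠ 0) {v : V4} (hq : q4 v = 0) : v ∈ W := by
  by_cases hv : v = 0
  · rw [hv]; exact zero_mem _
  obtain ⟨i, hi⟩ : ∃ i : Fin 45, hm x (ptV i) ≠ 0 := by
    by_contra hc
    push Not at hc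
    have hall : ∀ s, q4 s = 0 → hm x s = 0 := by
      intro s hs
      by_cases hs0 : s = 0
      · rw [hs0, hm_zero_right]
      obtain ⟨i, c, -, rfl⟩ := exists_point hs hs0
      rw [hm_scl_right, hc i, fm_zero]
    obtain ⟨i, hi⟩ := hm_nondeg hx0
    obtain ⟨a, b, ha, hb, e⟩ := exists_singular_sum (ev i)
    refine hi ?_
    rw [hm_symm, e, hm_add_right, hall a ha, hall b hb]
    rfl
  have hs := sub_mem (hW _ (tvP_mem i.2) x hx) hx
  rw [show tvP i = tv (ptV i) from rfl, tv_apply (hm_self_zero (ptV_q _ i.2).1), add_sub_cancel_left] at hs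
  have hne : scl (hm x (ptV i)) (ptV i) ≠ 0 := fun e => hi (scl_eq_zero (ptV_q _ i.2).2 e)
  obtain ⟨g, hg, e1⟩ := exists_moving (q4_scl (ptV_q _ i.2).1 _) hne
  obtain ⟨k, hk, rfl⟩ := exists_moving hq hv
  have := hW _ (mul_mem hk (inv_mem hg)) _ hs
  rw [← e1] at this
  rw [show k v0 = (k * g⁻¹) (g v0) by show k v0 = k (g.symm (g v0)); rw [g.symm_apply_apply]]
  exact this

variable {X : Type*} [Group X] [Finite X]

theorem Member.conjBy {z t : X} (h : Member z t) (g : X) : Member (g * z * g⁻¹) (g * t * g⁻¹) := by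
  refine ⟨?_, ?_, fun e => h.2.2 (mul_left_cancel (mul_right_cancel e))⟩
  · obtain ⟨c, rfl⟩ := isConj_iff.1 h.1
    exact isConj_iff.2 ⟨g * c * g⁻¹, by group⟩
  · calc g * t * g⁻¹ * (g * z * g⁻¹) = g * (t * z) * g⁻¹ := by group
      _ = _ := by rw [h.2.1]; group

theorem Near.conjBy {z t : X} (h : Near z t) (g : X) : Near (g * z * g⁻¹) (g * t * g⁻¹) := by
  rcases h with rfl | h | ⟨e, h1, h2⟩
  · exact Or.inl rfl
  · exact Or.inr (Or.inl (h.conjBy g))
  · exact Or.inr (Or.inr ⟨_, h1.conjBy g, h2.conjBy g⟩)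

theorem Near.symm {z t : X} (h : Near z t) : Near t z := by
  rcases h with rfl | h | ⟨e, h1, h2⟩
  · exact Or.inl rfl
  · exact Or.inr (Or.inl h.symm)
  · exact Or.inr (Or.inr ⟨e, h2.symm, h1.symm⟩)

/-- The braid relation moves one to the other. -/
theorem conj_of_braid {a b : X} (ha : a * a = 1) (hb : b * b = 1) (h : (a * b) ^ 3 = 1) :
    a * b * a * (a * b)⁻¹ = b := by
  rw [mul_inv_rev, inv_eq_of_mul_eq_one_right ha, inv_eq_of_mul_eq_one_right hb]
  calc a * b * a * (b * a) = (a * b) ^ 3 * b⁻¹ := by rw [pow_three]; group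
    _ = b := by rw [h, one_mul, inv_eq_of_mul_eq_one_right hb]

namespace Core

variable {z : X} {J : Subgroup X} {π : X → V4} {ψ : ↥(Subgroup.centralizer ({z} : Set X)) →* (V4 ≃ₗ[ZMod 2] V4)}
  (h : Core z J π ψ)
include h

theorem near_trans {t u : X} (h1 : Near z t) (h2 : Near t u) : Near z u := by
  rcases h2 with rfl | h2 | ⟨e, a, b⟩
  · exact h1
  · exact h.near_closed h1 h2
  · exact h.near_closed (h.near_closed h1 a) b

theorem near_member {d e : X} (h1 : Near z d) (h2 : Near z e) (hc : d * e = e * d) (hne : e ≠ d) : Member d e :=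
  ⟨h1.isConj.symm.trans h2.isConj, hc.symm, hne⟩

theorem near_order {d e : X} (h1 : Near z d) (h2 : Near z e) : d * e = e * d ∨ (d * e) ^ 3 = 1 := by
  obtain ⟨Jd, πd, ψd, hd⟩ := h.exists_core h1.isConj
  obtain ⟨Jz, πz, ψz, hdc⟩ := h.exists_core h1.isConj
  rcases (hdc.near_trans h1.symm h2) with rfl | hm' | ⟨q, hq1, hq2⟩
  · exact Or.inl rfl
  · exact Or.inl hm'.2.1.symm
  obtain ⟨Jq, πq, ψq, hq⟩ := h.exists_core (h1.isConj.trans hq1.1)
  obtain ⟨i, hi⟩ := hq.exists_at hq1.symm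
  obtain ⟨k, hk⟩ := hq.exists_at hq2
  by_cases hc : d * e = e * d
  · exact Or.inl hc
  · exact Or.inr (hq.at_braid hi hk hc)

theorem sq_one {d : X} (hd : Near z d) : d * d = 1 := by
  obtain ⟨Jd, πd, ψd, hd'⟩ := h.exists_core hd.isConj
  exact hd'.extra.z_sq

/-- The group generated by the component. -/
def span (_h : Core z J π ψ) : Subgroup X := Subgroup.closure {t | Near z t}

theorem mem_span {t : X} (ht : Near z t) : t ∈ h.span := Subgroup.subset_closure ht

theorem z_near {g : X} (hg : g ∈ h.span) : Near z (g * z * g⁻¹) := by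
  unfold Core.span at hg
  induction hg using Subgroup.closure_induction with
  | mem d hd =>
    have h1 := hd.symm.conjBy d
    rw [show d * d * d⁻¹ = d by group] at h1
    exact h.near_trans hd h1
  | one => exact Or.inl (by group)
  | mul a b _ _ ha hb =>
    have := h.near_trans ha (hb.conjBy a)
    rwa [show a * (b * z * b⁻¹) * a⁻¹ = a * b * z * (a * b)⁻¹ by group] at this
  | inv a _ ha =>
    have := (ha.conjBy a⁻¹).symm
    rwa [show a⁻¹ * (a * z * a⁻¹) * a⁻¹⁻¹ = z by group] at this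

theorem near_conj {g t : X} (hg : g ∈ h.span) (ht : Near z t) : Near z (g * t * g⁻¹) :=
  h.near_trans (h.z_near hg) (ht.conjBy g)

variable (hni : ∃ w, Member z w)
include hni

/-- The group contains the whole centraliser. -/
theorem cent_le_span : Subgroup.centralizer ({z} : Set X) ≤ h.span := by
  have hzM : z ∈ h.span := h.mem_span (Or.inl rfl)
  have hsing : ∀ v, q4 v = 0 → ∃ a ∈ J, a ∈ h.span ∧ π a = v := by
    intro v hv
    by_cases hv0 : v = 0
    · exact ⟨1, one_mem _, one_mem _, by rw [h.π_one, hv0]⟩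
    obtain ⟨i, c, -, rfl⟩ := exists_point hv hv0
    obtain ⟨w, hw, ew⟩ := h.exists_member hni (ptV_q _ i.2).1 (ptV_q _ i.2).2
    obtain ⟨J', π', ψ', P⟩ := h.exists_couple hw.1 hw.2.1 hw.2.2
    obtain ⟨j, hj, e⟩ := P.exists_cof (ptV_q _ i.2).1 (ptV_q _ i.2).2 ew c
    refine ⟨_, P.cof_mem hj, mul_mem (h.mem_span (Or.inr (Or.inl hw))) (h.mem_span (Or.inr (Or.inl ?_))), e⟩
    exact (h.member_conj ⟨j, h.mem_cent hj⟩ hw).1
  have hJ : J ≤ h.span := by
    intro a ha
    obtain ⟨v₁, v₂, hv₁, hv₂, e⟩ := exists_singular_sum (π a)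
    obtain ⟨a₁, ha₁, hm₁, e₁⟩ := hsing v₁ hv₁
    obtain ⟨a₂, ha₂, hm₂, e₂⟩ := hsing v₂ hv₂
    rcases (h.π_eq_iff (mul_mem ha₁ ha₂) ha).1 (by rw [h.π_mul _ ha₁ _ ha₂, e₁, e₂, e]) with x | x
    · rw [x]; exact mul_mem hm₁ hm₂
    · rw [x]; exact mul_mem (mul_mem hm₁ hm₂) hzM
  intro c hc
  have hT : TG ≤ (h.span.subgroupOf (Subgroup.centralizer ({z} : Set X))).map ψ := by
    rw [TG, Subgroup.closure_le]
    rintro _ ⟨i, rfl⟩
    obtain ⟨w, hw, ew⟩ := h.exists_member hni (ptV_q _ i.2).1 (ptV_q _ i.2).2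
    exact ⟨cz hw.2.1, h.mem_span (Or.inr (Or.inl hw)), ew⟩
  obtain ⟨d, hd, e⟩ : ψ ⟨c, hc⟩ ∈ (h.span.subgroupOf (Subgroup.centralizer ({z} : Set X))).map ψ :=
    hT (by rw [← model_eq h.model]; exact ⟨_, rfl⟩)
  have hdJ := (h.ker (d⁻¹ * ⟨c, hc⟩)).1 (by rw [map_mul, map_inv, e, inv_mul_cancel])
  have := mul_mem (show (d : X) ∈ h.span from hd) (hJ hdJ)
  simpa using this

/-- An element of the group moves `z` to a given member of the component. -/
theorem exists_move {t : X} (ht : Near z t) : ∃ g ∈ h.span, g * z * g⁻¹ = t := by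
  have step : ∀ {d e}, Near z d → Member d e → ∃ g ∈ h.span, g * d * g⁻¹ = e := by
    intro d e hd hde
    have he := h.near_closed hd hde
    obtain ⟨Jd, πd, ψd, hdc⟩ := h.exists_core hd.isConj
    obtain ⟨a, ha⟩ := hdc.exists_at hde
    obtain ⟨k, hk, -⟩ := exists_nonorth_both a a
    obtain ⟨q, hq, hqa⟩ := hdc.exists_member ⟨e, hde⟩ (ptV_q _ a.2).1 (ptV_q _ a.2).2
    obtain ⟨i₂, hi₂⟩ : ∃ i, i ≠ a ∧ orthP a i = true := by
      obtain ⟨i, hi⟩ : (Finset.univ.filter fun i => orthP a i = true).Nonempty :=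
        Finset.card_pos.1 (by rw [orthP_count]; norm_num)
      exact ⟨i, fun e0 => ((orthP_iff a i).1 (Finset.mem_filter.1 hi).2).1 e0.symm, (Finset.mem_filter.1 hi).2⟩
    obtain ⟨m, hm', hmi⟩ := hdc.exists_member ⟨e, hde⟩ (ptV_q _ i₂.2).1 (ptV_q _ i₂.2).2
    obtain ⟨hne, ho⟩ := And.intro hi₂.1 hi₂.2
    have hat : hdc.At m i₂ := ⟨hm', hmi⟩
    have hem : e * m = m * e := (hdc.at_commute ha hat).2 (Or.inr ho)
    have hme : Member m e := ⟨hm'.1.symm.trans hde.1, hem, fun e0 => hne (hdc.at_unique hat (e0 ▸ ha))⟩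
    obtain ⟨Jm, πm, ψm, hmc⟩ := h.exists_core (hd.isConj.trans hm'.1)
    obtain ⟨x, hx⟩ := hmc.exists_at hm'.symm
    obtain ⟨y, hy⟩ := hmc.exists_at hme
    obtain ⟨r, r1, r2⟩ := exists_nonorth_both x y
    obtain ⟨t, ht, htr⟩ := hmc.exists_member ⟨d, hm'.symm⟩ (ptV_q _ r.2).1 (ptV_q _ r.2).2
    have hat' : hmc.At t r := ⟨ht, htr⟩
    have n1 := mt (hmc.at_commute hx hat').1 r1
    have n2 := mt (hmc.at_commute hy hat').1 r2
    have htD : Near z t := h.near_closed (h.near_closed hd hm') ht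
    have b1 := hmc.at_braid hx hat' n1
    have b2 := hmc.at_braid hat' hy (fun e0 => n2 e0.symm)
    have c1 := conj_of_braid (h.sq_one hd) (h.sq_one htD) b1
    have c2 := conj_of_braid (h.sq_one htD) (h.sq_one he) b2
    refine ⟨t * e * (d * t), mul_mem (mul_mem (h.mem_span htD) (h.mem_span he))
      (mul_mem (h.mem_span hd) (h.mem_span htD)), ?_⟩
    rw [show t * e * (d * t) * d * (t * e * (d * t))⁻¹ = t * e * (d * t * d * (d * t)⁻¹) * (t * e)⁻¹ by group, c1, c2]
  rcases ht with rfl | ht | ⟨e, he, het⟩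
  · exact ⟨1, one_mem _, by group⟩
  · exact step (Or.inl rfl) ht
  · obtain ⟨g, hg, e1⟩ := step (Or.inl rfl) he
    obtain ⟨k, hk, e2⟩ := step (Or.inr (Or.inl he)) het
    exact ⟨k * g, mul_mem hk hg, by rw [← e2, ← e1]; group⟩

theorem z_commutator : ∃ a ∈ J, ∃ b ∈ J, a * b * a⁻¹ * b⁻¹ = z := by
  obtain ⟨a, ha, b, hb, hn⟩ := h.exists_noncomm (K := J) le_rfl (by rw [h.card_J]; norm_num)
  refine ⟨a, ha, b, hb, ?_⟩
  rw [(h.extra.conj_cases hb ha).resolve_left fun e => hn (mul_inv_eq_iff_eq_mul.1 e), ← h.extra.z_comm hb]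
  group

/-- No normal abelian subgroup is left. -/
theorem no_abelian (A : Subgroup X) (hA : A ≤ h.span) (hn : ∀ g ∈ h.span, ∀ a ∈ A, g * a * g⁻¹ ∈ A)
    (hab : ∀ a ∈ A, ∀ b ∈ A, a * b = b * a) : A = ⊥ := by
  have hC := h.cent_le_span hni
  obtain ⟨p, hp, r, hr, hpr⟩ := h.z_commutator hni
  have hzA : z ∉ A := by
    intro hzA
    have hall : h.span ≤ A := by
      rw [Core.span, Subgroup.closure_le]
      intro t ht
      obtain ⟨g, hg, rfl⟩ := h.exists_move hni ht
      exact hn g hg z hzA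
    have := hab p (hall (hC (h.mem_cent hp))) r (hall (hC (h.mem_cent hr)))
    rw [this] at hpr
    exact h.extra.z_ne (by rw [← hpr]; group)
  have hAJ : ∀ a ∈ A, a ∈ J → a = 1 := by
    intro a ha haJ
    by_contra ha1
    have hπ : π a ≠ 0 := fun e => ((h.π_ker a haJ).1 e).elim ha1 fun e' => hzA (e' ▸ ha)
    set W := h.imgV (A ⊓ J) inf_le_right with hW
    have hinv : ∀ g ∈ TG, ∀ x ∈ W, g x ∈ W := by
      intro g hg x hx
      obtain ⟨b, hb, rfl⟩ := h.mem_imgV.1 hx
      obtain ⟨c, rfl⟩ : g ∈ ψ.range := TG_le_of_model h.model hg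
      refine h.mem_imgV.2 ⟨_, Subgroup.mem_inf.2 ⟨hn c (hC c.2) b hb.1,
        h.norm c (Subgroup.mem_centralizer_singleton_iff.1 c.2) b hb.2⟩, h.act c b hb.2⟩
    have hsing := fun v (hv : q4 v = 0) => singular_mem_of_invariant (v := v) hinv
      (h.mem_imgV.2 ⟨a, Subgroup.mem_inf.2 ⟨ha, haJ⟩, rfl⟩) hπ hv
    have hall : ∀ v, v ∈ W := fun v => by
      obtain ⟨x, y, hx, hy, rfl⟩ := exists_singular_sum v
      exact add_mem (hsing x hx) (hsing y hy)
    obtain ⟨p', hp', ep⟩ := h.mem_imgV.1 (hall (π p))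
    obtain ⟨r', hr', er⟩ := h.mem_imgV.1 (hall (π r))
    have hc := (h.comm_iff hp'.2 hr'.2).1 (hab _ hp'.1 _ hr'.1)
    rw [ep, er, ← h.comm_iff hp hr] at hc
    rw [hc] at hpr
    exact h.extra.z_ne (by rw [← hpr]; group)
  have hAz : ∀ a ∈ A, a * z = z * a → a = 1 := by
    intro a ha haz
    refine hAJ a ha (h.cent_le a fun j hj => ?_)
    have h1 : a * j * a⁻¹ * j⁻¹ ∈ A := by
      rw [show a * j * a⁻¹ * j⁻¹ = a * (j * a⁻¹ * j⁻¹) by group]
      exact mul_mem ha (hn j (hC (h.mem_cent hj)) _ (inv_mem ha))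
    have := hAJ _ h1 (mul_mem (h.norm a haz j hj) (inv_mem hj))
    calc a * j = (a * j * a⁻¹ * j⁻¹) * (j * a) := by group
      _ = _ := by rw [this, one_mul]
  have hinvA : ∀ {d}, Near z d → ∀ a ∈ A, d * a * d⁻¹ = a⁻¹ := by
    have hz' : ∀ a ∈ A, z * a * z⁻¹ = a⁻¹ := by
      intro a ha
      have hb := hn z (h.mem_span (Or.inl rfl)) a ha
      have := hAz (a * (z * a * z⁻¹)) (mul_mem ha hb) (by
        rw [hab a ha _ hb]
        simp only [h.extra.inv_z]
        calc z * a * z * a * z = z * a * z * (a * z) := by group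
          _ = z * (a * (z * a * z)) := by group
          _ = z * (z * a * z * a) := by
            have h2 := hab a ha _ hb
            rw [h.extra.inv_z] at h2
            rw [h2])
      exact (eq_inv_of_mul_eq_one_right this)
    intro d hd a ha
    obtain ⟨g, hg, rfl⟩ := h.exists_move hni hd
    have := hz' _ (hn g⁻¹ (inv_mem hg) a ha)
    calc g * z * g⁻¹ * a * (g * z * g⁻¹)⁻¹ = g * (z * (g⁻¹ * a * g⁻¹⁻¹) * z⁻¹) * g⁻¹ := by group
      _ = a⁻¹ := by rw [this]; group
  rw [Subgroup.eq_bot_iff_forall]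
  intro a ha
  obtain ⟨w, hw⟩ := hni
  obtain ⟨J', π', ψ', P⟩ := h.exists_couple hw.1 hw.2.1 hw.2.2
  obtain ⟨f, -, -, hfive, hfz, hrel⟩ := P.exists_index
  have hf : ∀ c, Near z (f c) := fun c => by
    obtain ⟨j, hj, e⟩ := ((hfive (f c)).2 (Or.inr ⟨c, rfl⟩)).resolve_left (hfz c)
    exact Or.inr (Or.inl (e ▸ (h.member_conj ⟨j, h.mem_cent hj⟩ hw).1))
  have hrel' := hrel (1, 0) (0, 1) (by decide) (by decide) (by decide)
  have two : ∀ {d e}, Near z d → Near z e → ∀ b ∈ A, d * e * b * (d * e)⁻¹ = b := by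
    intro d e hd he b hb
    calc d * e * b * (d * e)⁻¹ = d * (e * b * e⁻¹) * d⁻¹ := by group
      _ = b := by rw [hinvA he b hb, hinvA hd _ (inv_mem hb), inv_inv]
  have ez : z * (f 0 * f ((1, 0) + (0, 1))) * a * (z * (f 0 * f ((1, 0) + (0, 1))))⁻¹ = a⁻¹ := by
    rw [show z * (f 0 * f ((1, 0) + (0, 1))) * a * (z * (f 0 * f ((1, 0) + (0, 1))))⁻¹ =
      z * (f 0 * f ((1, 0) + (0, 1)) * a * (f 0 * f ((1, 0) + (0, 1)))⁻¹) * z⁻¹ by group, two (hf _) (hf _) a ha,
      hinvA (Or.inl rfl) a ha]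
  rw [← hrel', show f 0 * f (1, 0) * (f 0 * f (0, 1)) * a * (f 0 * f (1, 0) * (f 0 * f (0, 1)))⁻¹ =
    f 0 * f (1, 0) * (f 0 * f (0, 1) * a * (f 0 * f (0, 1))⁻¹) * (f 0 * f (1, 0))⁻¹ by group, two (hf _) (hf _) a ha,
    two (hf _) (hf _) a ha] at ez
  refine hAz a ha ?_
  have := hinvA (Or.inl rfl) a ha
  rw [← ez] at this
  exact (mul_inv_eq_iff_eq_mul.1 this).symm

theorem no_solvable : ∀ N : Subgroup ↥h.span, N.Normal → Group.IsSolvable ↥N → N = ⊥ := by
  intro N hN hs
  obtain ⟨n, hn⟩ := (Group.isSolvable_def ↥N).1 hs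
  set F : ℕ → Subgroup ↥h.span := fun k => (derivedSeries ↥N k).map N.subtype with hF
  have hFn : ∀ k, (F k).Normal := by
    intro k
    induction k with
    | zero => rw [hF]; simp only [derivedSeries_zero, ← MonoidHom.range_eq_map, Subgroup.range_subtype]; exact hN
    | succ k ih => rw [hF]; simp only [derivedSeries_succ, Subgroup.map_commutator]; exact Subgroup.commutator_normal _ _
  suffices hall : ∀ k ≤ n, F (n - k) = ⊥ by
    have := hall n le_rfl
    rw [Nat.sub_self, hF] at this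
    simpa [← MonoidHom.range_eq_map] using this
  intro k hk
  induction k with
  | zero => rw [Nat.sub_zero, hF]; simp [hn]
  | succ k ih =>
    have hprev := ih (by omega)
    rw [show n - k = (n - (k + 1)) + 1 by omega] at hprev
    set A := (F (n - (k + 1))).map h.span.subtype with hA
    have hAb : A = ⊥ := by
      refine h.no_abelian hni A (Subgroup.map_subtype_le _) ?_ ?_
      · rintro g hg _ ⟨a, ha, rfl⟩
        exact ⟨⟨g, hg⟩ * a * ⟨g, hg⟩⁻¹, (hFn _).conj_mem a ha _, rfl⟩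
      · rintro _ ⟨a, ha, rfl⟩ _ ⟨b, hb, rfl⟩
        have : a * b * a⁻¹ * b⁻¹ ∈ F (n - (k + 1) + 1) := by
          rw [hF]; simp only [derivedSeries_succ, Subgroup.map_commutator, ← commutatorElement_def]
          exact Subgroup.commutator_mem_commutator ha hb
        rw [hprev, Subgroup.mem_bot, mul_inv_eq_one] at this
        exact congrArg Subtype.val (mul_inv_eq_iff_eq_mul.1 this)
    exact (Subgroup.map_eq_bot_iff_of_injective _ Subtype.val_injective).1 hAb

end Core

end CfsgLib.Recognition.USixTwo
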