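import Cfsg.Agent.Lib.Recognition.USixTwo.Isometries

/-!
# The group generated by the transvections is the only group of isometries of order 25920

Every isometry is a word in the transvections times a diagonal one, so there are at most 77760; a
subgroup of order 25920 contains each transvection, this being a commutator, and hence all the words.
-/

set_option autoImplicit false
set_option maxRecDepth 100000

namespace CfsgLib.Recognition.USixTwo

open CfsgLib.Sporadic.LargeFischer (D4 om nzd)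

/-- The unit vectors. -/
def ev (i : Fin 4) : V4 := dec (4 ^ i.1)

/-- The diagonal map scaling the last coordinate. -/
def lastScale (c : ℕ) : List ℕ := [1, 2, 4, 8, 16, 32, scN c 64, scN c 128]

/-- Lookup in a table of words. -/
def look (tbl : List (ℕ × List ℕ)) (n : ℕ) : List ℕ :=
  ((tbl.find? fun p => p.1 == n).map (·.2)).getD []

theorem words0_ok : words0.length = 120 ∧ (words0.map (·.1)).Nodup ∧
    words0.all (fun p => validW p.2 && (apN (wordCols p.2) 1 == p.1)) = true := by decide +kernel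

theorem words1_ok : words1.length = 36 ∧ (words1.map (·.1)).Nodup ∧
    words1.all (fun p => validW p.2 && (apN (wordCols p.2) 1 == 1) && (apN (wordCols p.2) 4 == p.1)) = true := by
  decide +kernel

theorem words2_ok : words2.length = 6 ∧ (words2.map (·.1)).Nodup ∧
    words2.all (fun p => validW p.2 && (apN (wordCols p.2) 1 == 1) && (apN (wordCols p.2) 4 == 4) &&
      (apN (wordCols p.2) 16 == p.1)) = true := by decide +kernel

theorem cover0 : (List.range 256).all (fun n => !qN n || (words0.map (·.1)).contains n) = true := by decide +kernel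

theorem cover1 : (List.range 256).all (fun n => !(qN n && (hN n 1 == 0)) || (words1.map (·.1)).contains n) = true := by
  decide +kernel

theorem cover2 : (List.range 256).all
    (fun n => !(qN n && (hN n 1 == 0) && (hN n 4 == 0)) || (words2.map (·.1)).contains n) = true := by decide +kernel

theorem cover3 : (List.range 256).all
    (fun n => !(qN n && (hN n 1 == 0) && (hN n 4 == 0) && (hN n 16 == 0)) ||
      [64, 128, 192].contains n) = true := by decide +kernel

theorem unit_facts : ev 0 = dec 1 ∧ ev 1 = dec 4 ∧ ev 2 = dec 16 ∧ ev 3 = dec 64 ∧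
    code (ev 0) = 1 ∧ code (ev 1) = 4 ∧ code (ev 2) = 16 ∧ code (ev 3) = 64 := by decide

theorem idCols_split (g : V4 ≃ₗ[ZMod 2] V4) (hg : IsIso g) :
    cols g = [code (g (ev 0)), scN 2 (code (g (ev 0))), code (g (ev 1)), scN 2 (code (g (ev 1))),
      code (g (ev 2)), scN 2 (code (g (ev 2))), code (g (ev 3)), scN 2 (code (g (ev 3)))] := by
  have e : ∀ i : Fin 4, scN 2 (code (g (ev i))) = code (g (omV (ev i))) := fun i => by rw [hg.lin, code_omV]
  have hd : dec 1 = ev 0 ∧ dec 2 = omV (ev 0) ∧ dec 4 = ev 1 ∧ dec 8 = omV (ev 1) ∧ dec 16 = ev 2 ∧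
      dec 32 = omV (ev 2) ∧ dec 64 = ev 3 ∧ dec 128 = omV (ev 3) := by decide
  obtain ⟨h1, h2, h3, h4, h5, h6, h7, h8⟩ := hd
  simp only [e, cols, idCols, List.map_cons, List.map_nil, h1, h2, h3, h4, h5, h6, h7, h8]

/-- Reading off a word. -/
theorem word_of_cover {tbl : List (ℕ × List ℕ)} {n : ℕ} (h : n ∈ tbl.map (·.1)) :
    ∃ w, (n, w) ∈ tbl := by
  obtain ⟨p, hp, rfl⟩ := List.mem_map.1 h
  exact ⟨p.2, hp⟩

theorem word0 {n : ℕ} {w : List ℕ} (h : (n, w) ∈ words0) : validW w = true ∧ apN (wordCols w) 1 = n := by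
  have := List.all_eq_true.1 words0_ok.2.2 _ h
  simpa [Bool.and_eq_true] using this

theorem word1 {n : ℕ} {w : List ℕ} (h : (n, w) ∈ words1) :
    validW w = true ∧ apN (wordCols w) 1 = 1 ∧ apN (wordCols w) 4 = n := by
  have := List.all_eq_true.1 words1_ok.2.2 _ h
  simpa [Bool.and_eq_true, and_assoc] using this

theorem word2 {n : ℕ} {w : List ℕ} (h : (n, w) ∈ words2) :
    validW w = true ∧ apN (wordCols w) 1 = 1 ∧ apN (wordCols w) 4 = 4 ∧ apN (wordCols w) 16 = n := by
  have := List.all_eq_true.1 words2_ok.2.2 _ h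
  simpa [Bool.and_eq_true, and_assoc] using this

theorem ev_apply {w : List ℕ} (hw : validW w = true) :
    code (wordE w (ev 0)) = apN (wordCols w) 1 ∧ code (wordE w (ev 1)) = apN (wordCols w) 4 ∧
      code (wordE w (ev 2)) = apN (wordCols w) 16 := by
  obtain ⟨-, -, -, -, e0, e1, e2, -⟩ := unit_facts
  refine ⟨?_, ?_, ?_⟩ <;> rw [code_wordE hw]
  · rw [e0]
  · rw [e1]
  · rw [e2]

theorem hm_ev : ∀ i j : Fin 4, hm (ev i) (ev j) = if i = j then (1, 0) else 0 := by decide

theorem q_ev : ∀ i : Fin 4, q4 (ev i) = 1 := by decide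

theorem qN_of_q4 {v : V4} (h : q4 v = 1) : qN (code v) = true := (bitZ_iff _).2.1 ((q4_eq v).symm.trans h)

theorem hN_of_hm {u v : V4} (h : hm u v = 0) : hN (code u) (code v) = 0 := by rw [← cd_hm, h, cd_zero]

theorem look_ok : words0.all (fun p => look words0 p.1 == p.2) = true ∧
    words1.all (fun p => look words1 p.1 == p.2) = true ∧ words2.all (fun p => look words2 p.1 == p.2) = true := by
  decide +kernel

/-- The orthogonality read on the codes. -/
theorem hN_unit {g : V4 ≃ₗ[ZMod 2] V4} (hg : IsIso g) {i j : Fin 4} (hij : i ≠ j) (hj : g (ev j) = ev j) {m : ℕ}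
    (hm' : code (ev j) = m) : hN (code (g (ev i))) m = 0 := by
  have h : hm (g (ev i)) (ev j) = 0 := by
    conv_lhs => rw [← hj]
    rw [hg.hm, hm_ev, if_neg hij]
  exact hm' ▸ hN_of_hm h

attribute [local irreducible] words0 words1 words2 wordsIso wordCols mulCols look

/-- Every isometry is a word times a diagonal map. -/
theorem decomp {g : V4 ≃ₗ[ZMod 2] V4} (hg : IsIso g) :
    ∃ p0 ∈ words0, ∃ p1 ∈ words1, ∃ p2 ∈ words2, ∃ c ∈ [64, 128, 192],
      (wordE p2.2)⁻¹ * ((wordE p1.2)⁻¹ * ((wordE p0.2)⁻¹ * g)) ∈ isoGroup ∧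
      cols ((wordE p2.2)⁻¹ * ((wordE p1.2)⁻¹ * ((wordE p0.2)⁻¹ * g))) = [1, 2, 4, 8, 16, 32, c, scN 2 c] := by
  obtain ⟨-, -, -, -, e0, e1, e2, -⟩ := unit_facts
  obtain ⟨w0, h0⟩ := word_of_cover (tbl := words0) (n := code (g (ev 0))) (by
    have := forall_of_codes cover0 (g (ev 0))
    rw [qN_of_q4 (by rw [hg.quad, q_ev]), Bool.not_true, Bool.false_or] at this
    exact List.contains_iff_mem.1 this)
  obtain ⟨v0, f0⟩ := word0 h0
  set g1 := (wordE w0)⁻¹ * g with hg1
  have i1 : g1 ∈ isoGroup := mul_mem (inv_mem (wordE_iso w0)) hg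
  have a1 : g1 (ev 0) = ev 0 := by
    show (wordE w0).symm (g (ev 0)) = ev 0
    rw [LinearEquiv.symm_apply_eq]
    exact code_injective ((ev_apply v0).1.trans f0).symm
  obtain ⟨w1, h1⟩ := word_of_cover (tbl := words1) (n := code (g1 (ev 1))) (by
    have := forall_of_codes cover1 (g1 (ev 1))
    rw [qN_of_q4 (by rw [i1.quad, q_ev]),
      show hN (code (g1 (ev 1))) 1 = 0 from hN_unit i1 (i := 1) (j := 0) (by decide) a1 e0] at this
    exact List.contains_iff_mem.1 (by simpa using this))
  obtain ⟨v1, f1, f1'⟩ := word1 h1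
  set g2 := (wordE w1)⁻¹ * g1 with hg2
  have i2 : g2 ∈ isoGroup := mul_mem (inv_mem (wordE_iso w1)) i1
  have a20 : g2 (ev 0) = ev 0 := by
    show (wordE w1).symm (g1 (ev 0)) = ev 0
    rw [a1, LinearEquiv.symm_apply_eq]
    exact code_injective (by rw [(ev_apply v1).1, f1, e0])
  have a21 : g2 (ev 1) = ev 1 := by
    show (wordE w1).symm (g1 (ev 1)) = ev 1
    rw [LinearEquiv.symm_apply_eq]
    exact code_injective ((ev_apply v1).2.1.trans f1').symm
  obtain ⟨w2, h2⟩ := word_of_cover (tbl := words2) (n := code (g2 (ev 2))) (by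
    have := forall_of_codes cover2 (g2 (ev 2))
    rw [qN_of_q4 (by rw [i2.quad, q_ev]),
      show hN (code (g2 (ev 2))) 1 = 0 from hN_unit i2 (i := 2) (j := 0) (by decide) a20 e0,
      show hN (code (g2 (ev 2))) 4 = 0 from hN_unit i2 (i := 2) (j := 1) (by decide) a21 e1] at this
    exact List.contains_iff_mem.1 (by simpa using this))
  obtain ⟨v2, f2, f2', f2''⟩ := word2 h2
  set g3 := (wordE w2)⁻¹ * g2 with hg3
  have i3 : g3 ∈ isoGroup := mul_mem (inv_mem (wordE_iso w2)) i2
  have a30 : g3 (ev 0) = ev 0 := by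
    show (wordE w2).symm (g2 (ev 0)) = ev 0
    rw [a20, LinearEquiv.symm_apply_eq]
    exact code_injective (by rw [(ev_apply v2).1, f2, e0])
  have a31 : g3 (ev 1) = ev 1 := by
    show (wordE w2).symm (g2 (ev 1)) = ev 1
    rw [a21, LinearEquiv.symm_apply_eq]
    exact code_injective (by rw [(ev_apply v2).2.1, f2', e1])
  have a32 : g3 (ev 2) = ev 2 := by
    show (wordE w2).symm (g2 (ev 2)) = ev 2
    rw [LinearEquiv.symm_apply_eq]
    exact code_injective ((ev_apply v2).2.2.trans f2'').symm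
  have h3 : code (g3 (ev 3)) ∈ [64, 128, 192] := by
    have := forall_of_codes cover3 (g3 (ev 3))
    rw [qN_of_q4 (by rw [i3.quad, q_ev]),
      show hN (code (g3 (ev 3))) 1 = 0 from hN_unit i3 (i := 3) (j := 0) (by decide) a30 e0,
      show hN (code (g3 (ev 3))) 4 = 0 from hN_unit i3 (i := 3) (j := 1) (by decide) a31 e1,
      show hN (code (g3 (ev 3))) 16 = 0 from hN_unit i3 (i := 3) (j := 2) (by decide) a32 e2] at this
    exact List.contains_iff_mem.1 (by simpa using this)
  refine ⟨_, h0, _, h1, _, h2, _, h3, i3, ?_⟩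
  rw [idCols_split g3 i3, a30, a31, a32, e0, e1, e2]
  rfl

theorem isoGroup_card : Nat.card isoGroup ≤ 77760 := by
  classical
  haveI : Finite (V4 ≃ₗ[ZMod 2] V4) := Finite.of_injective _ DFunLike.coe_injective
  haveI : Fintype ↥isoGroup := Fintype.ofFinite _
  let key : ↥isoGroup → List ℕ := fun g => cols g.1
  have hinj : Function.Injective key := fun a b e => Subtype.ext (cols_injective e)
  let f : ℕ × ℕ × ℕ × ℕ → List ℕ := fun p =>
    mulCols (wordCols (look words0 p.1)) (mulCols (wordCols (look words1 p.2.1))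
      (mulCols (wordCols (look words2 p.2.2.1)) [1, 2, 4, 8, 16, 32, p.2.2.2, scN 2 p.2.2.2]))
  let S : Finset (List ℕ) := ((words0.map (·.1)).toFinset ×ˢ ((words1.map (·.1)).toFinset ×ˢ
    ((words2.map (·.1)).toFinset ×ˢ [64, 128, 192].toFinset))).image f
  have hmem : ∀ g : ↥isoGroup, key g ∈ S := by
    intro g
    obtain ⟨p0, h0, p1, h1, p2, h2, c, hc, -, e⟩ := decomp g.2
    have l0 : look words0 p0.1 = p0.2 := beq_iff_eq.1 (List.all_eq_true.1 look_ok.1 _ h0)
    have l1 : look words1 p1.1 = p1.2 := beq_iff_eq.1 (List.all_eq_true.1 look_ok.2.1 _ h1)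
    have l2 : look words2 p2.1 = p2.2 := beq_iff_eq.1 (List.all_eq_true.1 look_ok.2.2 _ h2)
    refine Finset.mem_image.2 ⟨(p0.1, p1.1, p2.1, c), ?_, ?_⟩
    · simp only [Finset.mem_product, List.mem_toFinset, List.mem_map]
      exact ⟨⟨_, h0, rfl⟩, ⟨_, h1, rfl⟩, ⟨_, h2, rfl⟩, hc⟩
    · show f (p0.1, p1.1, p2.1, c) = cols g.1
      have v0 := (word0 (show (p0.1, p0.2) ∈ words0 from h0)).1
      have v1 := (word1 (show (p1.1, p1.2) ∈ words1 from h1)).1
      have v2 := (word2 (show (p2.1, p2.2) ∈ words2 from h2)).1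
      show mulCols (wordCols (look words0 p0.1)) (mulCols (wordCols (look words1 p1.1))
        (mulCols (wordCols (look words2 p2.1)) [1, 2, 4, 8, 16, 32, c, scN 2 c])) = _
      rw [l0, l1, l2, ← e, ← cols_wordE _ v0, ← cols_wordE _ v1, ← cols_wordE _ v2, ← cols_mul, ← cols_mul,
        ← cols_mul]
      congr 1
      group
  calc Nat.card ↥isoGroup = (Finset.univ : Finset ↥isoGroup).card := by
        rw [Nat.card_eq_fintype_card, Finset.card_univ]
    _ ≤ S.card := Finset.card_le_card_of_injOn key (fun g _ => hmem g) hinj.injOn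
    _ ≤ _ := Finset.card_image_le
    _ ≤ 77760 := by
        simp only [Finset.card_product]
        have a := List.toFinset_card_le (words0.map (·.1))
        have b := List.toFinset_card_le (words1.map (·.1))
        have c := List.toFinset_card_le (words2.map (·.1))
        have d := List.toFinset_card_le [64, 128, 192]
        rw [List.length_map, words0_ok.1] at a
        rw [List.length_map, words1_ok.1] at b
        rw [List.length_map, words2_ok.1] at c
        exact (Nat.mul_le_mul a (Nat.mul_le_mul b (Nat.mul_le_mul c d))).trans (by norm_num)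

/-- The group generated by the transvections. -/
noncomputable def TG : Subgroup (V4 ≃ₗ[ZMod 2] V4) := Subgroup.closure (Set.range fun i : Fin 45 => tvP i)

theorem tvP_mem {i : ℕ} (hi : i < 45) : tvP i ∈ TG := Subgroup.subset_closure ⟨⟨i, hi⟩, rfl⟩

theorem wordE_mem {w : List ℕ} (hw : validW w = true) : wordE w ∈ TG := list_prod_mem fun x hx => by
  obtain ⟨i, hi, rfl⟩ := List.mem_map.1 hx
  exact tvP_mem (by simpa using List.all_eq_true.1 hw i hi)

theorem TG_le : TG ≤ isoGroup := (Subgroup.closure_le _).2 (by rintro _ ⟨i, rfl⟩; exact tv_iso _)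

/-- The standard isotropic vector. -/
def v0 : V4 := dec 5

theorem v0_hm : hm v0 v0 = 0 := by decide

theorem wordsIso_ok : wordsIso.all (fun p => validW p.2 && (apN (wordCols p.2) 5 == p.1)) = true := by decide +kernel

theorem coverIso : (List.range 256).all
    (fun n => qN n || (n == 0) || (wordsIso.map (·.1)).contains n) = true := by decide +kernel

/-- The words act transitively on the isotropic vectors. -/
theorem exists_moving {v : V4} (hq : q4 v = 0) (hv : v ≠ 0) : ∃ g ∈ TG, g v0 = v := by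
  have := forall_of_codes coverIso v
  rw [(q4_eq_zero_iff v).1 hq, Bool.false_or, Bool.or_eq_true] at this
  rcases this with e | e
  · exact absurd (code_injective ((beq_iff_eq.1 e).trans code_zero.symm)) hv
  obtain ⟨w, hw⟩ := word_of_cover (List.contains_iff_mem.1 e)
  have h := List.all_eq_true.1 wordsIso_ok _ hw
  simp only [Bool.and_eq_true, beq_iff_eq] at h
  refine ⟨wordE w, wordE_mem h.1, code_injective ?_⟩
  rw [code_wordE h.1, ← h.2]
  rfl

theorem comm_ok : validW commWords.1 = true ∧ validW commWords.2 = true ∧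
    validW commWords.1.reverse = true ∧ validW commWords.2.reverse = true ∧
    mulCols (mulCols (wordCols commWords.1) (wordCols commWords.2))
      (mulCols (wordCols commWords.1.reverse) (wordCols commWords.2.reverse)) =
      idCols.map (fun n => code (tvFun v0 (dec n))) := by decide +kernel

theorem wordE_inv (w : List ℕ) : (wordE w)⁻¹ = wordE w.reverse := by
  induction w with
  | nil => rw [List.reverse_nil]; exact inv_one
  | cons i w ih =>
    have e : (tvP i)⁻¹ = tvP i := inv_eq_of_mul_eq_one_right (tv_mul_self _)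
    rw [List.reverse_cons, wordE, List.map_cons, List.prod_cons, mul_inv_rev,
      show ((w.map tvP).prod)⁻¹ = wordE w.reverse from ih, e, wordE, wordE, List.map_append, List.prod_append,
      List.map_cons, List.map_nil, List.prod_cons, List.prod_nil, mul_one]

/-- The standard transvection is a commutator. -/
theorem tv0_comm : ∃ a ∈ TG, ∃ b ∈ TG, a * b * a⁻¹ * b⁻¹ = tv v0 := by
  obtain ⟨h1, h2, h3, h4, e⟩ := comm_ok
  refine ⟨_, wordE_mem h1, _, wordE_mem h2, cols_injective ?_⟩
  rw [wordE_inv, wordE_inv, mul_assoc (wordE commWords.1 * wordE commWords.2), cols_mul, cols_mul, cols_mul,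
    cols_wordE _ h1, cols_wordE _ h2, cols_wordE _ h3, cols_wordE _ h4, e, cols]
  refine List.map_congr_left fun n _ => ?_
  rw [tv_apply v0_hm]; rfl

theorem perm_small {n : ℕ} (hn : n ≤ 3) (σ : Equiv.Perm (Fin n)) (h : Equiv.Perm.sign σ = 1) (h2 : σ * σ = 1) :
    σ = 1 := by
  interval_cases n <;> revert σ <;> decide

/-- The groups in question: isometries, 25920 of them. -/
structure Model4 (K : Subgroup (V4 ≃ₗ[ZMod 2] V4)) : Prop where
  le : K ≤ isoGroup
  card : Nat.card K = 25920

variable {K : Subgroup (V4 ≃ₗ[ZMod 2] V4)}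

theorem tv_mem_of_model (h : Model4 K) {v : V4} (hq : q4 v = 0) (hv : v ≠ 0) : tv v ∈ K := by
  classical
  haveI : Finite (V4 ≃ₗ[ZMod 2] V4) := Finite.of_injective _ DFunLike.coe_injective
  set K' := K.subgroupOf isoGroup
  haveI : Finite (↥isoGroup ⧸ K') := inferInstance
  have hidx : K'.index ≤ 3 := by
    have h1 := K'.card_mul_index
    rw [Nat.card_congr (Subgroup.subgroupOfEquivOfLe h.le).toEquiv, h.card] at h1
    have := isoGroup_card
    omega
  obtain ⟨n, ⟨e⟩⟩ : ∃ n, Nonempty ((↥isoGroup ⧸ K') ≃ Fin n) := ⟨_, ⟨Finite.equivFin _⟩⟩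
  have hn : n ≤ 3 := by
    rw [← Nat.card_fin n, ← Nat.card_congr e]; exact hidx
  let φ : ↥isoGroup →* Equiv.Perm (Fin n) :=
    e.permCongrHom.toMonoidHom.comp (MulAction.toPermHom ↥isoGroup (↥isoGroup ⧸ K'))
  obtain ⟨a, ha, b, hb, hab⟩ := tv0_comm
  obtain ⟨g, hg, hgv⟩ := exists_moving hq hv
  have hgi : g ∈ isoGroup := TG_le hg
  set ga : ↥isoGroup := ⟨a, TG_le ha⟩
  set gb : ↥isoGroup := ⟨b, TG_le hb⟩
  set gg : ↥isoGroup := ⟨g, hgi⟩
  set t : ↥isoGroup := ⟨tv v, tv_iso v⟩ with ht
  have hconj : t = gg * (ga * gb * ga⁻¹ * gb⁻¹) * gg⁻¹ := Subtype.ext (by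
    show tv v = g * (a * b * a⁻¹ * b⁻¹) * g⁻¹
    rw [hab, tv_conj hgi v0_hm, hgv])
  have hsign : Equiv.Perm.sign (φ t) = 1 := by
    rw [hconj]
    simp only [map_mul, map_inv]
    rw [Int.units_inv_eq_self, Int.units_inv_eq_self, Int.units_inv_eq_self]
    calc _ = Equiv.Perm.sign (φ gg) * Equiv.Perm.sign (φ gg) *
          (Equiv.Perm.sign (φ ga) * Equiv.Perm.sign (φ ga)) *
          (Equiv.Perm.sign (φ gb) * Equiv.Perm.sign (φ gb)) := by ac_rfl
      _ = 1 := by simp only [Int.units_mul_self, one_mul]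
  have hsq : φ t * φ t = 1 := by
    rw [← map_mul, show t * t = 1 from Subtype.ext (tv_mul_self v), map_one]
  have h1 := perm_small hn _ hsign hsq
  have h2 : (t : ↥isoGroup) • (QuotientGroup.mk 1 : ↥isoGroup ⧸ K') = QuotientGroup.mk 1 := by
    have := congrArg (fun σ : Equiv.Perm (Fin n) => e.symm (σ (e (QuotientGroup.mk 1)))) h1
    simpa [φ, Equiv.permCongrHom, Equiv.permCongr] using this
  rw [MulAction.Quotient.smul_mk, QuotientGroup.eq, smul_eq_mul, mul_one, mul_one] at h2
  have := Subgroup.mem_subgroupOf.1 h2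
  simpa using inv_mem this

theorem ptV_q : ∀ i < 45, q4 (ptV i) = 0 ∧ ptV i ≠ 0 := by decide +kernel

theorem TG_le_of_model (h : Model4 K) : TG ≤ K :=
  (Subgroup.closure_le _).2 (by rintro _ ⟨i, rfl⟩; exact tv_mem_of_model h (ptV_q _ i.2).1 (ptV_q _ i.2).2)

/-- The product of a triple of table words. -/
noncomputable def triple (t : (ℕ × List ℕ) × (ℕ × List ℕ) × (ℕ × List ℕ)) : V4 ≃ₗ[ZMod 2] V4 :=
  wordE t.1.2 * (wordE t.2.1.2 * wordE t.2.2.2)

/-- The group of a model is the group generated by the transvections. -/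
theorem model_eq (h : Model4 K) : K = TG := by
  classical
  haveI : Finite (V4 ≃ₗ[ZMod 2] V4) := Finite.of_injective _ DFunLike.coe_injective
  haveI : Fintype ↥TG := Fintype.ofFinite _
  refine (Subgroup.eq_of_le_of_card_ge (TG_le_of_model h) ?_).symm
  rw [h.card, Nat.card_eq_fintype_card]
  obtain ⟨-, -, -, -, e0, e1, e2, -⟩ := unit_facts
  let S := words0.toFinset ×ˢ (words1.toFinset ×ˢ words2.toFinset)
  have hcard : S.card = 25920 := by
    simp only [S, Finset.card_product]
    rw [List.toFinset_card_of_nodup (List.Nodup.of_map _ words0_ok.2.1),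
      List.toFinset_card_of_nodup (List.Nodup.of_map _ words1_ok.2.1),
      List.toFinset_card_of_nodup (List.Nodup.of_map _ words2_ok.2.1), words0_ok.1, words1_ok.1, words2_ok.1]
  have hmem : ∀ t ∈ S, triple t ∈ TG := by
    rintro ⟨p0, p1, p2⟩ ht
    simp only [S, Finset.mem_product, List.mem_toFinset] at ht
    exact mul_mem (wordE_mem (word0 (show (p0.1, p0.2) ∈ words0 from ht.1)).1)
      (mul_mem (wordE_mem (word1 (show (p1.1, p1.2) ∈ words1 from ht.2.1)).1)
        (wordE_mem (word2 (show (p2.1, p2.2) ∈ words2 from ht.2.2)).1))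
  rw [← hcard, ← Fintype.card_coe]
  refine Fintype.card_le_of_injective (fun t => (⟨triple t.1, hmem t.1 t.2⟩ : ↥TG)) ?_
  rintro ⟨⟨p0, p1, p2⟩, hp⟩ ⟨⟨r0, r1, r2⟩, hr⟩ e
  have e' : triple (p0, p1, p2) = triple (r0, r1, r2) := congrArg Subtype.val e
  simp only [S, Finset.mem_product, List.mem_toFinset] at hp hr
  obtain ⟨vp0, fp0⟩ := word0 (show (p0.1, p0.2) ∈ words0 from hp.1)
  obtain ⟨vp1, fp1, fp1'⟩ := word1 (show (p1.1, p1.2) ∈ words1 from hp.2.1)
  obtain ⟨vp2, fp2, fp2', fp2''⟩ := word2 (show (p2.1, p2.2) ∈ words2 from hp.2.2)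
  obtain ⟨vr0, fr0⟩ := word0 (show (r0.1, r0.2) ∈ words0 from hr.1)
  obtain ⟨vr1, fr1, fr1'⟩ := word1 (show (r1.1, r1.2) ∈ words1 from hr.2.1)
  obtain ⟨vr2, fr2, fr2', fr2''⟩ := word2 (show (r2.1, r2.2) ∈ words2 from hr.2.2)
  have fix0 : ∀ w, validW w = true → apN (wordCols w) 1 = 1 → wordE w (ev 0) = ev 0 := fun w hv hf =>
    code_injective (by rw [(ev_apply hv).1, hf, e0])
  have fix1 : ∀ w, validW w = true → apN (wordCols w) 4 = 4 → wordE w (ev 1) = ev 1 := fun w hv hf =>
    code_injective (by rw [(ev_apply hv).2.1, hf, e1])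
  have h0 : p0 = r0 := by
    have := congrArg (fun g : V4 ≃ₗ[ZMod 2] V4 => code (g (ev 0))) e'
    simp only [triple, LinearEquiv.mul_apply, fix0 _ vp2 fp2, fix0 _ vp1 fp1, fix0 _ vr2 fr2, fix0 _ vr1 fr1,
      (ev_apply vp0).1, (ev_apply vr0).1, fp0, fr0] at this
    exact List.inj_on_of_nodup_map words0_ok.2.1 hp.1 hr.1 this
  subst h0
  have e1' : wordE p1.2 * wordE p2.2 = wordE r1.2 * wordE r2.2 := mul_left_cancel e'
  have h1 : p1 = r1 := by
    have := congrArg (fun g : V4 ≃ₗ[ZMod 2] V4 => code (g (ev 1))) e1'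
    simp only [LinearEquiv.mul_apply, fix1 _ vp2 fp2', fix1 _ vr2 fr2', (ev_apply vp1).2.1, (ev_apply vr1).2.1,
      fp1', fr1'] at this
    exact List.inj_on_of_nodup_map words1_ok.2.1 hp.2.1 hr.2.1 this
  subst h1
  have h2 : p2 = r2 := by
    have := congrArg (fun g : V4 ≃ₗ[ZMod 2] V4 => code (g (ev 2))) (mul_left_cancel e1')
    simp only [(ev_apply vp2).2.2, (ev_apply vr2).2.2, fp2'', fr2''] at this
    exact List.inj_on_of_nodup_map words2_ok.2.1 hp.2.2 hr.2.2 this
  subst h2
  rfl

end CfsgLib.Recognition.USixTwo
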