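import Cfsg.Agent.Lib.Recognition.USixTwo.Codes

/-!
# Linear isometries of the hermitian space, their columns and the transvections
-/

set_option autoImplicit false
set_option maxRecDepth 100000

namespace CfsgLib.Recognition.USixTwo

open CfsgLib.Sporadic.LargeFischer (D4 om nzd)

theorem add_self_V4 (v : V4) : v + v = 0 := funext fun _ => CharTwo.add_self_eq_zero _

theorem scl_add (c : D4) (u v : V4) : scl c (u + v) = scl c u + scl c v :=
  code_injective (by
    have h : ∀ a x y : D4, fm a (x + y) = fm a x + fm a y := by decide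
    exact congrArg code (funext fun i => h c (u i) (v i)))

theorem add_scl (a b : D4) (v : V4) : scl (a + b) v = scl a v + scl b v :=
  funext fun i => (by decide : ∀ a b x : D4, fm (a + b) x = fm a x + fm b x) a b (v i)

theorem scl_scl (a b : D4) (v : V4) : scl a (scl b v) = scl (fm a b) v :=
  funext fun i => (by decide : ∀ a b x : D4, fm a (fm b x) = fm (fm a b) x) a b (v i)

theorem scl_one (v : V4) : scl (1, 0) v = v := funext fun i => (by decide : ∀ a : D4, fm (1, 0) a = a) (v i)

theorem scl_zero (v : V4) : scl 0 v = 0 := funext fun i => (by decide : ∀ a : D4, fm 0 a = 0) (v i)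

theorem scl_zero_vec (c : D4) : scl c 0 = 0 := funext fun _ => (by decide : ∀ a : D4, fm a 0 = 0) c

theorem D4_cases : ∀ c : D4, c = 0 ∨ c = (1, 0) ∨ c = (0, 1) ∨ c = (1, 1) := by decide

theorem scl_ww (v : V4) : scl (1, 1) v = omV (omV v) := by rw [omV_eq, omV_eq, scl_scl]; rfl

theorem hm_add_left (u v w : V4) : hm (u + v) w = hm u w + hm v w := by
  have h : ∀ a b x : D4, fm (a + b) x = fm a x + fm b x := by decide
  simp only [hm, Pi.add_apply, h]; abel

theorem hm_add_right (u v w : V4) : hm u (v + w) = hm u v + hm u w := by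
  have h : ∀ x a b : D4, fm x (cj (a + b)) = fm x (cj a) + fm x (cj b) := by decide
  simp only [hm, Pi.add_apply, h]; abel

theorem hm_scl_left (c : D4) (u w : V4) : hm (scl c u) w = fm c (hm u w) := by
  have h : ∀ a x y : D4, fm (fm a x) y = fm a (fm x y) := by decide
  have h' : ∀ a x y : D4, fm a (x + y) = fm a x + fm a y := by decide
  simp only [hm, scl, h, h']

theorem hm_scl_right (c : D4) (u w : V4) : hm u (scl c w) = fm (cj c) (hm u w) := by
  have h : ∀ a x y : D4, fm x (cj (fm a y)) = fm (cj a) (fm x (cj y)) := by decide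
  have h' : ∀ a x y : D4, fm a (x + y) = fm a x + fm a y := by decide
  simp only [hm, scl, h, h']

theorem hm_symm (u v : V4) : hm u v = cj (hm v u) := by
  have h : ∀ x y : D4, fm x (cj y) = cj (fm y (cj x)) := by decide
  have h' : ∀ x y : D4, cj (x + y) = cj x + cj y := by decide
  simp only [hm, h', h (u 0), h (u 1), h (u 2), h (u 3)]

theorem hm_zero_left (w : V4) : hm 0 w = 0 := by
  have := hm_scl_left 0 w w
  rwa [scl_zero, show fm 0 (hm w w) = 0 from (by decide : ∀ a : D4, fm 0 a = 0) _] at this

theorem hm_zero_right (w : V4) : hm w 0 = 0 := by rw [hm_symm, hm_zero_left]; rfl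

theorem hm_self (v : V4) : hm v v = (q4 v, 0) := by
  have h : ∀ x : D4, fm x (cj x) = (nzd x, 0) := by decide
  simp only [hm, h, q4, Prod.mk_add_mk, add_zero]

theorem q4_add (u v : V4) : q4 (u + v) = q4 u + q4 v + (hm u v).2 := by
  rw [← bs4_eq, bs4]
  calc q4 (u + v) = q4 (u + v) + (q4 u + q4 u) + (q4 v + q4 v) := by
        rw [CharTwo.add_self_eq_zero, CharTwo.add_self_eq_zero, add_zero, add_zero]
    _ = _ := by abel

/-- A linear isometry. -/
structure IsIso (g : V4 ≃ₗ[ZMod 2] V4) : Prop where
  lin : ∀ v, g (omV v) = omV (g v)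
  quad : ∀ v, q4 (g v) = q4 v

/-- The group of linear isometries. -/
def isoGroup : Subgroup (V4 ≃ₗ[ZMod 2] V4) where
  carrier := {g | IsIso g}
  one_mem' := ⟨fun _ => rfl, fun _ => rfl⟩
  mul_mem' := fun {g k} hg hk => ⟨fun v => by
      show g (k (omV v)) = omV (g (k v))
      rw [hk.lin, hg.lin],
    fun v => (hg.quad (k v)).trans (hk.quad v)⟩
  inv_mem' := fun {g} hg => ⟨fun v => g.injective (by
      show g (g.symm _) = g (omV (g.symm v))
      rw [hg.lin, g.apply_symm_apply, g.apply_symm_apply]),
    fun v => by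
      show q4 (g.symm v) = q4 v
      conv_rhs => rw [← g.apply_symm_apply v, hg.quad]⟩

theorem IsIso.scl {g : V4 ≃ₗ[ZMod 2] V4} (hg : IsIso g) (c : D4) (v : V4) :
    g (USixTwo.scl c v) = USixTwo.scl c (g v) := by
  rcases D4_cases c with rfl | rfl | rfl | rfl
  · rw [scl_zero, scl_zero, map_zero]
  · rw [scl_one, scl_one]
  · rw [← omV_eq, ← omV_eq, hg.lin]
  · rw [scl_ww, scl_ww, hg.lin, hg.lin]

theorem IsIso.hm {g : V4 ≃ₗ[ZMod 2] V4} (hg : IsIso g) (u v : V4) : USixTwo.hm (g u) (g v) = USixTwo.hm u v := by
  have key : ∀ a b : D4, a.2 = b.2 → (fm (0, 1) a).2 = (fm (0, 1) b).2 → a = b := by decide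
  have h2 : ∀ u v, (USixTwo.hm (g u) (g v)).2 = (USixTwo.hm u v).2 := fun u v => by
    rw [← bs4_eq, ← bs4_eq, bs4, bs4, ← map_add, hg.quad, hg.quad, hg.quad]
  refine key _ _ (h2 u v) ?_
  rw [← hm_scl_left, ← hm_scl_left, ← hg.scl]
  exact h2 _ _

/-! ### Columns -/

/-- The code of the image of a vector under the map with the given columns. -/
def apN (c : List ℕ) (n : ℕ) : ℕ :=
  (if n.testBit 0 then c.getD 0 0 else 0) ^^^ (if n.testBit 1 then c.getD 1 0 else 0) ^^^
    (if n.testBit 2 then c.getD 2 0 else 0) ^^^ (if n.testBit 3 then c.getD 3 0 else 0) ^^^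
    (if n.testBit 4 then c.getD 4 0 else 0) ^^^ (if n.testBit 5 then c.getD 5 0 else 0) ^^^
    (if n.testBit 6 then c.getD 6 0 else 0) ^^^ (if n.testBit 7 then c.getD 7 0 else 0)

/-- The composition on columns. -/
def mulCols (a b : List ℕ) : List ℕ := b.map (apN a)

/-- The columns of the identity. -/
def idCols : List ℕ := [1, 2, 4, 8, 16, 32, 64, 128]

/-- The columns of a linear map. -/
def cols (g : V4 ≃ₗ[ZMod 2] V4) : List ℕ := idCols.map fun n => code (g (dec n))

/-- The part of a code at a bit. -/
def part (n k : ℕ) : V4 := if n.testBit k then dec (2 ^ k) else 0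

theorem split_code : ∀ n < 256, dec n =
    part n 0 + part n 1 + part n 2 + part n 3 + part n 4 + part n 5 + part n 6 + part n 7 := by
  decide +kernel

theorem code_part (g : V4 ≃ₗ[ZMod 2] V4) (n k : ℕ) (hk : k < 8) :
    code (g (part n k)) = if n.testBit k then (cols g).getD k 0 else 0 := by
  unfold part
  split
  · interval_cases k <;> rfl
  · rw [map_zero, code_zero]

theorem code_apply (g : V4 ≃ₗ[ZMod 2] V4) (v : V4) : code (g v) = apN (cols g) (code v) := by
  conv_lhs => rw [← dec_code v, split_code _ (code_lt v)]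
  simp only [map_add, code_add]
  rw [code_part g _ 0 (by norm_num), code_part g _ 1 (by norm_num), code_part g _ 2 (by norm_num),
    code_part g _ 3 (by norm_num), code_part g _ 4 (by norm_num), code_part g _ 5 (by norm_num),
    code_part g _ 6 (by norm_num), code_part g _ 7 (by norm_num)]
  rfl

theorem cols_injective : Function.Injective cols := fun g k e =>
  LinearEquiv.ext fun v => code_injective (by rw [code_apply, code_apply, e])

theorem cols_mul (g k : V4 ≃ₗ[ZMod 2] V4) : cols (g * k) = mulCols (cols g) (cols k) := by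
  simp only [cols, mulCols, List.map_map]
  refine List.map_congr_left fun n _ => ?_
  show code (g (k (dec n))) = _
  rw [code_apply g]
  rfl

theorem cols_one : cols 1 = idCols := by decide +kernel

/-! ### Transvections -/

/-- The transvection at a vector, as a function. -/
def tvFun (t v : V4) : V4 := v + scl (hm v t) t

theorem tvFun_add (t u v : V4) : tvFun t (u + v) = tvFun t u + tvFun t v := by
  simp only [tvFun, hm_add_left, add_scl]; abel

theorem tvFun_tvFun {t : V4} (h : hm t t = 0) (v : V4) : tvFun t (tvFun t v) = v := by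
  simp only [tvFun, hm_add_left, hm_scl_left, h]
  rw [show fm (hm v t) 0 = 0 from (by decide : ∀ a : D4, fm a 0 = 0) _, add_zero, add_assoc, add_self_V4,
    add_zero]

open scoped Classical in
/-- The transvection at an isotropic vector, the identity at the others. -/
noncomputable def tv (t : V4) : V4 ≃ₗ[ZMod 2] V4 :=
  if h : hm t t = 0 then
    { toFun := tvFun t
      invFun := tvFun t
      map_add' := tvFun_add t
      map_smul' := fun c v => by
        rcases (by decide : ∀ c : ZMod 2, c = 0 ∨ c = 1) c with rfl | rfl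
        · simp only [zero_smul, RingHom.id_apply, tvFun, hm_zero_left, scl_zero, add_zero]
        · simp only [one_smul, RingHom.id_apply]
      left_inv := tvFun_tvFun h
      right_inv := tvFun_tvFun h }
  else 1

theorem tv_apply {t : V4} (h : hm t t = 0) (v : V4) : tv t v = v + scl (hm v t) t := by
  rw [tv, dif_pos h]; rfl

theorem tv_mul_self (t : V4) : tv t * tv t = 1 := LinearEquiv.ext fun v => by
  by_cases h : hm t t = 0
  · show tv t (tv t v) = v
    rw [tv_apply h, tv_apply h]
    exact tvFun_tvFun h v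
  · show tv t (tv t v) = v
    rw [tv, dif_neg h]; rfl

theorem tv_iso (t : V4) : tv t ∈ isoGroup := by
  by_cases h : hm t t = 0
  · refine ⟨fun v => ?_, fun v => ?_⟩
    · rw [tv_apply h, tv_apply h, omV_eq, omV_eq, hm_scl_left, scl_add, scl_scl]
    · rw [tv_apply h, q4_add, hm_scl_right]
      have hq : ∀ c, q4 (scl c t) = 0 := fun c => by
        have h1 := hm_self (scl c t)
        rw [hm_scl_left, hm_scl_right, h,
          show ∀ x : D4, fm x (fm (cj c) 0) = 0 from fun x =>
            (by decide : ∀ x y : D4, fm x (fm y 0) = 0) x _] at h1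
        exact (congrArg Prod.fst h1).symm
      rw [hq, add_zero, show (fm (cj (hm v t)) (hm v t)).2 = 0 from
        (by decide : ∀ x : D4, (fm (cj x) x).2 = 0) _, add_zero]
  · rw [tv, dif_neg h]; exact one_mem _

theorem tv_conj {g : V4 ≃ₗ[ZMod 2] V4} (hg : IsIso g) {t : V4} (h : hm t t = 0) :
    g * tv t * g⁻¹ = tv (g t) := LinearEquiv.ext fun v => by
  show g (tv t (g.symm v)) = tv (g t) v
  rw [tv_apply h, tv_apply (by rw [hg.hm, h]), map_add, hg.scl, g.apply_symm_apply]
  conv_rhs => rw [← g.apply_symm_apply v, hg.hm, g.apply_symm_apply]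

theorem tv_scl {t : V4} (h : hm t t = 0) {c : D4} (hc : c ≠ 0) : tv (scl c t) = tv t := by
  refine LinearEquiv.ext fun v => ?_
  have h' : hm (scl c t) (scl c t) = 0 := by
    rw [hm_scl_left, hm_scl_right, h]
    exact (by decide : ∀ x y : D4, fm x (fm y 0) = 0) _ _
  rw [tv_apply h', tv_apply h, hm_scl_right, scl_scl,
    (by decide : ∀ c x : D4, c ≠ 0 → fm (fm (cj c) x) c = x) c _ hc]

/-- The vector of a point. -/
def ptV (i : ℕ) : V4 := dec (ptCodes.getD i 0)

/-- The transvection of a point. -/
noncomputable def tvP (i : ℕ) : V4 ≃ₗ[ZMod 2] V4 := tv (ptV i)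

theorem ptV_facts : ∀ i < 45, hm (ptV i) (ptV i) = 0 ∧
    tvCols.getD i [] = idCols.map fun n => code (tvFun (ptV i) (dec n)) := by decide +kernel

theorem cols_tvP {i : ℕ} (hi : i < 45) : cols (tvP i) = tvCols.getD i [] := by
  rw [(ptV_facts i hi).2, cols]
  refine List.map_congr_left fun n _ => ?_
  rw [tvP, tv_apply (ptV_facts i hi).1]; rfl

/-- The product of the transvections of a word. -/
noncomputable def wordE (w : List ℕ) : V4 ≃ₗ[ZMod 2] V4 := (w.map tvP).prod

/-- Its columns. -/
def wordCols : List ℕ → List ℕ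
  | [] => idCols
  | i :: w => mulCols (tvCols.getD i []) (wordCols w)

/-- The letters are points. -/
def validW (w : List ℕ) : Bool := w.all fun i => decide (i < 45)

theorem cols_wordE : ∀ w : List ℕ, validW w = true → cols (wordE w) = wordCols w := by
  intro w
  induction w with
  | nil => intro _; exact cols_one
  | cons i w ih =>
    intro h
    simp only [validW, List.all_cons, Bool.and_eq_true, decide_eq_true_eq] at h
    rw [wordE, List.map_cons, List.prod_cons, cols_mul, cols_tvP h.1, wordCols]
    exact congrArg _ (ih h.2)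

theorem code_wordE {w : List ℕ} (hw : validW w = true) (v : V4) :
    code (wordE w v) = apN (wordCols w) (code v) := by rw [code_apply, cols_wordE w hw]

theorem wordE_iso (w : List ℕ) : wordE w ∈ isoGroup := list_prod_mem fun _ hx => by
  obtain ⟨i, -, rfl⟩ := List.mem_map.1 hx
  exact tv_iso _

end CfsgLib.Recognition.USixTwo
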