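import Cfsg.Agent.Lib.Recognition.USixTwo.NoPair

/-!
# The five members of a line

For commuting conjugates `z, w` the conjugates acting at `z` as `w` does are exactly the four conjugates of `w`
under `J`; they commute, and with `z` they form a set depending only on that line, with product one.
-/

set_option autoImplicit false
set_option linter.unusedSectionVars false

namespace CfsgLib.Recognition.USixTwo

open CfsgLib.ThreeTransp.Extraspecial
open CfsgLib.Sporadic.LargeFischer (D4 om nzd)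

theorem D4_add_self : ∀ x : D4, x + x = 0 := by decide

theorem D4_eq_of_add : ∀ x y : D4, x + y = 0 → x = y := by decide

theorem fm_assoc : ∀ a b c : D4, fm (fm a b) c = fm a (fm b c) := by decide

theorem fm_one : ∀ c : D4, fm c (1, 0) = c := by decide

variable {X : Type*} [Group X] [Finite X]

/-- The conjugates of `w` under `J`, together with `z`. -/
def Five (z : X) (J : Subgroup X) (w : X) : Set X := {t | t = z ∨ ∃ j ∈ J, t = j * w * j⁻¹}

variable {z w t : X} {J J' J'' : Subgroup X} {π π' π'' : X → V4}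
  {ψ : ↥(Subgroup.centralizer ({z} : Set X)) →* (V4 ≃ₗ[ZMod 2] V4)}
  {ψ' : ↥(Subgroup.centralizer ({w} : Set X)) →* (V4 ≃ₗ[ZMod 2] V4)}
  {ψ'' : ↥(Subgroup.centralizer ({t} : Set X)) →* (V4 ≃ₗ[ZMod 2] V4)}

namespace Couple

/-- Two couples at `z` give a couple between the other members. -/
theorem between (P : Couple z w J J' π π' ψ ψ') (Q : Couple z t J J'' π π'' ψ ψ'') (hc : t * w = w * t) (hne : t ≠ w) :
    Couple w t J' J'' π' π'' ψ' ψ'' := by
  obtain ⟨g, hg, hJ⟩ := P.conj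
  obtain ⟨k, hk, hK⟩ := Q.conj
  refine ⟨P.hw, Q.hw, ⟨k * g⁻¹, by rw [← hg, ← hk]; group, ?_⟩, hc, hne⟩
  rw [← hJ, ← hK, Subgroup.map_map]
  congr 1
  ext x
  simp [mul_assoc]

variable (P : Couple z w J J' π π' ψ ψ')
include P

section Tau

variable {v : V4} (hq : q4 v = 0) (hv : v ≠ 0) (he : ψ (cz P.comm) = tv v)
include hq hv he

theorem line_cof_sq {j : X} (hj : j ∈ J) : w * (j * w * j⁻¹) * (w * (j * w * j⁻¹)) = 1 :=
  (P.hz.q_iff _ (P.cof_mem hj)).1 (by rw [P.π_cof_line hq hv he hj]; exact q4_scl hq _)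

/-- The conjugates under `J` commute. -/
theorem line_comm {j : X} (hj : j ∈ J) : j * w * j⁻¹ * w = w * (j * w * j⁻¹) := by
  have e := inv_eq_of_mul_eq_one_right (P.line_cof_sq hq hv he hj)
  rw [mul_inv_rev, P.winv, inv_eq_of_mul_eq_one_right (P.conj_sq hj)] at e
  exact e

/-- The other group on the orthogonal modulo the line is trivial. -/
theorem rad {k : X} (hk : k ∈ J') (hkz : k * z = z * k) {x : V4} (hx : hm x v = 0) :
    ∃ c, ψ (⟨k, Subgroup.mem_centralizer_singleton_iff.2 hkz⟩) x + x = scl c v := by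
  obtain ⟨a, ha, rfl⟩ := P.hz.π_surj x
  obtain ⟨m1, m2⟩ := P.comm_meet ha ((P.cent_iff hq hv he ha).2 hx) hk hkz
  obtain ⟨c, hc⟩ := P.meet_line hq hv he m1 m2
  refine ⟨c, ?_⟩
  have hn := P.hz.norm _ hkz _ (inv_mem ha)
  rw [← hc, show a * k * a⁻¹ * k⁻¹ = a * (k * a⁻¹ * k⁻¹) by group, P.hz.π_mul _ ha _ hn, add_comm]
  congr 1
  rw [← P.hz.act _ a ha, show k * a⁻¹ * k⁻¹ = (k * a * k⁻¹)⁻¹ by group, P.hz.π_inv (P.hz.norm _ hkz a ha)]

end Tau

/-- The product of commuting conjugates is not a conjugate. -/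
theorem mul_not_conj : ¬ IsConj z (w * z) := by
  intro hcon
  obtain ⟨v, hq, hv, he⟩ := P.tau
  have hc : w * z * z = z * (w * z) := by rw [← mul_assoc, ← P.comm]
  have hne : w * z ≠ z := fun e => P.hw.extra.z_ne (mul_eq_right.1 e)
  obtain ⟨J₂, π₂, ψ₂, Q⟩ := P.hz.exists_couple hcon hc hne
  have R := P.between Q (by rw [mul_assoc, ← P.comm]) (fun e => P.hz.extra.z_ne (mul_eq_left.1 e))
  obtain ⟨i, hi⟩ := hm_nondeg hv
  obtain ⟨j, hj, hπj⟩ := P.hz.π_surj (ev i)
  have hjw : j * w * j⁻¹ ≠ w := fun e => hi (hπj ▸ (P.cent_iff hq hv he hj).1 (mul_inv_eq_iff_eq_mul.1 e))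
  set b := z * (w * (j * w * j⁻¹)) with hb
  have hbJ : b ∈ J := mul_mem P.hz.extra.z_mem (P.cof_mem hj)
  have hb1 : b ≠ 1 := by
    intro e
    have h1 := eq_inv_of_mul_eq_one_right e
    rw [P.hz.extra.inv_z] at h1
    apply P.no_flip hq hv he hj
    rw [← h1, ← mul_assoc, P.ww, one_mul]
  have hQe : ψ (cz Q.comm) = tv v := by
    rw [show cz Q.comm = cz P.comm * cz (rfl : z * z = z * z) from Subtype.ext rfl, map_mul, he,
      (P.hz.ker (cz rfl)).2 P.hz.extra.z_mem, mul_one]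
  have hbw : b ∈ J' := P.meet_mem hq hv he hj hjw
  have hbt : b ∈ J₂ := by
    have hj' : j * (w * z) * j⁻¹ = j * w * j⁻¹ * z := by
      rw [← mul_assoc j w z, mul_assoc (j * w) z, ← P.jcomm (inv_mem hj)]
      group
    have := Q.meet_mem hq hv hQe hj (by rw [hj']; exact fun e => hjw (mul_right_cancel e))
    convert this using 1
    rw [hb, hj', ← mul_assoc (w * z), mul_assoc w z, ← P.conj_comm hj]
    simp only [mul_assoc, P.zz, mul_one]
  obtain ⟨u, hu, hu0, hue⟩ := R.tau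
  rcases R.meet_cases hu hu0 hue hbw hbt with e | ⟨k, -, e⟩
  · exact hb1 e
  have e' : k * (w * z) * k⁻¹ = z * b := by
    rw [e, show w * (w * z * (k * (w * z) * k⁻¹)) = w * w * z * (k * (w * z) * k⁻¹) by group, P.ww, one_mul,
      ← mul_assoc z z, P.zz, one_mul]
  have := P.hz.eq_of_isConj (show k * (w * z) * k⁻¹ ∈ J by rw [e']; exact mul_mem P.hz.extra.z_mem hbJ)
    (hcon.trans (isConj_iff.2 ⟨k, rfl⟩))
  rw [e'] at this
  exact hb1 (mul_eq_left.1 this)

/-- The conjugates acting at `z` as `w` does are the conjugates under `J`. -/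
theorem coset {t : X} (hc : t * z = z * t) (hconj : IsConj z t) (e : ψ (cz hc) = ψ (cz P.comm)) :
    ∃ j ∈ J, t = j * w * j⁻¹ := by
  by_cases htw : t = w
  · exact ⟨1, one_mem _, by rw [htw]; group⟩
  obtain ⟨v, hq, hv, he⟩ := P.tau
  have htz : t ≠ z := fun e' => P.psi_ne (by
    rw [← e, (P.hz.ker _).2]; exact (show (cz hc : X) ∈ J by rw [cz_coe, e']; exact P.hz.extra.z_mem))
  obtain ⟨J₂, π₂, ψ₂, Q⟩ := P.hz.exists_couple hconj hc htz
  set a := w * t with hadef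
  have haJ : a ∈ J := by
    refine (P.hz.ker (cz P.comm * cz hc)).1 ?_
    rw [map_mul, e, P.psi_sq]
  have hfix : ψ (cz P.comm) (π a) = π a := by
    rw [← P.act_w haJ, show w * a * w⁻¹ = a⁻¹ by
      rw [hadef, ← mul_assoc, P.ww, one_mul, mul_inv_rev, P.winv, inv_eq_of_mul_eq_one_right Q.ww], P.hz.π_inv haJ]
  have haw : a * w = w * a := by
    rw [he] at hfix
    exact (P.cent_iff hq hv he haJ).2 ((tv_fixed hq hv).1 hfix)
  have htw' : t * w = w * t := mul_left_cancel (a := w) (by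
    rw [← mul_assoc, ← mul_assoc, ← hadef, haw, P.ww, one_mul, hadef, ← mul_assoc, P.ww, one_mul])
  have R := P.between Q htw' htw
  obtain ⟨ε, hε, hε0, hεe⟩ := R.tau
  obtain ⟨u, hu, hu0, hue⟩ := P.symm.tau
  have hψa : ψ' ⟨a, Subgroup.mem_centralizer_singleton_iff.2 haw⟩ = tv ε := by
    rw [← hεe, show (⟨a, Subgroup.mem_centralizer_singleton_iff.2 haw⟩ : ↥(Subgroup.centralizer ({w} : Set X))) =
      cz (rfl : w * w = w * w) * cz R.comm from Subtype.ext rfl, map_mul,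
      (P.hw.ker (cz rfl)).2 P.hw.extra.z_mem, one_mul]
  have hrad : tv ε = tv u := tv_rad hu hu0 hε hε0 fun x hx => hψa ▸ P.symm.rad hu hu0 hue haJ haw hx
  have haz : a * z ∈ J' := by
    refine (P.hw.ker (⟨a, Subgroup.mem_centralizer_singleton_iff.2 haw⟩ * cz P.symm.comm)).1 ?_
    rw [map_mul, hψa, hue, hrad, tv_mul_self]
  obtain ⟨c, hc'⟩ := P.meet_line hq hv he (mul_mem haJ P.hz.extra.z_mem) haz
  rw [P.hz.π_mul_z haJ] at hc'
  obtain ⟨j, hj, hjc⟩ := P.exists_cof hq hv he c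
  rcases (P.hz.π_eq_iff (P.cof_mem hj) haJ).1 (hjc.trans hc'.symm) with e' | e'
  · exact ⟨j, hj, mul_left_cancel e'⟩
  · exfalso
    have e'' : t = j * (w * z) * j⁻¹ := by
      rw [hadef, mul_assoc w] at e'
      rw [mul_left_cancel e', mul_assoc (j * w) _ z, P.jcomm (inv_mem hj)]
      group
    exact P.mul_not_conj (hconj.trans (isConj_iff.2 ⟨j⁻¹, by rw [e'']; group⟩))

/-- The five contain the same for the reversed pair. -/
theorem five_subset : Five z J w ⊆ Five w J' z := by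
  rintro t (rfl | ⟨j, hj, rfl⟩)
  · exact Or.inr ⟨1, one_mem _, by group⟩
  by_cases h : j * w * j⁻¹ = w
  · exact Or.inl h
  obtain ⟨v, hq, hv, he⟩ := P.tau
  have hc := P.line_comm hq hv he hj
  have hb := P.meet_mem hq hv he hj h
  refine Or.inr (P.symm.coset hc (P.symm.isConj.trans (P.isConj_conj j)) ?_)
  have e1 : ψ' (cz P.symm.comm * cz (rfl : w * w = w * w) * cz hc) = 1 := (P.hw.ker _).2 (by
    show z * w * (j * w * j⁻¹) ∈ J'
    rw [mul_assoc]; exact hb)
  rw [map_mul, map_mul, (P.hw.ker (cz rfl)).2 P.hw.extra.z_mem, mul_one] at e1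
  exact mul_left_cancel (e1.trans P.symm.psi_sq.symm)

theorem five_symm : Five z J w = Five w J' z := Set.Subset.antisymm P.five_subset P.symm.five_subset

/-- A member other than `z` of the five spans the same five. -/
theorem five_conj {j : X} (hj : j ∈ J) : Five z J (j * w * j⁻¹) = Five z J w := by
  ext t
  refine or_congr Iff.rfl ⟨fun ⟨k, hk, e⟩ => ⟨k * j, mul_mem hk hj, by rw [e]; group⟩, fun ⟨k, hk, e⟩ =>
    ⟨k * j⁻¹, mul_mem hk (inv_mem hj), by rw [e]; group⟩⟩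

/-- The four conjugates, indexed by the field. -/
theorem exists_index : ∃ f : D4 → X, Function.Injective f ∧ f 0 = w ∧
    (∀ t, t ∈ Five z J w ↔ t = z ∨ ∃ c, f c = t) ∧ (∀ c, f c ≠ z) ∧
      ∀ c d : D4, c ≠ 0 → d ≠ 0 → c ≠ d → f 0 * f c * (f 0 * f d) = z * (f 0 * f (c + d)) := by
  obtain ⟨v, hq, hv, he⟩ := P.tau
  choose g hg hgπ using fun c => P.exists_cof hq hv he c
  have hmem : ∀ c, g c * w * (g c)⁻¹ ≠ z := fun c e => P.ne (by
    rw [show w = (g c)⁻¹ * (g c * w * (g c)⁻¹) * g c by group, e, mul_assoc, ← P.jcomm (hg c), inv_mul_cancel_left])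
  refine ⟨fun c => g c * w * (g c)⁻¹, fun c d e => ?_, ?_, fun t => or_congr Iff.rfl ⟨?_, ?_⟩, hmem, ?_⟩
  · have := hgπ c
    rw [show g c * w * (g c)⁻¹ = g d * w * (g d)⁻¹ from e, hgπ d] at this
    exact D4_eq_of_add _ _ (scl_eq_zero hv (by rw [add_scl, this, add_self_V4]))
  · exact (P.conj_eq hq hv he (hg 0) (one_mem _) (by simp [hgπ, P.ww, P.hz.π_one, scl_zero])).trans (by group)
  · rintro ⟨k, hk, rfl⟩
    refine ⟨hm (π k) v, P.conj_eq hq hv he (hg _) hk ?_⟩
    rw [hgπ, P.π_cof_line hq hv he hk]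
  · rintro ⟨c, rfl⟩; exact ⟨g c, hg c, rfl⟩
  intro c d hc hd hcd
  have h0 : g 0 * w * (g 0)⁻¹ = w :=
    (P.conj_eq hq hv he (hg 0) (one_mem _) (by simp [hgπ, P.ww, P.hz.π_one, scl_zero])).trans (by group)
  simp only [h0]
  have hne : ∀ c, c ≠ 0 → g c * w * (g c)⁻¹ ≠ w := fun c hc e => hc (scl_eq_zero hv (by
    rw [← hgπ c, e, P.ww, P.hz.π_one]))
  have hbc := P.meet_mem hq hv he (hg c) (hne c hc)
  have hbd := P.meet_mem hq hv he (hg d) (hne d hd)
  set b := z * (w * (g c * w * (g c)⁻¹)) * (z * (w * (g d * w * (g d)⁻¹))) with hb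
  have hbJ : b ∈ J := mul_mem (mul_mem P.hz.extra.z_mem (P.cof_mem (hg c))) (mul_mem P.hz.extra.z_mem (P.cof_mem (hg d)))
  have hb' : b = w * (g c * w * (g c)⁻¹) * (w * (g d * w * (g d)⁻¹)) := by
    rw [hb, P.hz.extra.z_comm (P.cof_mem (hg c)), mul_assoc _ z, ← mul_assoc z z, P.zz, one_mul]
  have hπb : π b = scl (c + d) v := by
    rw [hb', P.hz.π_mul _ (P.cof_mem (hg c)) _ (P.cof_mem (hg d)), hgπ, hgπ, add_scl]
  rw [← hb']
  rcases P.meet_cases hq hv he hbJ (mul_mem hbc hbd) with e | ⟨k, hk, e⟩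
  · refine absurd (D4_eq_of_add _ _ (scl_eq_zero hv ?_)) hcd
    rw [← hπb, e, P.hz.π_one]
  · rw [e, P.hz.π_mul _ P.hz.extra.z_mem _ (P.cof_mem hk), P.hz.π_z, zero_add] at hπb
    rw [e, P.conj_eq hq hv he hk (hg (c + d)) (hπb.trans (hgπ (c + d)).symm)]

end Couple

end CfsgLib.Recognition.USixTwo
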