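import Cfsg.Agent.Lib.Recognition.USixTwo.Lines

/-!
# Two conjugates in the centraliser

Two conjugates commuting with `z` commute when their points are orthogonal, and their product has order three
otherwise.
-/

set_option autoImplicit false
set_option linter.unusedSectionVars false

namespace CfsgLib.Recognition.USixTwo

open CfsgLib.ThreeTransp.Extraspecial
open CfsgLib.Sporadic.LargeFischer (D4 om nzd)

theorem hm_ne_symm {a b : V4} (h : hm a b ≠ 0) : hm b a ≠ 0 := fun e => h (by rw [hm_symm, e]; rfl)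

/-- Two transvections at vectors which are not orthogonal satisfy the braid relation. -/
theorem tv_braid {a b : V4} (ha : q4 a = 0) (hb : q4 b = 0) (h : hm a b ≠ 0) :
    (tv a * tv b) ^ 3 = 1 ∧ tv a * tv b ≠ tv b * tv a := by
  have e1 : tv a * tv b * tv a = tv (tv a b) := by
    rw [← tv_map (tv_iso a) hb, inv_eq_of_mul_eq_one_right (tv_mul_self a)]
  have e2 : tv b * tv a * tv b = tv (tv b a) := by
    rw [← tv_map (tv_iso b) ha, inv_eq_of_mul_eq_one_right (tv_mul_self b)]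
  have ea : tv a b = b + scl (hm b a) a := tv_apply (hm_self_zero ha) b
  have eb : tv b a = scl (hm a b) (tv a b) := by
    have key : ∀ h : D4, h ≠ 0 → fm h (cj h) = (1, 0) := by decide
    rw [tv_apply (hm_self_zero hb), ea, scl_add, scl_scl, hm_symm b a, key _ h, scl_one, add_comm]
  have hq : q4 (tv a b) = 0 := by rw [(tv_iso a).quad, hb]
  have e3 : tv a * tv b * tv a = tv b * tv a * tv b := by rw [e1, e2, eb, tv_scl (hm_self_zero hq) h]
  refine ⟨?_, fun e => ?_⟩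
  · rw [pow_three, show tv a * tv b * (tv a * tv b * (tv a * tv b)) = (tv a * tv b * tv a) * (tv b * tv a * tv b) by group,
      ← e3, e1, tv_mul_self]
  · rw [e, mul_assoc, tv_mul_self, mul_one] at e1
    rcases eq_or_ne b 0 with rfl | hb0
    · exact h (hm_zero_right a)
    have hne : tv a b ≠ 0 := fun e0 => hb0 ((tv a).injective (e0.trans (map_zero _).symm))
    obtain ⟨c, hc, hcb⟩ := tv_eq_tv hb hq hb0 hne e1
    rw [ea] at hcb
    have h1 := congrArg (fun x => hm x b) hcb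
    simp only [hm_add_left, hm_scl_left, hm_self_zero hb, fm_zero, zero_add] at h1
    exact (by decide : ∀ x y : D4, x ≠ 0 → y ≠ 0 → fm x y ≠ 0) _ _ (hm_ne_symm h) h h1

variable {X : Type*} [Group X] [Finite X]

/-- A conjugate of `z` commuting with it and different from it. -/
def Member (z t : X) : Prop := IsConj z t ∧ t * z = z * t ∧ t ≠ z

namespace Core

variable {z : X} {J : Subgroup X} {π : X → V4} {ψ : ↥(Subgroup.centralizer ({z} : Set X)) →* (V4 ≃ₗ[ZMod 2] V4)}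
  (h : Core z J π ψ)
include h

theorem member_point {t : X} (ht : Member z t) : ∃ v, q4 v = 0 ∧ v ≠ 0 ∧ ψ (cz ht.2.1) = tv v := by
  obtain ⟨J', π', ψ', P⟩ := h.exists_couple ht.1 ht.2.1 ht.2.2
  exact P.tau

/-- The transport of a member by an element of the centraliser. -/
theorem member_conj (c : ↥(Subgroup.centralizer ({z} : Set X))) {t : X} (ht : Member z t) :
    Member z ((c : X) * t * (c : X)⁻¹) ∧ ∀ hc, ψ (cz (z := z) (w := (c : X) * t * (c : X)⁻¹) hc) =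
      ψ c * ψ (cz ht.2.1) * (ψ c)⁻¹ := by
  have hcz := Subgroup.mem_centralizer_singleton_iff.1 c.2
  refine ⟨⟨ht.1.trans (isConj_iff.2 ⟨c, rfl⟩), Subgroup.mem_centralizer_singleton_iff.1 (c * cz ht.2.1 * c⁻¹).2,
    fun e => ht.2.2 ?_⟩, fun hc => ?_⟩
  · rw [show t = (c : X)⁻¹ * ((c : X) * t * (c : X)⁻¹) * c by group, e, mul_assoc, ← hcz, inv_mul_cancel_left]
  · rw [show cz hc = c * cz ht.2.1 * c⁻¹ from Subtype.ext rfl, map_mul, map_mul, map_inv]

/-- Every point occurs. -/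
theorem exists_member (hni : ∃ w, Member z w) {e : V4} (he : q4 e = 0) (he0 : e ≠ 0) :
    ∃ t, ∃ ht : Member z t, ψ (cz ht.2.1) = tv e := by
  obtain ⟨w, hw⟩ := hni
  obtain ⟨v, hq, hv, hψ⟩ := h.member_point hw
  obtain ⟨g, hg, rfl⟩ := exists_moving hq hv
  obtain ⟨k, hk, rfl⟩ := exists_moving he he0
  obtain ⟨c, hc⟩ : k * g⁻¹ ∈ ψ.range := TG_le_of_model h.model (mul_mem hk (inv_mem hg))
  obtain ⟨hm', hψ'⟩ := h.member_conj c hw
  refine ⟨_, hm', ?_⟩
  rw [hψ' hm'.2.1, hc, hψ, tv_map (mul_mem (TG_le hk) (inv_mem (TG_le hg))) hq]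
  show tv (k (g.symm (g v0))) = tv (k v0)
  rw [g.symm_apply_apply]

/-- Orthogonal points: commuting members. -/
theorem orth_comm {t t' : X} (ht : Member z t) (ht' : Member z t') {a b : V4} (ha : q4 a = 0) (ha0 : a ≠ 0)
    (hb : q4 b = 0) (hb0 : b ≠ 0) (ea : ψ (cz ht.2.1) = tv a) (eb : ψ (cz ht'.2.1) = tv b) (hab : hm a b = 0) :
    t * t' = t' * t := by
  obtain ⟨J₁, π₁, ψ₁, P⟩ := h.exists_couple ht.1 ht.2.1 ht.2.2
  obtain ⟨J₂, π₂, ψ₂, Q⟩ := h.exists_couple ht'.1 ht'.2.1 ht'.2.2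
  by_cases hne : tv a = tv b
  · obtain ⟨j, hj, rfl⟩ := P.coset ht'.2.1 ht'.1 (by rw [eb, ea, hne])
    exact (P.line_comm ha ha0 ea hj).symm
  obtain ⟨θ, hθ, θa, θb⟩ := exists_torus ha ha0 hb hb0 hab hne
  obtain ⟨g, hg⟩ : θ ∈ ψ.range := TG_le_of_model h.model hθ
  obtain ⟨hm2, hψ2⟩ := h.member_conj g ht'
  obtain ⟨j', hj', e'⟩ := Q.coset hm2.2.1 hm2.1 (by rw [hψ2, hg, eb, θb])
  set g₁ : ↥(Subgroup.centralizer ({z} : Set X)) := (⟨j', h.mem_cent hj'⟩ : ↥(Subgroup.centralizer ({z} : Set X)))⁻¹ * g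
    with hg₁
  have hψ₁ : ψ g₁ = θ := by rw [hg₁, map_mul, map_inv, (h.ker ⟨j', _⟩).2 hj', inv_one, one_mul, hg]
  have hfix : (g₁ : X) * t' * (g₁ : X)⁻¹ = t' := by
    rw [show (g₁ : X) * t' * (g₁ : X)⁻¹ = j'⁻¹ * ((g : X) * t' * (g : X)⁻¹) * j' by
      rw [hg₁]
      show j'⁻¹ * (g : X) * t' * (j'⁻¹ * (g : X))⁻¹ = _
      group, e']
    group
  obtain ⟨hm1, hψm⟩ := h.member_conj g₁ ht
  obtain ⟨j, hj, ej⟩ := P.coset hm1.2.1 hm1.1 (by
    rw [hψm, hψ₁, ea, tv_map (TG_le hθ) ha, θa, omV_eq, tv_scl (hm_self_zero ha) (by decide)])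
  obtain ⟨hm3, hψ3⟩ := h.member_conj (cz ht'.2.1) ht
  obtain ⟨k, hk, ek⟩ := P.coset hm3.2.1 hm3.1 (by
    rw [hψ3, eb, ea, tv_map (tv_iso b) ha, (tv_fixed hb hb0).2 hab])
  rw [cz_coe] at ek
  have hkc := P.π_cof_line ha ha0 ea hk
  set y := t * (t' * t * t'⁻¹) with hy
  have hyJ : y ∈ J := by rw [hy, ek]; exact P.cof_mem hk
  have h1 : π ((g₁ : X) * y * (g₁ : X)⁻¹) = scl (fm (0, 1) (hm (π k) a)) a := by
    rw [h.act g₁ y hyJ, hψ₁, hy, ek, hkc, (show IsIso θ from TG_le hθ).scl, θa, omV_eq, scl_scl]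
    congr 1
    exact (by decide : ∀ c : D4, fm c (0, 1) = fm (0, 1) c) _
  have h2 : π ((g₁ : X) * y * (g₁ : X)⁻¹) = scl (hm (π k) a) a := by
    set j₂ := t' * j * t'⁻¹ with hj₂
    have hj₂J : j₂ ∈ J := h.norm t' ht'.2.1 j hj
    have e4 : (g₁ : X) * y * (g₁ : X)⁻¹ = (t * (j * t * j⁻¹))⁻¹ * (t * ((j₂ * k) * t * (j₂ * k)⁻¹)) := by
      rw [hy, show (g₁ : X) * (t * (t' * t * t'⁻¹)) * (g₁ : X)⁻¹ = ((g₁ : X) * t * (g₁ : X)⁻¹) *
        (((g₁ : X) * t' * (g₁ : X)⁻¹) * ((g₁ : X) * t * (g₁ : X)⁻¹) * ((g₁ : X) * t' * (g₁ : X)⁻¹)⁻¹) by group,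
        hfix, ej, mul_inv_rev, inv_eq_of_mul_eq_one_right (P.conj_sq hj), P.winv,
        show j₂ * k * t * (j₂ * k)⁻¹ = j₂ * (k * t * k⁻¹) * j₂⁻¹ by group, ← ek, hj₂, mul_assoc (j * t * j⁻¹) t,
        ← mul_assoc t t, P.ww, one_mul]
      group
    rw [e4, h.π_mul _ (inv_mem (P.cof_mem hj)) _ (P.cof_mem (mul_mem hj₂J hk)), h.π_inv (P.cof_mem hj),
      P.π_cof_line ha ha0 ea hj, P.π_cof_line ha ha0 ea (mul_mem hj₂J hk), h.π_mul _ hj₂J _ hk, ← add_scl,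
      hm_add_left, hj₂, show π (t' * j * t'⁻¹) = tv b (π j) by rw [← eb]; exact h.act (cz ht'.2.1) j hj]
    congr 1
    conv_lhs => arg 2; arg 1; arg 2; rw [← (tv_fixed hb hb0).2 hab]
    rw [(show IsIso (tv b) from tv_iso b).hm, ← add_assoc, D4_add_self, zero_add]
  have h3 : hm (π k) a = 0 := by
    have := h1.symm.trans h2
    refine (by decide : ∀ c : D4, fm (0, 1) c + c = 0 → c = 0) _ (scl_eq_zero ha0 ?_)
    rw [add_scl, this, add_self_V4]
  have := P.conj_eq ha ha0 ea hk (one_mem _) (by rw [hkc, h3]; simp [P.ww, h.π_one, scl_zero])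
  rw [← ek] at this
  have h4 : t' * t * t'⁻¹ = t := by simpa using this
  exact (mul_inv_eq_iff_eq_mul.1 h4).symm

/-- Members with points which are not orthogonal generate a symmetric group of degree three. -/
theorem nonorth (hni : ∃ w, Member z w) {t t' : X} (ht : Member z t) (ht' : Member z t') {a b : V4} (ha : q4 a = 0)
    (ha0 : a ≠ 0) (hb : q4 b = 0) (hb0 : b ≠ 0) (ea : ψ (cz ht.2.1) = tv a) (eb : ψ (cz ht'.2.1) = tv b)
    (hab : hm a b ≠ 0) : (t * t') ^ 3 = 1 ∧ t * t' ≠ t' * t := by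
  obtain ⟨hbr, hnc⟩ := tv_braid ha hb hab
  have hn : t * t' ≠ t' * t := fun e => hnc (by
    rw [← ea, ← eb, ← map_mul, ← map_mul]
    exact congrArg ψ (Subtype.ext e))
  refine ⟨?_, hn⟩
  set y := (t * t') ^ 3 with hy
  have hyJ : y ∈ J := (h.ker ((cz ht.2.1 * cz ht'.2.1) ^ 3)).1 (by rw [map_pow, map_mul, ea, eb, hbr])
  obtain ⟨e, e', he, he0, he', he0', hee, hae, hbe, hae', hbe', hne1, hne2, hne3, hne4⟩ :=
    exists_two_common ha ha0 hb hb0 hab
  have key : ∀ {e : V4}, q4 e = 0 → e ≠ 0 → hm a e = 0 → hm b e = 0 → tv a ≠ tv e → tv b ≠ tv e →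
      (∃ c, π y = scl c e) ∧ y ≠ z := by
    intro e he he0 hae hbe hne hne'
    obtain ⟨q, hq, eq'⟩ := h.exists_member hni he he0
    obtain ⟨Jq, πq, ψq, P⟩ := h.exists_couple hq.1 hq.2.1 hq.2.2
    have mt : Member q t := ⟨hq.1.symm.trans ht.1, (h.orth_comm ht hq ha ha0 he he0 ea eq' hae), fun e0 => hne (by
      subst e0; rw [← ea, ← eq'])⟩
    have mt' : Member q t' := ⟨hq.1.symm.trans ht'.1, (h.orth_comm ht' hq hb hb0 he he0 eb eq' hbe), fun e0 => hne' (by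
      subst e0; rw [← eb, ← eq'])⟩
    obtain ⟨a', ha', ha0', ea'⟩ := P.hw.member_point mt
    obtain ⟨b', hb', hb0', eb'⟩ := P.hw.member_point mt'
    have hab' : hm a' b' ≠ 0 := fun e0 => hn (P.hw.orth_comm mt mt' ha' ha0' hb' hb0' ea' eb' e0)
    have hyq : y ∈ Jq := (P.hw.ker ((cz mt.2.1 * cz mt'.2.1) ^ 3)).1 (by
      rw [map_pow, map_mul, ea', eb', (tv_braid ha' hb' hab').1])
    exact ⟨P.meet_line he he0 eq' hyJ hyq, fun e0 => P.not_mem' (e0 ▸ hyq)⟩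
  obtain ⟨⟨c, hc⟩, hyz⟩ := key he he0 hae hbe hne1 hne2
  obtain ⟨⟨c', hc'⟩, -⟩ := key he' he0' hae' hbe' hne3 hne4
  have hπ : π y = 0 := by
    by_contra h0
    have hc0 : c ≠ 0 := fun e0 => h0 (by rw [hc, e0, scl_zero])
    have hc0' : c' ≠ 0 := fun e0 => h0 (by rw [hc', e0, scl_zero])
    exact hee (by rw [← tv_scl (hm_self_zero he) hc0, ← hc, hc', tv_scl (hm_self_zero he') hc0'])
  exact ((h.π_ker y hyJ).1 hπ).resolve_right hyz

end Core

end CfsgLib.Recognition.USixTwo
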