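import Cfsg.Agent.Lib.Recognition.USixTwo.Sylow

/-!
# Facts about orthogonal pairs of points and the stabiliser of a vector
-/

set_option autoImplicit false
set_option maxRecDepth 100000

namespace CfsgLib.Recognition.USixTwo

open CfsgLib.Sporadic.LargeFischer (D4 om nzd)

/-- The second standard isotropic vector. -/
def b0 : V4 := dec 80

theorem v0b0 : q4 v0 = 0 ∧ v0 ≠ 0 ∧ q4 b0 = 0 ∧ b0 ≠ 0 ∧ hm v0 b0 = 0 ∧ code b0 = 80 ∧ hm b0 v0 = 0 ∧
    ev 0 + ev 1 = v0 ∧ ev 2 + ev 3 = b0 ∧ omV v0 ≠ 0 := by decide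

theorem v0b0_ne : tv v0 ≠ tv b0 := by
  intro e
  obtain ⟨c, -, hc⟩ := tv_eq_tv v0b0.1 v0b0.2.2.1 v0b0.2.1 v0b0.2.2.2.1 e
  exact (by decide : ∀ c : D4, b0 ≠ scl c v0) c hc

theorem orthWords_ok : orthWords.all (fun p => validW p.2 && (apN (wordCols p.2) 5 == 5) &&
    lineN p.1 (apN (wordCols p.2) 80)) = true := by decide +kernel

theorem orth_cover : (List.range 256).all (fun n => qN n || (hN n 5 != 0) || lineN 5 n ||
    (orthWords.map (·.1)).contains n) = true := by decide +kernel

/-- Orthogonal pairs of points form one orbit, with the first vector prescribed. -/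
theorem exists_pair {a b : V4} (ha : q4 a = 0) (ha0 : a ≠ 0) (hb : q4 b = 0) (hb0 : b ≠ 0) (h : hm a b = 0)
    (hne : tv a ≠ tv b) : ∃ g ∈ TG, g v0 = a ∧ ∃ c, c ≠ 0 ∧ b = scl c (g b0) := by
  obtain ⟨g, hg, rfl⟩ := exists_moving ha ha0
  have hgi : IsIso g := TG_le hg
  set b' := g.symm b with hb'
  have hbb : g b' = b := g.apply_symm_apply b
  have hq : q4 b' = 0 := by rw [← hgi.quad, hbb, hb]
  have h' : hm b' v0 = 0 := by rw [← hgi.hm, hbb, hm_symm, h]; rfl
  have hcov := forall_of_codes orth_cover b'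
  rw [(q4_eq_zero_iff _).1 hq, show hN (code b') 5 = 0 from by
      have := hN_of_hm h'; rwa [code_v0] at this, bne_self_eq_false, Bool.false_or, Bool.false_or,
    Bool.or_eq_true] at hcov
  rcases hcov with e | e
  · exfalso
    rw [← code_v0] at e
    obtain ⟨c, hc⟩ := (lineN_iff _ _).1 e
    apply hne
    rw [← hbb, hc, hgi.scl]
    refine (tv_scl (hm_self_zero ha) fun e0 => hb0 ?_).symm
    rw [← hbb, hc, e0, scl_zero, map_zero]
  · obtain ⟨w, hw⟩ := word_of_cover (List.contains_iff_mem.1 e)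
    have hok := List.all_eq_true.1 orthWords_ok _ hw
    simp only [Bool.and_eq_true, beq_iff_eq] at hok
    obtain ⟨⟨hv, h5⟩, hl⟩ := hok
    rw [← v0b0.2.2.2.2.2.1, ← code_wordE hv, lineN_iff] at hl
    obtain ⟨c, hc⟩ := hl
    refine ⟨g * wordE w, mul_mem hg (wordE_mem hv), ?_, ?_⟩
    · show g (wordE w v0) = g v0
      congr 1
      exact code_injective (by rw [code_wordE hv, code_v0, h5])
    · have hc0 : c ≠ 0 := fun e0 => v0b0.2.2.2.1 ((wordE w).injective (by
        rw [hc, e0, scl_zero, map_zero]))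
      obtain ⟨d, hd⟩ := cj_fm c hc0
      refine ⟨d, fun e0 => ?_, ?_⟩
      · rw [e0] at hd
        exact absurd hd ((by decide : ∀ x : D4, fm 0 x ≠ (1, 0)) c)
      · show b = scl d (g (wordE w b0))
        rw [hc, hgi.scl, scl_scl, hd, scl_one, hbb]

theorem stab_ok : stabWords.all (fun w => validW w && (apN (wordCols w) 5 == 5)) = true := by decide +kernel

/-- The check of a closure row. -/
def rowOk (e : (ℕ × ℕ × ℕ × ℕ) × ℕ) : Bool :=
  let y := e.1.1
  let x := (closureRows.getD e.1.2.2.2 (0, 0, 0, 0)).1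
  let img := apN (wordCols (stabWords.getD e.1.2.2.1 [])) y
  y < 256 && decide (e.1.2.2.1 < 3) &&
    match e.1.2.1 with
    | 0 => y == scN 2 5
    | 1 => decide (e.1.2.2.2 < e.2) && (img == x)
    | 2 => decide (e.1.2.2.2 < e.2) && (y ^^^ img == x)
    | 3 => decide (e.1.2.2.2 < e.2) && (y ^^^ img ^^^ 5 == x)
    | _ => y ^^^ 5 == scN 2 5

theorem rows_ok : closureRows.zipIdx.all rowOk = true := by decide +kernel

theorem rows_cover : (List.range 256).all (fun n => n == 0 || n == 5 || (hN n 5).testBit 1 ||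
    (closureRows.map (·.1)).contains n) = true := by decide +kernel

theorem closure_std (W : AddSubgroup V4) (hv : v0 ∈ W)
    (hinv : ∀ g ∈ TG, g v0 = v0 → ∀ w ∈ W, g w ∈ W) {y : V4} (hy : y ∈ W) (hperp : bs4 y v0 = 0) (h0 : y ≠ 0)
    (h1 : y ≠ v0) : omV v0 ∈ W := by
  have hgen : ∀ i < 3, ∀ w ∈ W, wordE (stabWords.getD i []) w ∈ W := by
    intro i hi w hw
    have hl : i < stabWords.length := by rw [show stabWords.length = 3 by decide]; exact hi
    have hok := List.all_eq_true.1 stab_ok (stabWords.getD i []) (by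
      rw [List.getD_eq_getElem _ _ hl]; exact List.getElem_mem hl)
    simp only [Bool.and_eq_true, beq_iff_eq] at hok
    exact hinv _ (wordE_mem hok.1) (code_injective (by rw [code_wordE hok.1, code_v0, hok.2])) w hw
  have hcw : ∀ i < 3, ∀ w : V4, code (wordE (stabWords.getD i []) w) = apN (wordCols (stabWords.getD i [])) (code w) := by
    intro i hi w
    refine code_wordE ?_ w
    have : ∀ i < 3, validW (stabWords.getD i []) = true := by decide +kernel
    exact this i hi
  have key : ∀ k, k < closureRows.length → ∀ w ∈ W, code w = (closureRows.getD k (0, 0, 0, 0)).1 → omV v0 ∈ W := by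
    intro k
    induction k using Nat.strong_induction_on with
    | _ k ih =>
      intro hk w hw hwc
      have he := List.all_eq_true.1 rows_ok ((closureRows.getD k (0, 0, 0, 0)), k) (by
        rw [List.mem_zipIdx_iff_getElem?, List.getD_eq_getElem _ _ hk]
        exact List.getElem?_eq_getElem hk)
      simp only [rowOk, Bool.and_eq_true, decide_eq_true_eq] at he
      obtain ⟨⟨-, hi⟩, he⟩ := he
      rw [← hwc, ← hcw _ hi] at he
      split at he
      · rw [beq_iff_eq, ← code_v0, ← code_omV] at he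
        exact code_injective he ▸ hw
      · simp only [Bool.and_eq_true, decide_eq_true_eq, beq_iff_eq] at he
        exact ih _ he.1 (by omega) _ (hgen _ hi w hw) he.2
      · simp only [Bool.and_eq_true, decide_eq_true_eq, beq_iff_eq] at he
        exact ih _ he.1 (by omega) _ (add_mem hw (hgen _ hi w hw)) (by rw [code_add, he.2])
      · simp only [Bool.and_eq_true, decide_eq_true_eq, beq_iff_eq] at he
        exact ih _ he.1 (by omega) _ (add_mem (add_mem hw (hgen _ hi w hw)) hv)
          (by rw [code_add, code_add, code_v0, he.2])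
      · rw [beq_iff_eq, ← code_v0, ← code_add, ← code_omV] at he
        exact code_injective he ▸ add_mem hw hv
  have hc := forall_of_codes rows_cover y
  simp only [Bool.or_eq_true, beq_iff_eq] at hc
  rcases hc with ((e | e) | e) | e
  · exact absurd (code_injective (e.trans code_zero.symm)) h0
  · exact absurd (code_injective (e.trans code_v0.symm)) h1
  · exfalso
    rw [← code_v0, ← cd_hm, (by decide : ∀ d : D4, (cd d).testBit 1 = (d.2 == 1)) _, ← bs4_eq, hperp] at e
    exact absurd e (by decide)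
  · obtain ⟨r, hr, hre⟩ := List.mem_map.1 (List.contains_iff_mem.1 e)
    obtain ⟨k, hk, rfl⟩ := List.getElem_of_mem hr
    exact key k hk y hy (by rw [List.getD_eq_getElem _ _ hk]; exact hre.symm)

/-- A subgroup invariant under the stabiliser of a singular vector and not trivial there contains its multiples. -/
theorem closure_line {K : Subgroup (V4 ≃ₗ[ZMod 2] V4)} (hK : Model4 K) {v : V4} (hq : q4 v = 0) (hv0 : v ≠ 0)
    (W : AddSubgroup V4) (hv : v ∈ W) (hinv : ∀ g ∈ K, g v = v → ∀ w ∈ W, g w ∈ W) {y : V4} (hy : y ∈ W)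
    (hperp : bs4 y v = 0) (h0 : y ≠ 0) (h1 : y ≠ v) : omV v ∈ W := by
  obtain ⟨m, hm', rfl⟩ := exists_moving hq hv0
  have hmi : IsIso m := TG_le hm'
  have hmK := TG_le_of_model hK hm'
  have := closure_std (W.comap m.toAddEquiv.toAddMonoidHom) hv (fun g hg hgv w hw => ?_)
    (y := m.symm y) (show m (m.symm y) ∈ W by rw [m.apply_symm_apply]; exact hy) ?_ ?_ ?_
  · show omV (m v0) ∈ W
    rw [← hmi.lin]; exact this
  · show m (g w) ∈ W
    have := hinv (m * g * m⁻¹) (mul_mem (mul_mem hmK (TG_le_of_model hK hg)) (inv_mem hmK))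
      (by show m (g (m.symm (m v0))) = m v0; rw [m.symm_apply_apply, hgv]) (m w) hw
    rw [show (m * g * m⁻¹) (m w) = m (g (m.symm (m w))) from rfl, m.symm_apply_apply] at this
    exact this
  · rw [bs4_eq, ← hmi.hm, m.apply_symm_apply, ← bs4_eq]; exact hperp
  · intro e; exact h0 (by rw [← m.apply_symm_apply y, e, map_zero])
  · intro e; exact h1 (by rw [← m.apply_symm_apply y, e])

theorem torus_ok : torusWords.all (fun p => validW p.2 && (apN (wordCols p.2) 5 == scN 2 5) &&
    lineN p.1 (apN (wordCols p.2) p.1)) = true := by decide +kernel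

theorem torus_cover : (List.range 256).all (fun n => qN n || (hN n 5 != 0) || lineN 5 n ||
    (torusWords.map (·.1)).contains n) = true := by decide +kernel

/-- A scaling at a point fixing an orthogonal one. -/
theorem exists_torus {a b : V4} (ha : q4 a = 0) (ha0 : a ≠ 0) (hb : q4 b = 0) (hb0 : b ≠ 0) (h : hm a b = 0)
    (hne : tv a ≠ tv b) : ∃ θ ∈ TG, θ a = omV a ∧ θ * tv b * θ⁻¹ = tv b := by
  obtain ⟨g, hg, rfl⟩ := exists_moving ha ha0
  have hgi : IsIso g := TG_le hg
  set b' := g.symm b with hb'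
  have hbb : g b' = b := g.apply_symm_apply b
  have hq : q4 b' = 0 := by rw [← hgi.quad, hbb, hb]
  have h' : hm b' v0 = 0 := by rw [← hgi.hm, hbb, hm_symm, h]; rfl
  have hcov := forall_of_codes torus_cover b'
  rw [(q4_eq_zero_iff _).1 hq, show hN (code b') 5 = 0 from by
      have := hN_of_hm h'; rwa [code_v0] at this, bne_self_eq_false, Bool.false_or, Bool.false_or,
    Bool.or_eq_true] at hcov
  rcases hcov with e | e
  · exfalso
    rw [← code_v0] at e
    obtain ⟨c, hc⟩ := (lineN_iff _ _).1 e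
    apply hne
    rw [← hbb, hc, hgi.scl]
    refine (tv_scl (hm_self_zero ha) fun e0 => hb0 ?_).symm
    rw [← hbb, hc, e0, scl_zero, map_zero]
  · obtain ⟨w, hw⟩ := word_of_cover (List.contains_iff_mem.1 e)
    have hok := List.all_eq_true.1 torus_ok _ hw
    simp only [Bool.and_eq_true, beq_iff_eq] at hok
    obtain ⟨⟨hv, h5⟩, hl⟩ := hok
    rw [← code_wordE hv, lineN_iff] at hl
    obtain ⟨c, hc⟩ := hl
    have hwi : IsIso (wordE w) := wordE_iso w
    refine ⟨g * wordE w * g⁻¹, mul_mem (mul_mem hg (wordE_mem hv)) (inv_mem hg), ?_, ?_⟩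
    · show g (wordE w (g.symm (g v0))) = omV (g v0)
      rw [g.symm_apply_apply, ← hgi.lin]
      congr 1
      exact code_injective (by rw [code_wordE hv, code_omV, code_v0, h5])
    · rw [tv_conj (mul_mem (mul_mem (TG_le hg) (wordE_iso w)) (inv_mem (TG_le hg))) (hm_self_zero hb)]
      rw [show (g * wordE w * g⁻¹) b = g (wordE w b') from rfl, hc, hgi.scl, hbb]
      refine tv_scl (hm_self_zero hb) fun e0 => hb0 ?_
      have : wordE w b' = 0 := by rw [hc, e0, scl_zero]
      rw [← hbb, (wordE w).injective (this.trans (map_zero _).symm), map_zero]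

theorem common_ok : ∀ i < 45, ∀ j < 45, i = j ∨ (orthMasks.getD i 0).testBit j = true ∨
    (List.range 45).any (fun k => (List.range 45).any fun l => k != l &&
      (orthMasks.getD i 0 &&& orthMasks.getD j 0).testBit k &&
      (orthMasks.getD i 0 &&& orthMasks.getD j 0).testBit l) = true := by decide +kernel

/-- Two common neighbours of non-orthogonal vectors. -/
theorem exists_two_common {a b : V4} (ha : q4 a = 0) (ha0 : a ≠ 0) (hb : q4 b = 0) (hb0 : b ≠ 0) (h : hm a b ≠ 0) :
    ∃ e e', q4 e = 0 ∧ e ≠ 0 ∧ q4 e' = 0 ∧ e' ≠ 0 ∧ tv e ≠ tv e' ∧ hm a e = 0 ∧ hm b e = 0 ∧ hm a e' = 0 ∧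
      hm b e' = 0 ∧ tv a ≠ tv e ∧ tv b ≠ tv e ∧ tv a ≠ tv e' ∧ tv b ≠ tv e' := by
  obtain ⟨i, c, hc, rfl⟩ := exists_point ha ha0
  obtain ⟨j, d, hd, rfl⟩ := exists_point hb hb0
  have hi := ptV_q _ i.2
  have hj := ptV_q _ j.2
  rcases common_ok _ i.2 _ j.2 with e | e | e
  · exfalso
    apply h
    rw [Fin.ext e, hm_scl_left, hm_scl_right, hm_self_zero hj.1, fm_zero, fm_zero]
  · exfalso
    apply h
    rw [hm_scl_left, hm_scl_right, ((orthP_iff i j).1 e).2, fm_zero, fm_zero]
  · obtain ⟨k, hk, hk'⟩ := List.any_eq_true.1 e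
    obtain ⟨l, hl, hl'⟩ := List.any_eq_true.1 hk'
    simp only [Bool.and_eq_true, bne_iff_ne] at hl'
    obtain ⟨⟨hkl, hik⟩, hil⟩ := hl'
    set k' : Fin 45 := ⟨k, List.mem_range.1 hk⟩
    set l' : Fin 45 := ⟨l, List.mem_range.1 hl⟩
    obtain ⟨o1, o2⟩ := (orthP_and i j k').2 hik
    obtain ⟨o3, o4⟩ := (orthP_and i j l').2 hil
    obtain ⟨n1, p1⟩ := (orthP_iff _ _).1 o1
    obtain ⟨n2, p2⟩ := (orthP_iff _ _).1 o2
    obtain ⟨n3, p3⟩ := (orthP_iff _ _).1 o3
    obtain ⟨n4, p4⟩ := (orthP_iff _ _).1 o4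
    have eq : ∀ (x : Fin 45) (c : D4), c ≠ 0 → tv (scl c (ptV x)) = tvP x := fun x c hc =>
      tv_scl (hm_self_zero (ptV_q _ x.2).1) hc
    refine ⟨ptV k', ptV l', (ptV_q _ k'.2).1, (ptV_q _ k'.2).2, (ptV_q _ l'.2).1, (ptV_q _ l'.2).2,
      fun e' => hkl (congrArg Fin.val (tvP_inj (i := k') (j := l') e')), ?_, ?_, ?_, ?_, ?_, ?_, ?_, ?_⟩
    · rw [hm_scl_left, p1, fm_zero]
    · rw [hm_scl_left, p2, fm_zero]
    · rw [hm_scl_left, p3, fm_zero]
    · rw [hm_scl_left, p4, fm_zero]
    · rw [eq i c hc]; exact fun e' => n1 (tvP_inj e')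
    · rw [eq j d hd]; exact fun e' => n2 (tvP_inj e')
    · rw [eq i c hc]; exact fun e' => n3 (tvP_inj e')
    · rw [eq j d hd]; exact fun e' => n4 (tvP_inj e')

theorem sing40 : (((List.range 256).filter fun n => (hN n 5 == 0) && !qN n).length = 40 ∧
    ((List.range 256).filter fun n => hN n 5 == 0).length = 64) := by decide +kernel

/-- A subgroup of index at most two in the orthogonal of a vector has a singular vector off the line. -/
theorem exists_singular_off {v : V4} (hq : q4 v = 0) (hv : v ≠ 0) (W : AddSubgroup V4)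
    (hW : ∀ w ∈ W, hm w v = 0) (hcard : 32 ≤ Nat.card W) :
    ∃ w ∈ W, q4 w = 0 ∧ ¬ ∃ c, w = scl c v := by
  classical
  obtain ⟨m, hm', rfl⟩ := exists_moving hq hv
  have hmi : IsIso m := TG_le hm'
  set A : Finset ℕ := ((List.range 256).filter fun n => hN n 5 == 0).toFinset with hA
  set S : Finset ℕ := ((List.range 256).filter fun n => (hN n 5 == 0) && !qN n).toFinset with hS
  haveI : Fintype W := Fintype.ofFinite W
  set T : Finset ℕ := (Finset.univ : Finset W).image fun w => code (m.symm w.1) with hT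
  have hTA : T ⊆ A := by
    intro n hn
    obtain ⟨w, -, rfl⟩ := Finset.mem_image.1 hn
    rw [hA, List.mem_toFinset, List.mem_filter, List.mem_range]
    refine ⟨code_lt _, ?_⟩
    have h1 : hm (m.symm w.1) v0 = 0 := by
      rw [← hmi.hm, m.apply_symm_apply]; exact hW _ w.2
    have h2 := hN_of_hm h1
    rw [code_v0] at h2
    rw [h2]; rfl
  have hTc : 32 ≤ T.card := by
    rw [hT, Finset.card_image_of_injective _ (fun a b e => Subtype.ext (m.symm.injective (code_injective e))),
      Finset.card_univ, ← Nat.card_eq_fintype_card]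
    exact hcard
  have hSA : S ⊆ A := fun n hn => by
    rw [hS, List.mem_toFinset, List.mem_filter] at hn
    rw [hA, List.mem_toFinset, List.mem_filter]
    exact ⟨hn.1, (Bool.and_eq_true _ _ ▸ hn.2).1⟩
  have h1 := Finset.card_union_add_card_inter S T
  have h2 := Finset.card_le_card (Finset.union_subset hSA hTA)
  rw [hA, List.toFinset_card_of_nodup (List.nodup_range.filter _), sing40.2] at h2
  rw [hS, List.toFinset_card_of_nodup (List.nodup_range.filter _), sing40.1, ← hS] at h1
  by_contra hc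
  push Not at hc
  have h4 : (S ∩ T).card ≤ 4 := by
    refine (Finset.card_le_card (t := {0, scN 1 5, scN 2 5, scN 3 5}) fun n hn => ?_).trans Finset.card_le_four
    obtain ⟨hnS, hnT⟩ := Finset.mem_inter.1 hn
    obtain ⟨w, -, rfl⟩ := Finset.mem_image.1 hnT
    rw [hS, List.mem_toFinset, List.mem_filter, Bool.and_eq_true, Bool.not_eq_true'] at hnS
    obtain ⟨c, hcw⟩ := hc w.1 w.2 (by
      rw [← m.apply_symm_apply w.1, hmi.quad, q4_eq_zero_iff]; exact hnS.2.2)
    have : m.symm w.1 = scl c v0 := by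
      apply m.injective
      rw [m.apply_symm_apply, hmi.scl, hcw]
    rw [this, code_scl, code_v0]
    have key : ∀ c : D4, scN (cd c) 5 ∈ ({0, scN 1 5, scN 2 5, scN 3 5} : Finset ℕ) := by decide
    exact key c
  omega

/-- A transvection acting trivially on the orthogonal modulo the line is the one at the line. -/
theorem tv_rad {v e : V4} (hq : q4 v = 0) (hv : v ≠ 0) (he : q4 e = 0) (he0 : e ≠ 0)
    (h : ∀ x, hm x v = 0 → ∃ c, tv e x + x = scl c v) : tv e = tv v := by
  obtain ⟨m, hm', rfl⟩ := exists_moving hq hv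
  have hmi : IsIso m := TG_le hm'
  by_contra hne
  have key : (List.range 256).all (fun n => qN n || lineN 5 n || (List.range 256).any fun k =>
      (hN k 5 == 0) && (hN k n != 0)) = true := by decide +kernel
  have hk := forall_of_codes key (m.symm e)
  have hqe : q4 (m.symm e) = 0 := by rw [← hmi.quad, m.apply_symm_apply, he]
  rw [(q4_eq_zero_iff _).1 hqe, Bool.false_or, Bool.or_eq_true] at hk
  rcases hk with e' | e'
  · rw [← code_v0] at e'
    obtain ⟨c, hc⟩ := (lineN_iff _ _).1 e'
    have hec : e = scl c (m v0) := by rw [← hmi.scl, ← hc, m.apply_symm_apply]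
    exact hne (by rw [hec, tv_scl (hm_self_zero hq) (fun e0 => he0 (by rw [hec, e0, scl_zero]))])
  · obtain ⟨k, hk256, hk'⟩ := List.any_eq_true.1 e'
    simp only [Bool.and_eq_true, beq_iff_eq, bne_iff_ne] at hk'
    have hcd : code (dec k) = k := codes_ok k (List.mem_range.1 hk256)
    have h1 : hm (m (dec k)) (m v0) = 0 := by
      rw [hmi.hm]; exact cd_inj (by rw [cd_hm, hcd, code_v0, hk'.1, cd_zero])
    have h2 : hm (m (dec k)) e ≠ 0 := by
      rw [← m.apply_symm_apply e, hmi.hm]
      intro e0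
      exact hk'.2 (by rw [← hcd, ← cd_hm, e0, cd_zero])
    obtain ⟨c, hc⟩ := h _ h1
    rw [tv_apply (hm_self_zero he), add_right_comm, add_self_V4, zero_add] at hc
    obtain ⟨y, hy⟩ := cj_fm _ h2
    have hec : e = scl (fm y c) (m v0) := by rw [← scl_scl, ← hc, scl_scl, hy, scl_one]
    exact hne (by rw [hec, tv_scl (hm_self_zero hq) (fun e0 => he0 (by rw [hec, e0, scl_zero]))])

end CfsgLib.Recognition.USixTwo
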