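import Cfsg.Agent.Lib.Recognition.USixTwo.Tau

/-!
# Commuting conjugates always act as transvections

Suppose `w` acts at `z` as a product of two transvections. Then so does `z` at `w`, and among the conjugates
of `w` under `J` commuting with an element `b` of `J ∩ J'` one acts at `w` as a transvection; the description of
the intersection for that pair identifies `b` as a product which acts at `w` as `z` does, not as a transvection.
-/

set_option autoImplicit false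
set_option linter.unusedSectionVars false

namespace CfsgLib.Recognition.USixTwo

open CfsgLib.ThreeTransp.Extraspecial
open CfsgLib.Sporadic.LargeFischer (D4 om nzd)

theorem span_indep {a b : V4} (ha : q4 a = 0) (ha0 : a ≠ 0) (hb : q4 b = 0) (hb0 : b ≠ 0) (hne : tv a ≠ tv b)
    {c d : D4} (e : scl c a + scl d b = 0) : c = 0 ∧ d = 0 := by
  have hd : d = 0 := by
    by_contra hd
    obtain ⟨y, hy⟩ := cj_fm d hd
    have hb' : b = scl (fm y c) a := by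
      rw [← scl_scl, show scl c a = scl d b by
        calc scl c a = scl c a + (scl d b + scl d b) := by rw [add_self_V4, add_zero]
          _ = scl d b := by rw [← add_assoc, e, zero_add], scl_scl, hy, scl_one]
    exact hne ((tv_eq_iff ha hb ha0 hb0).2 ⟨_, fun e0 => hb0 (by rw [hb', e0, scl_zero]), hb'⟩)
  rw [hd, scl_zero, add_zero] at e
  exact ⟨scl_eq_zero ha0 e, hd⟩

theorem span_eq {a b : V4} (ha : q4 a = 0) (ha0 : a ≠ 0) (hb : q4 b = 0) (hb0 : b ≠ 0) (hne : tv a ≠ tv b)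
    {c d c' d' : D4} (e : scl c a + scl d b = scl c' a + scl d' b) : c = c' ∧ d = d' := by
  have h : scl (c + c') a + scl (d + d') b = 0 := by
    rw [add_scl, add_scl, add_add_add_comm, e, add_self_V4]
  obtain ⟨h1, h2⟩ := span_indep ha ha0 hb hb0 hne h
  exact ⟨(by decide : ∀ x y : D4, x + y = 0 → x = y) _ _ h1, (by decide : ∀ x y : D4, x + y = 0 → x = y) _ _ h2⟩

theorem uu_formula {a b : V4} (ha : q4 a = 0) (hb : q4 b = 0) (h : hm a b = 0) (x : V4) :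
    (tv a * tv b) x + x = scl (hm x a) a + scl (hm x b) b := by
  show tv a (tv b x) + x = _
  rw [tv_apply (hm_self_zero hb), map_add, tv_apply (hm_self_zero ha), tv_apply (hm_self_zero ha),
    show hm (scl (hm x b) b) a = 0 by rw [hm_scl_left, show hm b a = 0 by rw [hm_symm, h]; rfl]; exact fm_zero _, scl_zero, add_zero]
  calc x + scl (hm x a) a + scl (hm x b) b + x = scl (hm x a) a + scl (hm x b) b + (x + x) := by abel
    _ = _ := by rw [add_self_V4, add_zero]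

set_option synthInstance.maxSize 1024 in
/-- Two coefficient pairs in the orthogonal of a given one, spanning four with the zero outside it. -/
theorem exists_two_coeff : ∀ C D : D4, ¬ (C = 0 ∧ D = 0) → ∃ p r : D4 × D4,
    (fm (cj C) p.1 + fm (cj D) p.2).2 = 0 ∧ (fm (cj C) r.1 + fm (cj D) r.2).2 = 0 ∧ p ≠ 0 ∧ p ≠ (C, D) ∧
      r ≠ 0 ∧ r ≠ (C, D) ∧ p + r ≠ 0 ∧ p + r ≠ (C, D) := by decide +kernel

variable {X : Type*} [Group X] [Finite X] {z w : X} {J J' : Subgroup X} {π π' : X → V4}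
  {ψ : ↥(Subgroup.centralizer ({z} : Set X)) →* (V4 ≃ₗ[ZMod 2] V4)}
  {ψ' : ↥(Subgroup.centralizer ({w} : Set X)) →* (V4 ≃ₗ[ZMod 2] V4)}

namespace Couple

variable (P : Couple z w J J' π π' ψ ψ')
include P

theorem isConj_conj (j : X) : IsConj z (j * w * j⁻¹) := P.isConj.trans (isConj_iff.2 ⟨j, rfl⟩)

section UU

variable {a b : V4} (ha : q4 a = 0) (ha0 : a ≠ 0) (hb : q4 b = 0) (hb0 : b ≠ 0) (h : hm a b = 0)
  (hne : tv a ≠ tv b) (he : ψ (cz P.comm) = tv a * tv b)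
include ha ha0 hb hb0 h hne he

theorem π_cof_span {j : X} (hj : j ∈ J) :
    π (w * (j * w * j⁻¹)) = scl (hm (π j) a) a + scl (hm (π j) b) b := by
  rw [P.π_cof hj, he, uu_formula ha hb h]

theorem cof_sq {j : X} (hj : j ∈ J) : w * (j * w * j⁻¹) * (w * (j * w * j⁻¹)) = 1 :=
  (P.hz.q_iff _ (P.cof_mem hj)).1 (by rw [P.π_cof_span ha ha0 hb hb0 h hne he hj]; exact span_singular ha hb h _ _)

theorem conj_w_comm {j : X} (hj : j ∈ J) : j * w * j⁻¹ * w = w * (j * w * j⁻¹) := by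
  have e := inv_eq_of_mul_eq_one_right (P.cof_sq ha ha0 hb hb0 h hne he hj)
  rw [mul_inv_rev, P.winv, inv_eq_of_mul_eq_one_right (P.conj_sq hj)] at e
  exact e

theorem cof_cent {j : X} (hj : j ∈ J) : w * (j * w * j⁻¹) * w = w * (w * (j * w * j⁻¹)) := by
  rw [mul_assoc, P.conj_w_comm ha ha0 hb hb0 h hne he hj]

/-- Everything over the span centralises `w`. -/
theorem span_cent {x : X} (hx : x ∈ J) (hxa : hm (π x) a = 0) (hxb : hm (π x) b = 0) : x * w = w * x := by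
  obtain ⟨C, D, hCD⟩ := perp_span ha ha0 hb hb0 h hne hxa hxb
  obtain ⟨y, hy⟩ := uu_surj ha ha0 hb hb0 h hne C D
  obtain ⟨j, hj, rfl⟩ := P.hz.π_surj y
  have hπ : π (w * (j * w * j⁻¹)) = π x := by rw [P.π_cof hj, he, hy, hCD]
  rcases (P.hz.π_eq_iff (P.cof_mem hj) hx).1 hπ with e | e
  · rw [e]; exact P.cof_cent ha ha0 hb hb0 h hne he hj
  · rw [e, mul_assoc, ← P.comm, ← mul_assoc, P.cof_cent ha ha0 hb hb0 h hne he hj, mul_assoc]

theorem uu_cent_card : 32 ≤ Nat.card ↥(J ⊓ Subgroup.centralizer ({w} : Set X)) := by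
  classical
  set K := (J ⊓ Subgroup.centralizer ({w} : Set X)).subgroupOf J with hK
  let f : ↥J → D4 × D4 := fun j => (hm (π (j : X)) a, hm (π (j : X)) b)
  have hf : ∀ x y : ↥J, f x = f y → x⁻¹ * y ∈ K := by
    intro x y e
    obtain ⟨e1, e2⟩ : hm (π (x : X)) a = hm (π (y : X)) a ∧ hm (π (x : X)) b = hm (π (y : X)) b :=
      ⟨congrArg Prod.fst e, congrArg Prod.snd e⟩
    rw [hK, Subgroup.mem_subgroupOf, Subgroup.mem_inf, Subgroup.mem_centralizer_singleton_iff, Subgroup.coe_mul,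
      Subgroup.coe_inv]
    refine ⟨mul_mem (inv_mem x.2) y.2, P.span_cent ha ha0 hb hb0 h hne he (mul_mem (inv_mem x.2) y.2) ?_ ?_⟩
    · rw [P.hz.π_mul _ (inv_mem x.2) _ y.2, P.hz.π_inv x.2, hm_add_left, e1]
      exact (by decide : ∀ x : D4, x + x = 0) _
    · rw [P.hz.π_mul _ (inv_mem x.2) _ y.2, P.hz.π_inv x.2, hm_add_left, e2]
      exact (by decide : ∀ x : D4, x + x = 0) _
  let g : ↥J ⧸ K → D4 × D4 := fun q => f q.out
  have hg : Function.Injective g := fun p q e => by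
    rw [← QuotientGroup.out_eq' p, ← QuotientGroup.out_eq' q]
    exact QuotientGroup.eq.2 (hf _ _ e)
  have hle := Nat.card_le_card_of_injective g hg
  rw [Nat.card_eq_fintype_card (α := D4 × D4), show Fintype.card (D4 × D4) = 16 by decide] at hle
  have hmul := K.card_mul_index
  rw [Subgroup.index, Nat.card_congr (Subgroup.subgroupOfEquivOfLe inf_le_left).toEquiv, P.hz.card_J] at hmul
  nlinarith

/-- The two transvection case excludes this. -/
theorem uu_false : False := by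
  classical
  rcases P.symm.psi_cases with ⟨u, hu, hu0, hue⟩ | ⟨a', b', ha', ha0', hb', hb0', h', hne', he'⟩
  · obtain ⟨v, hv, hv0, hve⟩ := P.symm.tau_symm hu hu0 hue
    exact pair_ne_tv ha ha0 hb hb0 h hne hv hv0 (he.symm.trans hve)
  set u' := tv a' * tv b' with hu'
  have hfix := P.symm.plane_fix ha' ha0' hb' hb0' h' hne' he'
  have h16 := plane_card ha' ha0' hb' hb0' h' hne' P.actOn.range
    (fun p hp => ⟨P.hw.model.le (P.actOn_le hp), hfix p hp⟩)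
  have h32 := P.uu_cent_card ha ha0 hb hb0 h hne he
  -- an element of both groups
  obtain ⟨β, hβ, hβ', hβ1⟩ : ∃ β ∈ J, β ∈ J' ∧ β ≠ 1 := by
    by_contra hc
    push Not at hc
    have hker : Nat.card P.actOn.ker = 1 := by
      rw [Subgroup.card_eq_one, eq_bot_iff]
      intro k hk
      rw [Subgroup.mem_bot]
      exact Subtype.ext (hc _ (Subgroup.mem_inf.1 k.2).1 ((P.hw.ker _).1 hk))
    have hmul := P.actOn.ker.card_mul_index
    rw [Subgroup.index_ker, hker] at hmul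
    omega
  have hβz : β ≠ z := fun e => P.not_mem' (e ▸ hβ')
  have hβfix := P.meet_fixed hβ hβ'
  rw [he, uu_fixed ha ha0 hb hb0 hne] at hβfix
  obtain ⟨C, D, hCD⟩ := perp_span ha ha0 hb hb0 h hne hβfix.1 hβfix.2
  have hπβ : π β ≠ 0 := fun e => ((P.hz.π_ker β hβ).1 e).elim hβ1 hβz
  have hCD0 : ¬ (C = 0 ∧ D = 0) := fun e => hπβ (by rw [hCD, e.1, e.2, scl_zero, scl_zero, add_zero])
  obtain ⟨y₀, hy₀⟩ := uu_surj ha ha0 hb hb0 h hne C D
  obtain ⟨j₀, hj₀, rfl⟩ := P.hz.π_surj y₀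
  have hc₀ : w * (j₀ * w * j₀⁻¹) = β * z := by
    rcases (P.hz.π_eq_iff hβ (P.cof_mem hj₀)).1 (by rw [P.π_cof hj₀, he, hy₀, hCD]) with e | e
    · exfalso
      apply hβ1
      rw [← e, P.conj_not_mem hj₀ ((Subgroup.mul_mem_cancel_left _ P.hw.extra.z_mem).1 (e ▸ hβ')), P.ww]
    · exact e
  have hj₀β : j₀ * β = β * j₀ := by
    have hcoef := P.π_cof_span ha ha0 hb hb0 h hne he hj₀
    rw [hc₀, P.hz.π_mul_z hβ, hCD] at hcoef
    obtain ⟨eC, eD⟩ := span_eq ha ha0 hb hb0 hne hcoef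
    refine (P.hz.comm_iff hj₀ hβ).2 ?_
    rw [hCD, bs4_eq, hm_add_right, hm_scl_right, hm_scl_right, ← eC, ← eD]
    exact (by decide : ∀ c d : D4, (fm (cj c) c + fm (cj d) d).2 = 0) _ _
  let ρ : ↥J → (V4 ≃ₗ[ZMod 2] V4) := fun j => ψ' ⟨w * ((j : X) * w * (j : X)⁻¹),
    Subgroup.mem_centralizer_singleton_iff.2 (P.cof_cent ha ha0 hb hb0 h hne he j.2)⟩
  have hρP : ∀ j, ρ j ∈ P.actOn.range := fun j => ⟨⟨_, Subgroup.mem_inf.2 ⟨P.cof_mem j.2,
    Subgroup.mem_centralizer_singleton_iff.2 (P.cof_cent ha ha0 hb hb0 h hne he j.2)⟩⟩, rfl⟩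
  have hψz : ψ' (cz P.symm.comm) = u' := he'
  have hψβ : ψ' ⟨β, P.hw.le_cent hβ'⟩ = 1 := (P.hw.ker _).2 hβ'
  let T : ↥J → Prop := fun j => (j : X) * β = β * (j : X)
  have hcof₀ : ∀ j : ↥J, T j → w * (((j : X) * j₀) * w * ((j : X) * j₀)⁻¹) =
      w * ((j : X) * w * (j : X)⁻¹) * (β * z) := by
    intro j hj
    rw [P.cof_mul, hc₀, show (j : X) * (β * z) * (j : X)⁻¹ = β * z by
      rw [← mul_assoc, hj, mul_assoc β, P.jcomm j.2, ← mul_assoc, mul_inv_cancel_right]]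
  have hT₀ : ∀ j : ↥J, T j → T (j * ⟨j₀, hj₀⟩) := fun j hj => by
    show (j : X) * j₀ * β = β * ((j : X) * j₀)
    rw [mul_assoc, hj₀β, ← mul_assoc, hj, mul_assoc]
  have hρ₀ : ∀ j : ↥J, T j → ρ (j * ⟨j₀, hj₀⟩) = ρ j * u' := by
    intro j hj
    rw [← hψz, ← one_mul (ψ' (cz P.symm.comm)), ← hψβ]
    simp only [ρ, ← map_mul]
    congr 1
    refine Subtype.ext ?_
    show w * (((j : X) * j₀) * w * ((j : X) * j₀)⁻¹) = w * ((j : X) * w * (j : X)⁻¹) * (β * z)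
    exact hcof₀ j hj
  -- the good elements avoid the centre of the plane group
  have hbad : ∀ j : ↥J, T j → ρ j = 1 ∨ ρ j = u' →
      π (w * ((j : X) * w * (j : X)⁻¹)) = 0 ∨ π (w * ((j : X) * w * (j : X)⁻¹)) = π β := by
    intro j hj hρ
    have hcm := P.cof_mem j.2
    rcases hρ with e | e
    · left
      have hm' := (P.hw.ker _).1 e
      rw [P.conj_not_mem j.2 ((Subgroup.mul_mem_cancel_left _ P.hw.extra.z_mem).1 hm'), P.ww, P.hz.π_one]
    · right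
      have hm' : w * ((j : X) * w * (j : X)⁻¹) * z ∈ J' := by
        refine (P.hw.ker (⟨_, Subgroup.mem_centralizer_singleton_iff.2 (P.cof_cent ha ha0 hb hb0 h hne he j.2)⟩ *
          cz P.symm.comm)).1 ?_
        rw [map_mul, hψz]
        show ρ j * u' = 1
        rw [e, ← hψz, P.symm.psi_sq]
      have hjj : ((j : X) * j₀) * w * ((j : X) * j₀)⁻¹ = w := by
        refine P.conj_not_mem (mul_mem j.2 hj₀) ((Subgroup.mul_mem_cancel_left _ P.hw.extra.z_mem).1 ?_)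
        rw [hcof₀ j hj, ← P.hz.extra.z_comm hβ, ← mul_assoc]
        exact mul_mem hm' hβ'
      have h1 := hcof₀ j hj
      rw [hjj, P.ww] at h1
      rw [eq_inv_of_mul_eq_one_left h1.symm, P.hz.π_inv (mul_mem hβ P.hz.extra.z_mem), P.hz.π_mul_z hβ]
  obtain ⟨p, r, hp, hr, hp0, hp1, hr0, hr1, hpr0, hpr1⟩ := exists_two_coeff C D hCD0
  have hpick : ∀ c : D4 × D4, (fm (cj C) c.1 + fm (cj D) c.2).2 = 0 → ∃ j : ↥J, T j ∧
      π (w * ((j : X) * w * (j : X)⁻¹)) = scl c.1 a + scl c.2 b := by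
    intro c hc
    obtain ⟨y, hy⟩ := uu_surj ha ha0 hb hb0 h hne c.1 c.2
    obtain ⟨j, hj, rfl⟩ := P.hz.π_surj y
    refine ⟨⟨j, hj⟩, (P.hz.comm_iff hj hβ).2 ?_, by rw [P.π_cof hj, he, hy]⟩
    rw [uu_formula ha hb h] at hy
    obtain ⟨eC, eD⟩ := span_eq ha ha0 hb hb0 hne hy
    rw [hCD, bs4_eq, hm_add_right, hm_scl_right, hm_scl_right, eC, eD]
    exact hc
  have hgood : ∀ (j : ↥J) (c : D4 × D4), T j → π (w * ((j : X) * w * (j : X)⁻¹)) = scl c.1 a + scl c.2 b →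
      c ≠ 0 → c ≠ (C, D) → ρ j ≠ 1 ∧ ρ j ≠ u' := by
    intro j c hj hπ h0 h1
    refine ⟨fun e => ?_, fun e => ?_⟩ <;>
    · rcases hbad j hj (by simp [e]) with x | x
      · rw [hπ] at x
        obtain ⟨x1, x2⟩ := span_indep ha ha0 hb hb0 hne x
        exact h0 (Prod.ext x1 x2)
      · rw [hπ, hCD] at x
        obtain ⟨x1, x2⟩ := span_eq ha ha0 hb hb0 hne x
        exact h1 (Prod.ext x1 x2)
  obtain ⟨j₁, t₁, π₁⟩ := hpick p hp
  obtain ⟨j₂, t₂, π₂⟩ := hpick r hr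
  have t₃ : T (j₁ * j₂) := by
    show (j₁ : X) * (j₂ : X) * β = β * ((j₁ : X) * (j₂ : X))
    rw [mul_assoc, t₂, ← mul_assoc, t₁, mul_assoc]
  have π₃ : π (w * (((j₁ * j₂ : ↥J) : X) * w * ((j₁ * j₂ : ↥J) : X)⁻¹)) = scl (p + r).1 a + scl (p + r).2 b := by
    rw [P.π_cof_span ha ha0 hb hb0 h hne he j₁.2] at π₁
    rw [P.π_cof_span ha ha0 hb hb0 h hne he j₂.2] at π₂
    rw [P.π_cof_span ha ha0 hb hb0 h hne he (j₁ * j₂).2, Subgroup.coe_mul, P.hz.π_mul _ j₁.2 _ j₂.2, hm_add_left,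
      hm_add_left, add_scl, add_scl, add_add_add_comm, π₁, π₂, Prod.fst_add, Prod.snd_add, add_scl, add_scl,
      add_add_add_comm]
  have hρ₃ : ρ (j₁ * j₂) = ρ j₁ * ρ j₂ ∨ ρ (j₁ * j₂) = ρ j₁ * ρ j₂ * u' := by
    rcases P.hz.extra.conj_cases (P.cof_mem j₂.2) j₁.2 with e | e
    · left
      simp only [ρ, ← map_mul]
      congr 1
      refine Subtype.ext ?_
      show w * (((j₁ : X) * (j₂ : X)) * w * ((j₁ : X) * (j₂ : X))⁻¹) = _
      rw [P.cof_mul, e]; rfl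
    · right
      rw [← hψz]
      simp only [ρ, ← map_mul]
      congr 1
      refine Subtype.ext ?_
      show w * (((j₁ : X) * (j₂ : X)) * w * ((j₁ : X) * (j₂ : X))⁻¹) = _
      rw [P.cof_mul, e, ← mul_assoc]; rfl
  have g₁ := hgood j₁ p t₁ π₁ hp0 hp1
  have g₂ := hgood j₂ r t₂ π₂ hr0 hr1
  have g₃ := hgood _ (p + r) t₃ π₃ hpr0 hpr1
  have huu : u' * u' = 1 := by rw [← hψz]; exact P.symm.psi_sq
  have g₃' : ρ j₁ * ρ j₂ ≠ 1 ∧ ρ j₁ * ρ j₂ ≠ u' := by
    rcases hρ₃ with e | e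
    · exact e ▸ g₃
    · exact ⟨fun x => g₃.2 (by rw [e, x, one_mul]), fun x => g₃.1 (by rw [e, x, huu])⟩
  have isoρ : ∀ j, IsIso (ρ j) := fun j => P.hw.model.le (P.actOn_le (hρP j))
  obtain ⟨ε, hε, hε0, hcase⟩ := plane_line ha' ha0' hb' hb0' h' hne' (isoρ j₁) (isoρ j₂) (hfix _ (hρP j₁)).1
    (hfix _ (hρP j₁)).2 (hfix _ (hρP j₂)).1 (hfix _ (hρP j₂)).2 g₁ g₂ g₃'
  obtain ⟨j, tj, hjε⟩ : ∃ j, T j ∧ ρ j = tv ε := by
    rcases hcase with e | e | e | e | e | e <;> rw [e]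
    · exact ⟨_, t₁, rfl⟩
    · exact ⟨_, hT₀ _ t₁, hρ₀ _ t₁⟩
    · exact ⟨_, t₂, rfl⟩
    · exact ⟨_, hT₀ _ t₂, hρ₀ _ t₂⟩
    · rcases hρ₃ with x | x
      · exact ⟨_, t₃, x⟩
      · exact ⟨_, hT₀ _ t₃, by rw [hρ₀ _ t₃, x, mul_assoc, huu, mul_one]⟩
    · rcases hρ₃ with x | x
      · exact ⟨_, hT₀ _ t₃, by rw [hρ₀ _ t₃, x]⟩
      · exact ⟨_, t₃, x⟩
  have hne'' : (j : X) * w * (j : X)⁻¹ ≠ w := by
    intro e
    apply tv_ne_one hε hε0
    rw [← hjε, ← map_one ψ']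
    exact congrArg ψ' (Subtype.ext (by show w * ((j : X) * w * (j : X)⁻¹) = 1; rw [e, P.ww]))
  have hcw := P.conj_w_comm ha ha0 hb hb0 h hne he j.2
  have P'' : Couple w ((j : X) * w * (j : X)⁻¹) J' (J'.map (MulAut.conj (j : X)).toMonoidHom) π'
      (fun x => π' ((j : X)⁻¹ * x * (j : X))) ψ' (ψ'.comp (centConj w (j : X))) :=
    ⟨P.hw, P.hw.conj (j : X), ⟨_, rfl, rfl⟩, hcw, hne''⟩
  have he'' : ψ' (cz P''.comm) = tv ε := by
    rw [← hjε, show cz P''.comm = cz (rfl : w * w = w * w) * ⟨w * ((j : X) * w * (j : X)⁻¹),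
      Subgroup.mem_centralizer_singleton_iff.2 (P.cof_cent ha ha0 hb hb0 h hne he j.2)⟩ from Subtype.ext (by
        show (j : X) * w * (j : X)⁻¹ = w * (w * ((j : X) * w * (j : X)⁻¹))
        rw [← mul_assoc, P.ww, one_mul]), map_mul, (P.hw.ker (cz rfl)).2 P.hw.extra.z_mem, one_mul]
  rcases P''.meet_cases hε hε0 he'' hβ' (mem_map_conj.2 (by rw [mul_assoc, ← tj, inv_mul_cancel_left]; exact hβ'))
    with e | ⟨t, -, e⟩
  · exact hβ1 e
  have hcw' : (w * ((j : X) * w * (j : X)⁻¹))⁻¹ * β = t * ((j : X) * w * (j : X)⁻¹) * t⁻¹ := by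
    rw [e]; group
  have hz' := P.hz.eq_of_isConj (hcw' ▸ mul_mem (inv_mem (P.cof_mem j.2)) hβ)
    ((P.isConj_conj (j : X)).trans (isConj_iff.2 ⟨t, rfl⟩))
  rw [← hcw', inv_mul_eq_iff_eq_mul] at hz'
  apply pair_ne_tv ha' ha0' hb' hb0' h' hne' hε hε0
  rw [← hjε]
  show u' = ρ j
  rw [← one_mul u', ← hψz, ← hψβ]
  simp only [ρ, ← map_mul]
  congr 1
  refine Subtype.ext ?_
  show β * z = w * ((j : X) * w * (j : X)⁻¹)
  rw [hz', mul_assoc, P.zz, mul_one]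

end UU

/-- Commuting conjugates act as transvections. -/
theorem tau : ∃ v, q4 v = 0 ∧ v ≠ 0 ∧ ψ (cz P.comm) = tv v := by
  rcases P.psi_cases with h | ⟨a, b, ha, ha0, hb, hb0, h, hne, e⟩
  · exact h
  · exact (P.uu_false ha ha0 hb hb0 h hne e).elim

end Couple

end CfsgLib.Recognition.USixTwo
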