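import Cfsg.Agent.Lib.Recognition.USixTwo.LocalFacts

/-!
# Products of two orthogonal transvections, their planes and their centralisers
-/

set_option autoImplicit false
set_option maxRecDepth 100000

namespace CfsgLib.Recognition.USixTwo

open CfsgLib.Sporadic.LargeFischer (D4 om nzd)

/-- The vectors orthogonal to two orthogonal independent isotropic vectors are their combinations. -/
theorem perp_span {a b x : V4} (ha : q4 a = 0) (ha0 : a ≠ 0) (hb : q4 b = 0) (hb0 : b ≠ 0) (h : hm a b = 0)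
    (hne : tv a ≠ tv b) (xa : hm x a = 0) (xb : hm x b = 0) : ∃ c d, x = scl c a + scl d b := by
  obtain ⟨g, hg, rfl, l, hl, rfl⟩ := exists_pair ha ha0 hb hb0 h hne
  have hgi : IsIso g := TG_le hg
  have key : (List.range 256).all (fun n => hN n 5 != 0 || hN n 80 != 0 ||
      (List.range 4).any fun c => (List.range 4).any fun d => n == scN c 5 ^^^ scN d 80) = true := by
    decide +kernel
  have h1 : hm (g.symm x) v0 = 0 := by rw [← hgi.hm, g.apply_symm_apply]; exact xa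
  have h2 : hm (g.symm x) b0 = 0 := by
    rw [hm_scl_right, ← g.apply_symm_apply x, hgi.hm] at xb
    exact (by decide : ∀ l z : D4, l ≠ 0 → fm (cj l) z = 0 → z = 0) _ _ hl xb
  have e1 := hN_of_hm h1
  have e2 := hN_of_hm h2
  rw [code_v0] at e1
  rw [v0b0.2.2.2.2.2.1] at e2
  have hk := forall_of_codes key (g.symm x)
  rw [e1, e2, bne_self_eq_false, Bool.false_or, Bool.false_or] at hk
  obtain ⟨c, hc, hk'⟩ := List.any_eq_true.1 hk
  obtain ⟨d, hd, hcd⟩ := List.any_eq_true.1 hk'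
  obtain ⟨y, hy⟩ := cj_fm l hl
  refine ⟨dd c, fm (dd d) y, ?_⟩
  have : g.symm x = scl (dd c) v0 + scl (dd d) b0 := code_injective (by
    rw [code_add, code_scl, code_scl, cd_dd c (List.mem_range.1 hc), cd_dd d (List.mem_range.1 hd), code_v0,
      v0b0.2.2.2.2.2.1]
    exact beq_iff_eq.1 hcd)
  rw [scl_scl, show fm (fm (dd d) y) l = fm (dd d) (fm y l) from
    (by decide : ∀ a b c : D4, fm (fm a b) c = fm a (fm b c)) _ _ _, hy,
    show fm (dd d) (1, 0) = dd d from (by decide : ∀ a : D4, fm a (1, 0) = a) _, ← g.apply_symm_apply x, this,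
    map_add, hgi.scl, hgi.scl]

/-- The product of two orthogonal transvections fixes exactly the orthogonal of their span. -/
theorem uu_fixed {a b x : V4} (ha : q4 a = 0) (ha0 : a ≠ 0) (hb : q4 b = 0) (hb0 : b ≠ 0) (hne : tv a ≠ tv b) :
    (tv a * tv b) x = x ↔ hm x a = 0 ∧ hm x b = 0 := by
  refine ⟨tv_pair_fixed ha hb ha0 hb0 hne, fun ⟨e1, e2⟩ => ?_⟩
  show tv a (tv b x) = x
  rw [(tv_fixed hb hb0).2 e2, (tv_fixed ha ha0).2 e1]

/-- The span of two orthogonal isotropic vectors is singular. -/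
theorem span_singular {a b : V4} (ha : q4 a = 0) (hb : q4 b = 0) (h : hm a b = 0) (c d : D4) :
    q4 (scl c a + scl d b) = 0 := by
  rw [q4_add, q4_scl ha, q4_scl hb, hm_scl_left, hm_scl_right, h, fm_zero, fm_zero, add_zero]; rfl

/-! ### The elements fixing the standard plane pointwise -/

/-- The code of the image of the first or third unit vector. -/
def pCands (t : ℕ) : List ℕ := (List.range 256).filter fun n => qN n && (hN n t == 1) && (hN n (if t == 5 then 80 else 5) == 0)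

/-- The columns of an isometry fixing the standard plane with given images. -/
def pCols (m k : ℕ) : List ℕ := [m, scN 2 m, m ^^^ 5, scN 2 (m ^^^ 5), k, scN 2 k, k ^^^ 80, scN 2 (k ^^^ 80)]

theorem plane_ok : (pCands 5).all (fun m => (pCands 80).all fun k => hN m k != 0 || planeCols.contains (pCols m k)) =
    true := by decide +kernel

theorem plane_props : planeCols.length = 16 ∧
    planeCols.all (fun p => planeCols.all fun p' => mulCols p p' == mulCols p' p) = true ∧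
    (planeCols.all fun p => planeCols.all fun p' =>
      p == idCols || p == mulCols (wordCols []) (idCols.map fun n => code (tvFun v0 (tvFun b0 (dec n)))) ||
      p' == idCols || p' == idCols.map (fun n => code (tvFun v0 (tvFun b0 (dec n)))) ||
      mulCols p p' == idCols || mulCols p p' == idCols.map (fun n => code (tvFun v0 (tvFun b0 (dec n)))) ||
      ([p, p', mulCols p p'].any fun q => tvCols.contains q ||
        tvCols.contains (mulCols q (idCols.map fun n => code (tvFun v0 (tvFun b0 (dec n))))))) = true := by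
  decide +kernel

theorem cols_u0 : cols (tv v0 * tv b0) = idCols.map fun n => code (tvFun v0 (tvFun b0 (dec n))) := by
  rw [cols]
  refine List.map_congr_left fun n _ => ?_
  show code (tv v0 (tv b0 (dec n))) = _
  rw [tv_apply (hm_self_zero v0b0.2.2.1), tv_apply v0_hm]; rfl

theorem plane_cols {g : V4 ≃ₗ[ZMod 2] V4} (hg : IsIso g) (h1 : g v0 = v0) (h2 : g b0 = b0) : cols g ∈ planeCols := by
  obtain ⟨-, -, -, -, e0, e1, e2, e3⟩ := unit_facts
  have f1 : g (ev 1) = g (ev 0) + v0 := by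
    rw [show ev 1 = ev 0 + v0 by decide, map_add, h1]
  have f3 : g (ev 3) = g (ev 2) + b0 := by
    rw [show ev 3 = ev 2 + b0 by decide, map_add, h2]
  have hc : cols g = pCols (code (g (ev 0))) (code (g (ev 2))) := by
    rw [idCols_split g hg, f1, f3, code_add, code_add, code_v0, v0b0.2.2.2.2.2.1]; rfl
  have g0 : ∀ i, qN (code (g (ev i))) = true := fun i => qN_of_q4 (by rw [hg.quad, q_ev])
  have gh : ∀ i w, g w = w → hN (code (g (ev i))) (code w) = cd (hm (ev i) w) := fun i w hw => by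
    rw [← cd_hm]; conv_lhs => rw [← hw]
    rw [hg.hm]
  have hd : cd (hm (ev 0) v0) = 1 ∧ cd (hm (ev 0) b0) = 0 ∧ cd (hm (ev 2) b0) = 1 ∧ cd (hm (ev 2) v0) = 0 := by decide
  have m1 : code (g (ev 0)) ∈ pCands 5 := by
    refine List.mem_filter.2 ⟨List.mem_range.2 (code_lt _), ?_⟩
    have a1 := gh 0 v0 h1
    have a2 := gh 0 b0 h2
    rw [code_v0, hd.1] at a1
    rw [v0b0.2.2.2.2.2.1, hd.2.1] at a2
    rw [g0, a1, if_pos (by rfl), a2]; decide
  have m2 : code (g (ev 2)) ∈ pCands 80 := by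
    refine List.mem_filter.2 ⟨List.mem_range.2 (code_lt _), ?_⟩
    have a1 := gh 2 b0 h2
    have a2 := gh 2 v0 h1
    rw [v0b0.2.2.2.2.2.1, hd.2.2.1] at a1
    rw [code_v0, hd.2.2.2] at a2
    rw [g0, a1, if_neg (by decide), a2]; decide
  have h := List.all_eq_true.1 (List.all_eq_true.1 plane_ok _ m1) _ m2
  rw [hN_of_hm (by rw [hg.hm]; exact hm_ev 0 2), bne_self_eq_false, Bool.false_or] at h
  rw [hc]; exact List.contains_iff_mem.1 h

/-- Elements fixing two orthogonal vectors, brought to standard position. -/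
theorem plane_std {a b : V4} (ha : q4 a = 0) (ha0 : a ≠ 0) (hb : q4 b = 0) (hb0 : b ≠ 0) (h : hm a b = 0)
    (hne : tv a ≠ tv b) : ∃ g ∈ TG, g * (tv v0 * tv b0) * g⁻¹ = tv a * tv b ∧
      ∀ p : V4 ≃ₗ[ZMod 2] V4, IsIso p → p a = a → p b = b → cols (g⁻¹ * p * g) ∈ planeCols := by
  obtain ⟨g, hg, rfl, l, hl, rfl⟩ := exists_pair ha ha0 hb hb0 h hne
  have hgi : IsIso g := TG_le hg
  refine ⟨g, hg, ?_, fun p hp h1 h2 => plane_cols (mul_mem (mul_mem (inv_mem (TG_le hg)) hp) (TG_le hg)) ?_ ?_⟩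
  · rw [show g * (tv v0 * tv b0) * g⁻¹ = g * tv v0 * g⁻¹ * (g * tv b0 * g⁻¹) by group, tv_map hgi v0b0.1,
      tv_map hgi v0b0.2.2.1, tv_scl (hm_self_zero (by rw [hgi.quad]; exact v0b0.2.2.1)) hl]
  · show g.symm (p (g v0)) = v0
    rw [h1, g.symm_apply_apply]
  · show g.symm (p (g b0)) = b0
    obtain ⟨y, hy⟩ := cj_fm l hl
    rw [← scl_one (g b0), ← hy, ← scl_scl, hp.scl, h2, scl_scl, hy, scl_one, g.symm_apply_apply]

variable {K : Subgroup (V4 ≃ₗ[ZMod 2] V4)}

theorem plane_comm {a b : V4} (ha : q4 a = 0) (ha0 : a ≠ 0) (hb : q4 b = 0) (hb0 : b ≠ 0) (h : hm a b = 0)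
    (hne : tv a ≠ tv b) {p p' : V4 ≃ₗ[ZMod 2] V4} (hp : IsIso p) (hp' : IsIso p') (pa : p a = a) (pb : p b = b)
    (pa' : p' a = a) (pb' : p' b = b) : p * p' = p' * p := by
  obtain ⟨g, -, -, hstd⟩ := plane_std ha ha0 hb hb0 h hne
  have e := beq_iff_eq.1 (List.all_eq_true.1 (List.all_eq_true.1 plane_props.2.1 _ (hstd p hp pa pb)) _
    (hstd p' hp' pa' pb'))
  rw [← cols_mul, ← cols_mul] at e
  have e' := cols_injective e
  calc p * p' = g * (g⁻¹ * p * g * (g⁻¹ * p' * g)) * g⁻¹ := by group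
    _ = _ := by rw [e']; group

theorem plane_card {a b : V4} (ha : q4 a = 0) (ha0 : a ≠ 0) (hb : q4 b = 0) (hb0 : b ≠ 0) (h : hm a b = 0)
    (hne : tv a ≠ tv b) (P : Subgroup (V4 ≃ₗ[ZMod 2] V4)) (hP : ∀ p ∈ P, IsIso p ∧ p a = a ∧ p b = b) :
    Nat.card P ≤ 16 := by
  classical
  obtain ⟨g, -, -, hstd⟩ := plane_std ha ha0 hb hb0 h hne
  have hle := Nat.card_le_card_of_injective
    (fun p : P => (⟨cols (g⁻¹ * p.1 * g), List.mem_toFinset.2 (hstd p.1 (hP p.1 p.2).1 (hP p.1 p.2).2.1 (hP p.1 p.2).2.2)⟩ :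
      ↥planeCols.toFinset))
    (fun p q e => by
      have := cols_injective (congrArg Subtype.val e)
      exact Subtype.ext (mul_left_cancel (mul_right_cancel this)))
  rw [Nat.card_eq_fintype_card (α := ↥planeCols.toFinset), Fintype.card_coe] at hle
  exact hle.trans ((List.toFinset_card_le _).trans (le_of_eq plane_props.1))

theorem tvCols_mem {l : List ℕ} (h : l ∈ tvCols) : ∃ i < 45, cols (tvP i) = l := by
  obtain ⟨k, hk, rfl⟩ := List.getElem_of_mem h
  have hk' : k < 45 := by rwa [show tvCols.length = 45 by decide] at hk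
  exact ⟨k, hk', by rw [cols_tvP hk', List.getD_eq_getElem _ _ hk]⟩

/-- Of three elements of the plane group forming a line modulo the product, one coset meets the transvections. -/
theorem plane_line {a b : V4} (ha : q4 a = 0) (ha0 : a ≠ 0) (hb : q4 b = 0) (hb0 : b ≠ 0) (h : hm a b = 0)
    (hne : tv a ≠ tv b) {p p' : V4 ≃ₗ[ZMod 2] V4} (hp : IsIso p) (hp' : IsIso p') (pa : p a = a) (pb : p b = b)
    (pa' : p' a = a) (pb' : p' b = b) (h1 : p ≠ 1 ∧ p ≠ tv a * tv b) (h2 : p' ≠ 1 ∧ p' ≠ tv a * tv b)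
    (h3 : p * p' ≠ 1 ∧ p * p' ≠ tv a * tv b) :
    ∃ e, q4 e = 0 ∧ e ≠ 0 ∧ (tv e = p ∨ tv e = p * (tv a * tv b) ∨ tv e = p' ∨ tv e = p' * (tv a * tv b) ∨
      tv e = p * p' ∨ tv e = p * p' * (tv a * tv b)) := by
  obtain ⟨g, hg, hu, hstd⟩ := plane_std ha ha0 hb hb0 h hne
  have hgi : IsIso g := TG_le hg
  have hk := List.all_eq_true.1 (List.all_eq_true.1 plane_props.2.2 _ (hstd p hp pa pb)) _ (hstd p' hp' pa' pb')
  have n1 : ∀ q, q ≠ 1 → cols (g⁻¹ * q * g) ≠ idCols := fun q hq e => hq (by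
    have := cols_injective (e.trans cols_one.symm)
    calc q = g * (g⁻¹ * q * g) * g⁻¹ := by group
      _ = 1 := by rw [this]; group)
  have n2 : ∀ q, q ≠ tv a * tv b → cols (g⁻¹ * q * g) ≠ idCols.map fun n => code (tvFun v0 (tvFun b0 (dec n))) :=
    fun q hq e => hq (by
    rw [← cols_u0] at e
    rw [← hu, ← cols_injective e]; group)
  have hmulc : mulCols (cols (g⁻¹ * p * g)) (cols (g⁻¹ * p' * g)) = cols (g⁻¹ * (p * p') * g) := by
    rw [← cols_mul]; congr 1; group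
  have hid : mulCols (wordCols []) (idCols.map fun n => code (tvFun v0 (tvFun b0 (dec n)))) =
      idCols.map fun n => code (tvFun v0 (tvFun b0 (dec n))) := by decide +kernel
  simp only [hid, hmulc, Bool.or_eq_true, beq_iff_eq, List.any_cons, List.any_nil, Bool.or_false,
    n1 p h1.1, n2 p h1.2, n1 p' h2.1, n2 p' h2.2, n1 _ h3.1, n2 _ h3.2, false_or] at hk
  have back : ∀ q, (tvCols.contains (cols (g⁻¹ * q * g)) = true ∨ tvCols.contains (mulCols (cols (g⁻¹ * q * g))
      (idCols.map fun n => code (tvFun v0 (tvFun b0 (dec n))))) = true) →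
      ∃ e, q4 e = 0 ∧ e ≠ 0 ∧ (tv e = q ∨ tv e = q * (tv a * tv b)) := by
    intro q hq
    have conv' : ∀ (i : ℕ), i < 45 → q4 (g (ptV i)) = 0 ∧ g (ptV i) ≠ 0 ∧ g * tvP i * g⁻¹ = tv (g (ptV i)) :=
      fun i hi => ⟨by rw [hgi.quad, (ptV_q i hi).1],
        fun e => (ptV_q i hi).2 (g.injective (e.trans (map_zero g).symm)), tv_map hgi (ptV_q i hi).1⟩
    rcases hq with e | e
    · obtain ⟨i, hi, hie⟩ := tvCols_mem (List.contains_iff_mem.1 e)
      obtain ⟨c1, c2, c3⟩ := conv' i hi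
      exact ⟨_, c1, c2, Or.inl (by rw [← c3, cols_injective hie]; group)⟩
    · rw [← cols_u0, ← cols_mul] at e
      obtain ⟨i, hi, hie⟩ := tvCols_mem (List.contains_iff_mem.1 e)
      obtain ⟨c1, c2, c3⟩ := conv' i hi
      exact ⟨_, c1, c2, Or.inr (by rw [← c3, cols_injective hie, ← hu]; group)⟩
  rcases hk with (e | e) | (e | e) | (e | e)
  · obtain ⟨v, v1, v2, v3⟩ := back p (Or.inl e)
    exact ⟨v, v1, v2, v3.elim Or.inl fun h => Or.inr (Or.inl h)⟩
  · obtain ⟨v, v1, v2, v3⟩ := back p (Or.inr e)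
    exact ⟨v, v1, v2, v3.elim Or.inl fun h => Or.inr (Or.inl h)⟩
  · obtain ⟨v, v1, v2, v3⟩ := back p' (Or.inl e)
    exact ⟨v, v1, v2, v3.elim (fun h => Or.inr (Or.inr (Or.inl h))) fun h => Or.inr (Or.inr (Or.inr (Or.inl h)))⟩
  · obtain ⟨v, v1, v2, v3⟩ := back p' (Or.inr e)
    exact ⟨v, v1, v2, v3.elim (fun h => Or.inr (Or.inr (Or.inl h))) fun h => Or.inr (Or.inr (Or.inr (Or.inl h)))⟩
  · obtain ⟨v, v1, v2, v3⟩ := back (p * p') (Or.inl e)
    exact ⟨v, v1, v2, Or.inr (Or.inr (Or.inr (Or.inr v3)))⟩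
  · obtain ⟨v, v1, v2, v3⟩ := back (p * p') (Or.inr e)
    exact ⟨v, v1, v2, Or.inr (Or.inr (Or.inr (Or.inr v3)))⟩

/-! ### Uniqueness of the two transvections -/

/-- The keys of the products of orthogonal pairs. -/
def pairKeys : List ℕ := ((List.range 45).flatMap fun i => ((List.range 45).filter fun j =>
  decide (i < j) && (orthMasks.getD i 0).testBit j).map fun j => enc (mulCols (tvCols.getD i []) (tvCols.getD j [])))

/-- The pairs. -/
def pairList : List (ℕ × ℕ) := ((List.range 45).flatMap fun i => ((List.range 45).filter fun j =>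
  decide (i < j) && (orthMasks.getD i 0).testBit j).map fun j => (i, j))

/-- The key of a pair. -/
def pairKey (p : ℕ × ℕ) : ℕ := enc (mulCols (tvCols.getD p.1 []) (tvCols.getD p.2 []))

theorem pairKeys_nodup : (pairList.map pairKey).Nodup ∧
    (tvCols.all fun t => !(pairList.map pairKey).contains (enc t)) = true := by decide +kernel

theorem pair_index {a b : V4} (ha : q4 a = 0) (ha0 : a ≠ 0) (hb : q4 b = 0) (hb0 : b ≠ 0) (h : hm a b = 0)
    (hne : tv a ≠ tv b) : ∃ p ∈ pairList, cols (tv a * tv b) = mulCols (tvCols.getD p.1 []) (tvCols.getD p.2 []) ∧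
      ({tv a, tv b} : Set (V4 ≃ₗ[ZMod 2] V4)) = {tvP p.1, tvP p.2} := by
  obtain ⟨i, c, hc, hai⟩ := exists_point ha ha0
  obtain ⟨j, d, hd, hbj⟩ := exists_point hb hb0
  have hta : tv a = tvP i := by rw [hai, tv_scl (hm_self_zero (ptV_q _ i.2).1) hc]; rfl
  have htb : tv b = tvP j := by rw [hbj, tv_scl (hm_self_zero (ptV_q _ j.2).1) hd]; rfl
  have hij : i ≠ j := fun e => hne (by rw [hta, htb, e])
  have hij0 : hm (ptV i) (ptV j) = 0 := by
    rw [hai, hbj, hm_scl_left, hm_scl_right] at h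
    exact (by decide : ∀ c d x : D4, c ≠ 0 → d ≠ 0 → fm c (fm (cj d) x) = 0 → x = 0) _ _ _ hc hd h
  have mem : ∀ i j : Fin 45, i < j → orthP i j = true → ((i : ℕ), (j : ℕ)) ∈ pairList := fun i j hlt ho =>
    List.mem_flatMap.2 ⟨i.1, List.mem_range.2 i.2, List.mem_map.2 ⟨j.1, List.mem_filter.2 ⟨List.mem_range.2 j.2, by
      rw [Bool.and_eq_true]; exact ⟨decide_eq_true hlt, ho⟩⟩, rfl⟩⟩
  rcases lt_or_gt_of_ne hij with hlt | hlt
  · refine ⟨_, mem i j hlt ((orthP_iff i j).2 ⟨hij, hij0⟩), ?_, by rw [hta, htb]⟩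
    rw [hta, htb, cols_mul, cols_tvP i.2, cols_tvP j.2]
  · refine ⟨_, mem j i hlt ((orthP_iff j i).2 ⟨hij.symm, by rw [hm_symm, hij0]; rfl⟩), ?_, ?_⟩
    · rw [tv_commute ha hb h, hta, htb, cols_mul, cols_tvP j.2, cols_tvP i.2]
    · rw [hta, htb, Set.pair_comm]

/-- Two products of orthogonal pairs are equal only for equal pairs. -/
theorem pair_unique {a b c d : V4} (ha : q4 a = 0) (ha0 : a ≠ 0) (hb : q4 b = 0) (hb0 : b ≠ 0) (h : hm a b = 0)
    (hne : tv a ≠ tv b) (hc : q4 c = 0) (hc0 : c ≠ 0) (hd : q4 d = 0) (hd0 : d ≠ 0) (h' : hm c d = 0)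
    (hne' : tv c ≠ tv d) (e : tv a * tv b = tv c * tv d) :
    (tv a = tv c ∧ tv b = tv d) ∨ (tv a = tv d ∧ tv b = tv c) := by
  obtain ⟨p, hp, e1, s1⟩ := pair_index ha ha0 hb hb0 h hne
  obtain ⟨r, hr, e2, s2⟩ := pair_index hc hc0 hd hd0 h' hne'
  have : p = r := List.inj_on_of_nodup_map pairKeys_nodup.1 hp hr (by
    rw [pairKey, pairKey, ← e1, ← e2, e])
  rw [this, ← s2] at s1
  have a1 : tv a ∈ ({tv c, tv d} : Set _) := s1 ▸ Set.mem_insert _ _
  have b1 : tv b ∈ ({tv c, tv d} : Set _) := s1 ▸ Set.mem_insert_of_mem _ rfl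
  rcases a1 with x | x <;> rcases b1 with y | y
  · exact absurd (x.trans y.symm) hne
  · exact Or.inl ⟨x, y⟩
  · exact Or.inr ⟨x, y⟩
  · exact absurd (x.trans y.symm) hne

/-- Such a product is not a transvection. -/
theorem pair_ne_tv {a b e : V4} (ha : q4 a = 0) (ha0 : a ≠ 0) (hb : q4 b = 0) (hb0 : b ≠ 0) (h : hm a b = 0)
    (hne : tv a ≠ tv b) (he : q4 e = 0) (he0 : e ≠ 0) : tv a * tv b ≠ tv e := by
  intro hcon
  obtain ⟨p, hp, e1, -⟩ := pair_index ha ha0 hb hb0 h hne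
  obtain ⟨i, hi⟩ := exists_tvP he he0
  have hmem : tvCols.getD i.1 [] ∈ tvCols := by
    have hl : i.1 < tvCols.length := lt_of_lt_of_eq i.2 (by decide : tvCols.length = 45).symm
    rw [List.getD_eq_getElem _ _ hl]; exact List.getElem_mem hl
  have := List.all_eq_true.1 pairKeys_nodup.2 _ hmem
  rw [← cols_tvP i.2, ← hi, ← hcon, e1, Bool.not_eq_true'] at this
  refine Bool.false_ne_true (this.symm.trans ?_)
  exact List.contains_iff_mem.2 (List.mem_map.2 ⟨p, hp, rfl⟩)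

theorem theta_ok : validW thetaWord = true ∧ apN (wordCols thetaWord) 5 = scN 2 5 ∧
    apN (wordCols thetaWord) 80 = scN 3 80 ∧
    mulCols (wordCols thetaWord) (mulCols (wordCols thetaWord) (wordCols thetaWord)) = idCols := by decide +kernel

/-- The element of order three centralising the product. -/
theorem exists_theta {a b : V4} (ha : q4 a = 0) (ha0 : a ≠ 0) (hb : q4 b = 0) (hb0 : b ≠ 0) (h : hm a b = 0)
    (hne : tv a ≠ tv b) : ∃ θ ∈ TG, θ a = omV a ∧ θ b = omV (omV b) ∧ θ * (θ * θ) = 1 := by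
  obtain ⟨g, hg, rfl, l, hl, rfl⟩ := exists_pair ha ha0 hb hb0 h hne
  have hgi : IsIso g := TG_le hg
  obtain ⟨h1, h2, h3, h4⟩ := theta_ok
  refine ⟨g * wordE thetaWord * g⁻¹, mul_mem (mul_mem hg (wordE_mem h1)) (inv_mem hg), ?_, ?_, ?_⟩
  · show g (wordE thetaWord (g.symm (g v0))) = _
    rw [g.symm_apply_apply, ← hgi.lin]
    congr 1
    exact code_injective (by rw [code_wordE h1, code_omV, code_v0, h2])
  · show g (wordE thetaWord (g.symm (scl l (g b0)))) = _
    have hw : wordE thetaWord b0 = scl (1, 1) b0 := code_injective (by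
      rw [code_wordE h1, code_scl, v0b0.2.2.2.2.2.1, h3]; rfl)
    have hwi : IsIso (wordE thetaWord) := wordE_iso _
    rw [← hgi.scl, g.symm_apply_apply, hwi.scl, hw, ← scl_ww, hgi.scl, hgi.scl, hgi.scl, scl_scl, scl_scl]
    congr 1
    exact (by decide : ∀ x : D4, fm x (1, 1) = fm (1, 1) x) l
  · rw [show g * wordE thetaWord * g⁻¹ * (g * wordE thetaWord * g⁻¹ * (g * wordE thetaWord * g⁻¹)) =
      g * (wordE thetaWord * (wordE thetaWord * wordE thetaWord)) * g⁻¹ by group,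
      show wordE thetaWord * (wordE thetaWord * wordE thetaWord) = 1 from cols_injective (by
        rw [cols_mul, cols_mul, cols_wordE _ h1, h4, cols_one]), mul_one, mul_inv_cancel]

/-- In a 2-group an eigenvalue is one. -/
theorem scalar_one {P : Subgroup (V4 ≃ₗ[ZMod 2] V4)} (h2 : IsPGroup 2 P) {p : V4 ≃ₗ[ZMod 2] V4} (hp : p ∈ P)
    (hi : IsIso p) {a : V4} (ha : a ≠ 0) {l : D4} (e : p a = scl l a) : l = (1, 0) := by
  obtain ⟨k, hk⟩ := h2 ⟨p, hp⟩
  have hk' : p ^ 2 ^ k = 1 := congrArg Subtype.val hk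
  have hpow : ∀ k, (p ^ 2 ^ k) a = scl ((fun x => fm x x)^[k] l) a := by
    intro k
    induction k with
    | zero => simpa using e
    | succ k ih =>
      rw [pow_succ, pow_mul, pow_two, Function.iterate_succ_apply', ← scl_scl]
      show (p ^ 2 ^ k) ((p ^ 2 ^ k) a) = _
      rw [ih, IsIso.scl (show IsIso (p ^ 2 ^ k) from pow_mem (show p ∈ isoGroup from hi) _), ih]
  have h1 := hpow k
  rw [hk'] at h1
  have hfix : (fun x : D4 => fm x x)^[k] l = (1, 0) := by
    by_contra hne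
    have h0 : scl ((fun x : D4 => fm x x)^[k] l + (1, 0)) a = 0 := by
      rw [add_scl, ← h1, scl_one]; exact add_self_V4 a
    exact hne ((by decide : ∀ x y : D4, x + y = 0 → x = y) _ _ (scl_eq_zero ha h0))
  have hinj : Function.Injective (fun x : D4 => fm x x) := by
    intro x y; revert x y; decide
  have hone : (fun x : D4 => fm x x)^[k] (1, 0) = (1, 0) := Function.iterate_fixed (by decide) k
  exact (hinj.iterate k) (hfix.trans hone.symm)

/-- A 2-group centralising the product and normalised by the element of order three fixes both vectors. -/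
theorem plane_of_normalised {a b : V4} (ha : q4 a = 0) (ha0 : a ≠ 0) (hb : q4 b = 0) (hb0 : b ≠ 0) (h : hm a b = 0)
    (hne : tv a ≠ tv b) {θ : V4 ≃ₗ[ZMod 2] V4} (hθ : IsIso θ) (θa : θ a = omV a) (θb : θ b = omV (omV b))
    (P : Subgroup (V4 ≃ₗ[ZMod 2] V4)) (h2 : IsPGroup 2 P) (hPi : ∀ p ∈ P, IsIso p)
    (hPu : ∀ p ∈ P, p * (tv a * tv b) = tv a * tv b * p) (hPθ : ∀ p ∈ P, θ * p * θ⁻¹ ∈ P) :
    ∀ p ∈ P, p a = a ∧ p b = b := by
  have perm : ∀ p ∈ P, (∃ l, p a = scl l a ∧ ∃ m, p b = scl m b) ∨ (∃ l, l ≠ 0 ∧ p a = scl l b) := by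
    intro p hp
    have hpi := hPi p hp
    have e : tv (p a) * tv (p b) = tv a * tv b := by
      rw [← tv_map hpi ha, ← tv_map hpi hb, show p * tv a * p⁻¹ * (p * tv b * p⁻¹) = p * (tv a * tv b) * p⁻¹ by group,
        hPu p hp, mul_inv_cancel_right]
    have q1 : q4 (p a) = 0 := by rw [hpi.quad, ha]
    have q2 : q4 (p b) = 0 := by rw [hpi.quad, hb]
    have n1 : p a ≠ 0 := fun e0 => ha0 (p.injective (e0.trans (map_zero p).symm))
    have n2 : p b ≠ 0 := fun e0 => hb0 (p.injective (e0.trans (map_zero p).symm))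
    have ne' : tv (p a) ≠ tv (p b) := by
      rw [← tv_map hpi ha, ← tv_map hpi hb]
      exact fun e0 => hne (mul_left_cancel (mul_right_cancel e0))
    rcases pair_unique q1 n1 q2 n2 (by rw [hpi.hm, h]) ne' ha ha0 hb hb0 h hne e with ⟨x, y⟩ | ⟨x, -⟩
    · obtain ⟨l, -, hl⟩ := tv_eq_tv ha q1 ha0 n1 x.symm
      obtain ⟨m, -, hm'⟩ := tv_eq_tv hb q2 hb0 n2 y.symm
      exact Or.inl ⟨l, hl, m, hm'⟩
    · obtain ⟨l, hl0, hl⟩ := tv_eq_tv hb q1 hb0 n1 x.symm
      exact Or.inr ⟨l, hl0, hl⟩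
  intro p hp
  have hpi := hPi p hp
  rcases perm p hp with ⟨l, hl, m, hm'⟩ | ⟨l, hl0, hl⟩
  · rw [scalar_one h2 hp hpi ha0 hl, scl_one] at hl
    rw [scalar_one h2 hp hpi hb0 hm', scl_one] at hm'
    exact ⟨hl, hm'⟩
  · exfalso
    have hq := mul_mem (hPθ p hp) (inv_mem hp)
    obtain ⟨y, hy⟩ := cj_fm l hl0
    have e1 : p.symm b = scl y a := by
      rw [p.symm_apply_eq, hpi.scl, hl, scl_scl, hy, scl_one]
    have e2 : θ.symm (scl y a) = scl (fm y (1, 1)) a := by
      rw [θ.symm_apply_eq, hθ.scl, θa, omV_eq, scl_scl,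
        (by decide : ∀ y : D4, fm (fm y (1, 1)) (0, 1) = y) y]
    have e3 : (θ * p * θ⁻¹ * p⁻¹) b = scl (0, 1) b := by
      show θ (p (θ.symm (p.symm b))) = _
      rw [e1, e2, hpi.scl, hl, hθ.scl, hθ.scl, θb, ← scl_ww, scl_scl, scl_scl]
      congr 1
      exact (by decide : ∀ y l : D4, fm y l = (1, 0) → fm (fm (fm y (1, 1)) l) (1, 1) = (0, 1)) y l hy
    exact absurd (scalar_one h2 hq (mul_mem (mul_mem (mul_mem (show θ ∈ isoGroup from hθ) hpi) (inv_mem (show θ ∈ isoGroup from hθ))) (inv_mem (show p ∈ isoGroup from hpi))) hb0 e3)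
      (by decide)

end CfsgLib.Recognition.USixTwo
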