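import Cfsg.Agent.Lib.Recognition.USixTwo.Group

/-!
# The forty-five isotropic points and their transvections
-/

set_option autoImplicit false
set_option maxRecDepth 100000

namespace CfsgLib.Recognition.USixTwo

open CfsgLib.Sporadic.LargeFischer (D4 om nzd)

/-- The multiples of a vector. -/
def lineN (t n : ℕ) : Bool := n == 0 || n == scN 1 t || n == scN 2 t || n == scN 3 t

theorem lineN_iff (t v : V4) : lineN (code t) (code v) = true ↔ ∃ c, v = scl c t := by
  have key : ∀ c : D4, c = 0 ∨ c = (1, 0) ∨ c = (0, 1) ∨ c = (1, 1) := D4_cases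
  simp only [lineN, Bool.or_eq_true, beq_iff_eq]
  constructor
  · rintro (((e | e) | e) | e)
    · exact ⟨0, code_injective (by rw [scl_zero, e, code_zero])⟩
    · exact ⟨(1, 0), code_injective (by rw [code_scl, e]; rfl)⟩
    · exact ⟨(0, 1), code_injective (by rw [code_scl, e]; rfl)⟩
    · exact ⟨(1, 1), code_injective (by rw [code_scl, e]; rfl)⟩
  · rintro ⟨c, rfl⟩
    rcases key c with rfl | rfl | rfl | rfl
    · exact Or.inl (Or.inl (Or.inl (by rw [scl_zero, code_zero])))
    · exact Or.inl (Or.inl (Or.inr (by rw [code_scl]; rfl)))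
    · exact Or.inl (Or.inr (by rw [code_scl]; rfl))
    · exact Or.inr (by rw [code_scl]; rfl)

theorem cj_fm : ∀ a : D4, a ≠ 0 → ∃ b, fm b a = (1, 0) := by decide

theorem hm_nondeg {v : V4} (hv : v ≠ 0) : ∃ i, hm (ev i) v ≠ 0 := by
  by_contra hc
  push Not at hc
  have e : ∀ i, hm (ev i) v = cj (v i) := by
    intro i
    have h1 : ∀ a : D4, fm (1, 0) a = a ∧ fm 0 a = 0 := by decide
    have h2 : ev 0 = ![(1, 0), 0, 0, 0] ∧ ev 1 = ![0, (1, 0), 0, 0] ∧ ev 2 = ![0, 0, (1, 0), 0] ∧
        ev 3 = ![0, 0, 0, (1, 0)] := by decide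
    fin_cases i
    · show hm (ev 0) v = _; rw [h2.1]; simp [hm, h1]
    · show hm (ev 1) v = _; rw [h2.2.1]; simp [hm, h1]
    · show hm (ev 2) v = _; rw [h2.2.2.1]; simp [hm, h1]
    · show hm (ev 3) v = _; rw [h2.2.2.2]; simp [hm, h1]
  exact hv (funext fun i => (by decide : ∀ a : D4, cj a = 0 → a = 0) _ ((e i).symm.trans (hc i)))

theorem hm_self_zero {v : V4} (hq : q4 v = 0) : hm v v = 0 := by rw [hm_self, hq]; rfl

theorem q4_scl {v : V4} (hq : q4 v = 0) (c : D4) : q4 (scl c v) = 0 := by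
  have h1 := hm_self (scl c v)
  rw [hm_scl_left, hm_scl_right, hm_self_zero hq] at h1
  have h2 : ∀ x y : D4, fm x (fm y 0) = 0 := by decide
  rw [h2] at h1
  exact (congrArg Prod.fst h1).symm

theorem scl_eq_zero {c : D4} {v : V4} (hv : v ≠ 0) (e : scl c v = 0) : c = 0 := by
  by_contra hc
  obtain ⟨b, hb⟩ := cj_fm c hc
  apply hv
  rw [← scl_one v, ← hb, ← scl_scl, e, scl_zero_vec]

/-- Transvections determine their points. -/
theorem tv_eq_tv {a b : V4} (ha : q4 a = 0) (hb : q4 b = 0) (h0 : a ≠ 0) (h1 : b ≠ 0) (e : tv a = tv b) :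
    ∃ c, c ≠ 0 ∧ b = scl c a := by
  obtain ⟨i, hi⟩ := hm_nondeg h1
  have h := congrArg (fun g : V4 ≃ₗ[ZMod 2] V4 => g (ev i)) e
  simp only [tv_apply (hm_self_zero ha), tv_apply (hm_self_zero hb), add_right_inj] at h
  obtain ⟨x, hx⟩ := cj_fm _ hi
  have hb' : b = scl (fm x (hm (ev i) a)) a := by
    calc b = scl (fm x (hm (ev i) b)) b := by rw [hx, scl_one]
      _ = _ := by rw [← scl_scl, ← h, scl_scl]
  exact ⟨_, fun e0 => h1 (by rw [hb', e0, scl_zero]), hb'⟩

theorem tv_eq_iff {a b : V4} (ha : q4 a = 0) (hb : q4 b = 0) (h0 : a ≠ 0) (h1 : b ≠ 0) :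
    tv a = tv b ↔ ∃ c, c ≠ 0 ∧ b = scl c a :=
  ⟨tv_eq_tv ha hb h0 h1, fun ⟨_, hc, e⟩ => by rw [e, tv_scl (hm_self_zero ha) hc]⟩

theorem tv_ne_one {a : V4} (ha : q4 a = 0) (h0 : a ≠ 0) : tv a ≠ 1 := by
  intro e
  obtain ⟨i, hi⟩ := hm_nondeg h0
  have h := congrArg (fun g : V4 ≃ₗ[ZMod 2] V4 => g (ev i)) e
  simp only [tv_apply (hm_self_zero ha)] at h
  exact hi (scl_eq_zero h0 (add_eq_left.1 h))

/-- Orthogonality of points. -/
def orthP (i j : Fin 45) : Bool := (orthMasks.getD i.1 0).testBit j.1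

theorem orthMasks_ok : ∀ i < 45, ∀ j < 45, (orthMasks.getD i 0).testBit j =
    (decide (i ≠ j) && (hN (ptCodes.getD i 0) (ptCodes.getD j 0) == 0)) := by decide +kernel

theorem ptCodes_ok : ∀ i < 45, ptCodes.getD i 0 < 256 ∧
    ∀ j < 45, lineN (ptCodes.getD i 0) (ptCodes.getD j 0) = true → i = j := by decide +kernel

theorem code_ptV {i : ℕ} (hi : i < 45) : code (ptV i) = ptCodes.getD i 0 := codes_ok _ (ptCodes_ok i hi).1

theorem points_cover : (List.range 256).all
    (fun n => qN n || (n == 0) || (List.range 45).any fun i => lineN (ptCodes.getD i 0) n) = true := by decide +kernel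

theorem exists_point {v : V4} (hq : q4 v = 0) (hv : v ≠ 0) : ∃ i : Fin 45, ∃ c, c ≠ 0 ∧ v = scl c (ptV i) := by
  have := forall_of_codes points_cover v
  rw [(q4_eq_zero_iff v).1 hq, Bool.false_or, Bool.or_eq_true] at this
  rcases this with e | e
  · exact absurd (code_injective ((beq_iff_eq.1 e).trans code_zero.symm)) hv
  obtain ⟨i, hi, he⟩ := List.any_eq_true.1 e
  have hi' := List.mem_range.1 hi
  rw [← code_ptV hi'] at he
  obtain ⟨c, hc⟩ := (lineN_iff _ _).1 he
  exact ⟨⟨i, hi'⟩, c, fun e0 => hv (by rw [hc, e0, scl_zero]), hc⟩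

theorem exists_tvP {v : V4} (hq : q4 v = 0) (hv : v ≠ 0) : ∃ i : Fin 45, tv v = tvP i := by
  obtain ⟨i, c, hc, e⟩ := exists_point hq hv
  exact ⟨i, by rw [e, tv_scl (hm_self_zero (ptV_q _ i.2).1) hc]; rfl⟩

theorem tvP_inj {i j : Fin 45} (e : tvP i = tvP j) : i = j := by
  obtain ⟨c, -, hc⟩ := tv_eq_tv (ptV_q _ i.2).1 (ptV_q _ j.2).1 (ptV_q _ i.2).2 (ptV_q _ j.2).2 e
  refine Fin.ext ((ptCodes_ok _ i.2).2 _ j.2 ?_)
  rw [← code_ptV i.2, ← code_ptV j.2]
  exact (lineN_iff _ _).2 ⟨c, hc⟩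

theorem orthP_iff (i j : Fin 45) : orthP i j = true ↔ i ≠ j ∧ hm (ptV i) (ptV j) = 0 := by
  rw [orthP, orthMasks_ok _ i.2 _ j.2, Bool.and_eq_true, decide_eq_true_eq, beq_iff_eq, ← code_ptV i.2, ← code_ptV j.2,
    ← cd_hm, Ne, Fin.val_inj]
  exact and_congr_right fun _ => ⟨fun e => cd_inj (e.trans cd_zero.symm), fun e => by rw [e, cd_zero]⟩

/-- The neighbours of a point: twelve. -/
theorem orthP_count : ∀ i : Fin 45, (Finset.univ.filter fun j => orthP i j = true).card = 12 := by
  intro i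
  have key : ∀ i < 45, ((List.range 45).filter fun k => (orthMasks.getD i 0).testBit k).length = 12 := by
    decide +kernel
  have hm : (Finset.univ.filter fun j : Fin 45 => orthP i j = true).map Fin.valEmbedding =
      ((List.range 45).filter fun k => (orthMasks.getD i.1 0).testBit k).toFinset := by
    ext k
    simp only [Finset.mem_map, Finset.mem_filter, Finset.mem_univ, true_and, List.mem_toFinset,
      List.mem_filter, List.mem_range, Fin.valEmbedding_apply]
    constructor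
    · rintro ⟨a, ha, rfl⟩; exact ⟨a.2, ha⟩
    · rintro ⟨hk, hb⟩; exact ⟨⟨k, hk⟩, hb, rfl⟩
  rw [← Finset.card_map Fin.valEmbedding, hm, List.toFinset_card_of_nodup (List.nodup_range.filter _), key _ i.2]

theorem masks_lt : ∀ i < 45, orthMasks.getD i 0 < 2 ^ 45 := by decide +kernel

theorem masks_meet : ∀ i < 45, ∀ j < 45, i = j ∨ (orthMasks.getD i 0).testBit j = true ∨
    orthMasks.getD i 0 &&& orthMasks.getD j 0 ≠ 0 := by decide +kernel

theorem masks_common : ∀ i < 45, ∀ j < 45, i = j ∨ (orthMasks.getD i 0).testBit j = true ∨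
    ((((List.range 45).filter fun k => (orthMasks.getD i 0 &&& orthMasks.getD j 0).testBit k).length == 3) &&
      (((List.range 45).filter fun k => (orthMasks.getD i 0 &&& orthMasks.getD j 0).testBit k).all fun k =>
        orthMasks.getD k 0 &&& (orthMasks.getD i 0 &&& orthMasks.getD j 0) == 0)) = true := by decide +kernel

theorem orthP_and (i j k : Fin 45) :
    (orthP i k = true ∧ orthP j k = true) ↔ (orthMasks.getD i.1 0 &&& orthMasks.getD j.1 0).testBit k.1 = true := by
  rw [Nat.testBit_and, Bool.and_eq_true]; exact Iff.rfl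

/-- The orthogonality graph has diameter two. -/
theorem orthP_diam (i j : Fin 45) : i = j ∨ orthP i j = true ∨ ∃ k, orthP i k = true ∧ orthP j k = true := by
  rcases masks_meet _ i.2 _ j.2 with e | e | e
  · exact Or.inl (Fin.ext e)
  · exact Or.inr (Or.inl e)
  · refine Or.inr (Or.inr ?_)
    obtain ⟨k, hk⟩ := Nat.exists_testBit_of_ne_zero e
    have hlt : k < 45 := by
      by_contra hc
      rw [Nat.testBit_and, Bool.and_eq_true] at hk
      rw [Nat.testBit_lt_two_pow (lt_of_lt_of_le (masks_lt _ i.2) (Nat.pow_le_pow_right (by norm_num) (not_lt.1 hc)))] at hk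
      exact absurd hk.1 Bool.false_ne_true
    exact ⟨⟨k, hlt⟩, (orthP_and i j ⟨k, hlt⟩).2 hk⟩

/-- Two points which are not orthogonal have three common neighbours, pairwise not orthogonal. -/
theorem orthP_common (i j : Fin 45) (hij : i ≠ j) (ho : orthP i j = false) :
    (Finset.univ.filter fun k => orthP i k = true ∧ orthP j k = true).card = 3 ∧
      ∀ k l, orthP i k = true → orthP j k = true → orthP i l = true → orthP j l = true → orthP k l = false := by
  rcases masks_common _ i.2 _ j.2 with e | e | e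
  · exact absurd (Fin.ext e) hij
  · exact absurd (e.symm.trans ho) (by decide)
  rw [Bool.and_eq_true, beq_iff_eq] at e
  refine ⟨?_, fun k l hk hk' hl hl' => ?_⟩
  · set L := (List.range 45).filter fun k => (orthMasks.getD i.1 0 &&& orthMasks.getD j.1 0).testBit k with hL
    have hm : (Finset.univ.filter fun k : Fin 45 => orthP i k = true ∧ orthP j k = true).map Fin.valEmbedding =
        L.toFinset := by
      ext k
      simp only [Finset.mem_map, Finset.mem_filter, Finset.mem_univ, true_and, hL, List.mem_toFinset,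
        List.mem_filter, List.mem_range, Fin.valEmbedding_apply]
      constructor
      · rintro ⟨a, ha, rfl⟩; exact ⟨a.2, (orthP_and i j a).1 ha⟩
      · rintro ⟨hk, hb⟩; exact ⟨⟨k, hk⟩, (orthP_and i j ⟨k, hk⟩).2 hb, rfl⟩
    rw [← Finset.card_map Fin.valEmbedding, hm, List.toFinset_card_of_nodup (List.nodup_range.filter _), e.1]
  · have hk2 := (orthP_and i j k).1 ⟨hk, hk'⟩
    have hl2 := (orthP_and i j l).1 ⟨hl, hl'⟩
    have := List.all_eq_true.1 e.2 k.1 (List.mem_filter.2 ⟨List.mem_range.2 k.2, hk2⟩)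
    have h0 := congrArg (fun n => n.testBit l.1) (beq_iff_eq.1 this)
    simp only [Nat.testBit_and, Nat.zero_testBit] at h0
    rw [Nat.testBit_and] at hl2
    rw [hl2, Bool.and_true] at h0
    exact h0

theorem tv_commute {a b : V4} (ha : q4 a = 0) (hb : q4 b = 0) (h : hm a b = 0) : tv a * tv b = tv b * tv a := by
  have e : tv a b = b := by
    rw [tv_apply (hm_self_zero ha), hm_symm, h, show cj 0 = 0 from rfl, scl_zero, add_zero]
  have := tv_conj (tv_iso a) (hm_self_zero hb)
  rw [e, mul_inv_eq_iff_eq_mul] at this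
  exact this

theorem tv_fixed {a x : V4} (ha : q4 a = 0) (h0 : a ≠ 0) : tv a x = x ↔ hm x a = 0 := by
  rw [tv_apply (hm_self_zero ha), add_eq_left]
  exact ⟨scl_eq_zero h0, fun e => by rw [e, scl_zero]⟩

theorem tv_pair_fixed {a b x : V4} (ha : q4 a = 0) (hb : q4 b = 0) (h0 : a ≠ 0) (h1 : b ≠ 0) (hne : tv a ≠ tv b)
    (e : tv a (tv b x) = x) : hm x a = 0 ∧ hm x b = 0 := by
  have e' : tv b x = tv a x := by
    have hl : tv a (tv a (tv b x)) = tv a x := congrArg _ e
    rwa [← LinearEquiv.mul_apply, tv_mul_self] at hl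
  rw [tv_apply (hm_self_zero hb), tv_apply (hm_self_zero ha), add_right_inj] at e'
  by_cases hx : hm x b = 0
  · rw [hx, scl_zero] at e'
    exact ⟨scl_eq_zero h0 e'.symm, hx⟩
  · exfalso
    obtain ⟨y, hy⟩ := cj_fm _ hx
    have hb' : b = scl (fm y (hm x a)) a := by rw [← scl_scl, ← e', scl_scl, hy, scl_one]
    exact hne ((tv_eq_iff ha hb h0 h1).2 ⟨_, fun e0 => h1 (by rw [hb', e0, scl_zero]), hb'⟩)

/-- An element mapping points as given acts on transvections accordingly. -/
theorem tv_map {g : V4 ≃ₗ[ZMod 2] V4} (hg : IsIso g) {v : V4} (hq : q4 v = 0) : g * tv v * g⁻¹ = tv (g v) :=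
  tv_conj hg (hm_self_zero hq)

end CfsgLib.Recognition.USixTwo
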