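import Cfsg.Agent.Lib.Recognition.USixTwo.PlaneFacts
import Cfsg.Agent.Lib.ThreeTransp.LargePair

/-!
# An involution with centraliser `2¹⁺⁸·U₄(2)`: coordinates
-/

set_option autoImplicit false
set_option linter.unusedSectionVars false

namespace CfsgLib.Recognition.USixTwo

open CfsgLib.ThreeTransp.Extraspecial
open CfsgLib.Sporadic.LargeFischer (D4 om nzd)

/-- The configuration: `J` is extraspecial of order `2⁹` with coordinates `π`, and the centraliser of `z` acts on
them as the unitary group. -/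
structure Core {X : Type*} [Group X] [Finite X] (z : X) (J : Subgroup X) (π : X → V4)
    (ψ : ↥(Subgroup.centralizer ({z} : Set X)) →* (V4 ≃ₗ[ZMod 2] V4)) : Prop where
  ord_z : orderOf z = 2
  extra : Extra J z
  card_J : Nat.card J = 512
  norm : ∀ c, c * z = z * c → ∀ a ∈ J, c * a * c⁻¹ ∈ J
  cent_le : ∀ c, (∀ a ∈ J, c * a = a * c) → c ∈ J
  π_mul : ∀ a ∈ J, ∀ b ∈ J, π (a * b) = π a + π b
  π_surj : ∀ v, ∃ a ∈ J, π a = v
  π_ker : ∀ a ∈ J, π a = 0 ↔ a = 1 ∨ a = z
  q_iff : ∀ a ∈ J, q4 (π a) = 0 ↔ a * a = 1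
  act : ∀ c : ↥(Subgroup.centralizer ({z} : Set X)), ∀ a ∈ J, π (c * a * (c : X)⁻¹) = ψ c (π a)
  ker : ∀ c : ↥(Subgroup.centralizer ({z} : Set X)), ψ c = 1 ↔ (c : X) ∈ J
  model : Model4 ψ.range

variable {X : Type*} [Group X] [Finite X]

/-- Conjugation between centralisers. -/
def centConj (z g : X) :
    ↥(Subgroup.centralizer ({g * z * g⁻¹} : Set X)) →* ↥(Subgroup.centralizer ({z} : Set X)) where
  toFun c := ⟨g⁻¹ * c * g, Subgroup.mem_centralizer_singleton_iff.2 (by
    have h := Subgroup.mem_centralizer_singleton_iff.1 c.2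
    calc g⁻¹ * c * g * z = g⁻¹ * ((c : X) * (g * z * g⁻¹)) * g := by group
      _ = z * (g⁻¹ * c * g) := by rw [h]; group)⟩
  map_one' := Subtype.ext (by simp)
  map_mul' a b := Subtype.ext (by simp [mul_assoc])

theorem centConj_coe (z g : X) (c : ↥(Subgroup.centralizer ({g * z * g⁻¹} : Set X))) :
    (centConj z g c : X) = g⁻¹ * c * g := rfl

namespace Core

variable {z : X} {J : Subgroup X} {π : X → V4} {ψ : ↥(Subgroup.centralizer ({z} : Set X)) →* (V4 ≃ₗ[ZMod 2] V4)}
  (h : Core z J π ψ)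
include h

theorem normalizer : Subgroup.centralizer ({z} : Set X) ≤ Subgroup.normalizer (J : Set X) := by
  intro c hc
  exact Subgroup.mem_normalizer_fintype fun x hx => h.norm c (Subgroup.mem_centralizer_singleton_iff.1 hc) x hx

theorem le_cent : J ≤ Subgroup.centralizer ({z} : Set X) := h.extra.le_centralizer

theorem mem_cent {a : X} (ha : a ∈ J) : a ∈ Subgroup.centralizer ({z} : Set X) := h.le_cent ha

theorem cent_z {a : X} (ha : a ∈ J) : a * z = z * a := (h.extra.z_comm ha).symm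

/-- The conjugate configuration. -/
theorem conj (g : X) : Core (g * z * g⁻¹) (J.map (MulAut.conj g).toMonoidHom) (fun a => π (g⁻¹ * a * g))
    (ψ.comp (centConj z g)) where
  ord_z := (SemiconjBy.orderOf_eq g (by simp [SemiconjBy])).symm.trans h.ord_z
  extra := h.extra.map_conj g
  card_J := by rw [Subgroup.card_map_of_injective (MulAut.conj g).injective, h.card_J]
  norm c hc a ha := mem_map_conj.2 (centralizer_conj_le h.normalizer g hc (mem_map_conj.1 ha))
  cent_le c hc := mem_map_conj.2 (h.cent_le _ fun a ha => by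
    have h1 := hc (g * a * g⁻¹) (mem_map_conj.2 (by simpa [mul_assoc] using ha))
    calc g⁻¹ * c * g * a = g⁻¹ * (c * (g * a * g⁻¹)) * g := by group
      _ = a * (g⁻¹ * c * g) := by rw [h1]; group)
  π_mul a ha b hb := by
    rw [show g⁻¹ * (a * b) * g = g⁻¹ * a * g * (g⁻¹ * b * g) by group]
    exact h.π_mul _ (mem_map_conj.1 ha) _ (mem_map_conj.1 hb)
  π_surj v := by
    obtain ⟨a, ha, e⟩ := h.π_surj v
    exact ⟨g * a * g⁻¹, mem_map_conj.2 (by simpa [mul_assoc] using ha), by simpa [mul_assoc] using e⟩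
  π_ker a ha := by
    rw [h.π_ker _ (mem_map_conj.1 ha)]
    constructor
    · rintro (e | e)
      · exact Or.inl (by rw [show a = g * (g⁻¹ * a * g) * g⁻¹ by group, e]; group)
      · exact Or.inr (by rw [show a = g * (g⁻¹ * a * g) * g⁻¹ by group, e])
    · rintro (e | e) <;> [exact Or.inl (by rw [e]; group); exact Or.inr (by rw [e]; group)]
  q_iff a ha := by
    rw [h.q_iff _ (mem_map_conj.1 ha), show g⁻¹ * a * g * (g⁻¹ * a * g) = g⁻¹ * (a * a) * g by group]
    constructor
    · intro e; rw [show a * a = g * (g⁻¹ * (a * a) * g) * g⁻¹ by group, e]; group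
    · intro e; rw [e]; group
  act c a ha := by
    show π (g⁻¹ * (c * a * (c : X)⁻¹) * g) = ψ (centConj z g c) (π (g⁻¹ * a * g))
    rw [← h.act (centConj z g c) _ (mem_map_conj.1 ha), centConj_coe]
    congr 1; group
  ker c := by
    show ψ (centConj z g c) = 1 ↔ _
    rw [h.ker, centConj_coe]
    exact (mem_map_conj).symm
  model := by
    have e : (ψ.comp (centConj z g)).range = ψ.range := by
      refine le_antisymm (by rintro _ ⟨c, rfl⟩; exact ⟨_, rfl⟩) ?_
      rintro _ ⟨c, rfl⟩
      refine ⟨⟨g * c * g⁻¹, Subgroup.mem_centralizer_singleton_iff.2 ?_⟩, ?_⟩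
      · have hc := Subgroup.mem_centralizer_singleton_iff.1 c.2
        calc g * c * g⁻¹ * (g * z * g⁻¹) = g * ((c : X) * z) * g⁻¹ := by group
          _ = _ := by rw [hc]; group
      · show ψ (centConj z g _) = ψ c
        congr 1
        exact Subtype.ext (by rw [centConj_coe]; simp [mul_assoc])
    rw [e]; exact h.model

theorem π_one : π 1 = 0 := (h.π_ker 1 (one_mem _)).2 (Or.inl rfl)

theorem π_z : π z = 0 := (h.π_ker z h.extra.z_mem).2 (Or.inr rfl)

theorem π_inv {a : X} (ha : a ∈ J) : π a⁻¹ = π a := by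
  have := h.π_mul a ha a⁻¹ (inv_mem ha)
  rw [mul_inv_cancel, h.π_one] at this
  calc π a⁻¹ = π a + π a + π a⁻¹ := by rw [add_self_V4, zero_add]
    _ = π a := by rw [add_assoc, ← this, add_zero]

theorem π_mul_z {a : X} (ha : a ∈ J) : π (a * z) = π a := by
  rw [h.π_mul a ha z h.extra.z_mem, h.π_z, add_zero]

theorem π_eq_iff {a b : X} (ha : a ∈ J) (hb : b ∈ J) : π a = π b ↔ b = a ∨ b = a * z := by
  constructor
  · intro e
    have := h.π_mul a⁻¹ (inv_mem ha) b hb
    rw [h.π_inv ha, e, add_self_V4] at this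
    rcases (h.π_ker _ (mul_mem (inv_mem ha) hb)).1 this with e' | e'
    · exact Or.inl (inv_mul_eq_one.1 e').symm
    · exact Or.inr (by rw [← e', mul_inv_cancel_left])
  · rintro (e | e) <;> rw [e]
    exact (h.π_mul_z ha).symm

theorem sq_cases {a : X} (ha : a ∈ J) : a * a = 1 ∨ a * a = z := h.extra.sq_cases ha

/-- Two elements commute exactly when their images are orthogonal. -/
theorem comm_iff {a b : X} (ha : a ∈ J) (hb : b ∈ J) : a * b = b * a ↔ bs4 (π a) (π b) = 0 := by
  have hq : ∀ {x : X}, x ∈ J → (q4 (π x) = 1 ↔ x * x = z) := by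
    intro x hx
    rcases h.sq_cases hx with e | e
    · rw [e, (h.q_iff x hx).2 e]
      exact ⟨fun e' => absurd e' (by decide), fun e' => absurd e'.symm h.extra.z_ne⟩
    · refine ⟨fun _ => e, fun _ => ?_⟩
      refine ((by decide : ∀ c : ZMod 2, c = 0 ∨ c = 1) _).resolve_left fun e' => ?_
      exact h.extra.z_ne (e.symm.trans ((h.q_iff x hx).1 e'))
  have hsq : ∀ {x : X}, x ∈ J → x * x = if q4 (π x) = 0 then 1 else z := by
    intro x hx
    split
    · rename_i e; exact (h.q_iff x hx).1 e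
    · rename_i e; exact (hq hx).1 (((by decide : ∀ c : ZMod 2, c = 0 ∨ c = 1) _).resolve_left e)
  have hab := mul_mem ha hb
  have key : a * b * (a * b) = a * a * (b * b) ↔ a * b = b * a := by
    constructor
    · intro e
      have : b * a * b = a * b * b := mul_left_cancel (a := a) (by simpa [mul_assoc] using e)
      exact (mul_right_cancel this).symm
    · intro e
      calc a * b * (a * b) = a * (b * a) * b := by group
        _ = a * a * (b * b) := by rw [← e]; group
  rw [← key, hsq hab, hsq ha, hsq hb, h.π_mul a ha b hb, bs4]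
  generalize q4 (π a + π b) = i
  generalize q4 (π a) = j
  generalize q4 (π b) = k
  have hz := h.extra.z_ne
  have hzz := h.extra.z_sq
  rcases (by decide : ∀ c : ZMod 2, c = 0 ∨ c = 1) i with rfl | rfl <;>
    rcases (by decide : ∀ c : ZMod 2, c = 0 ∨ c = 1) j with rfl | rfl <;>
    rcases (by decide : ∀ c : ZMod 2, c = 0 ∨ c = 1) k with rfl | rfl <;>
    simp [hz, Ne.symm hz, hzz, (by decide : (1 : ZMod 2) + 1 = 0)]

/-- Half of `J` centralises an element outside the centre. -/
theorem card_half {s : X} (hs : s ∈ J) (h1 : s ≠ 1) (hne : s ≠ z) :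
    Nat.card ↥(J ⊓ Subgroup.centralizer ({s} : Set X)) = 256 := by
  set D := J ⊓ Subgroup.centralizer ({s} : Set X) with hD
  have hmem : ∀ b : ↥J, b ∈ D.subgroupOf J ↔ (b : X) * s * (b : X)⁻¹ = s := fun b => by
    rw [Subgroup.mem_subgroupOf, hD, Subgroup.mem_inf, Subgroup.mem_centralizer_singleton_iff, mul_inv_eq_iff_eq_mul]
    exact ⟨fun e => e.2, fun e => ⟨b.2, e⟩⟩
  obtain ⟨q, hq, hqe⟩ := h.extra.exists_conj_eq hs h1 hne
  have hidx : (D.subgroupOf J).index = 2 := Subgroup.index_eq_two_iff.2 ⟨⟨q, hq⟩, fun b => by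
    rw [hmem, hmem]
    have e : ((b * ⟨q, hq⟩ : ↥J) : X) * s * ((b * ⟨q, hq⟩ : ↥J) : X)⁻¹ = (b : X) * s * (b : X)⁻¹ * z := by
      show (b : X) * q * s * ((b : X) * q)⁻¹ = _
      calc (b : X) * q * s * ((b : X) * q)⁻¹ = b * (q * s * q⁻¹) * (b : X)⁻¹ := by group
        _ = b * s * (z * (b : X)⁻¹) := by rw [hqe]; group
        _ = _ := by rw [h.extra.z_comm (inv_mem b.2)]; group
    rw [e]
    rcases h.extra.conj_cases hs b.2 with c | c <;> rw [c]
    · exact Or.inr ⟨rfl, fun e1 => h.extra.z_ne (mul_eq_left.1 e1)⟩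
    · exact Or.inl ⟨by rw [mul_assoc, h.extra.z_sq, mul_one], fun e1 => h.extra.z_ne (mul_eq_left.1 e1)⟩⟩
  have := (D.subgroupOf J).card_mul_index
  rw [hidx, Nat.card_congr (Subgroup.subgroupOfEquivOfLe (inf_le_left : D ≤ J)).toEquiv, h.card_J] at this
  change Nat.card ↥D * 2 = 512 at this
  omega

/-- A subgroup of order at least 64 is not abelian. -/
theorem exists_noncomm {K : Subgroup X} (hK : K ≤ J) (h64 : 64 ≤ Nat.card K) :
    ∃ a ∈ K, ∃ b ∈ K, a * b ≠ b * a := by
  by_contra hcon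
  push Not at hcon
  have hcentral : ∀ x y : ↥J, x⁻¹ * y * x * y⁻¹ ∈ Subgroup.center ↥J := fun x y => by
    rw [← h.extra.ext.1.2.2, _root_.commutator_def]
    simpa [commutatorElement_def] using
      Subgroup.commutator_mem_commutator (Subgroup.mem_top x⁻¹) (Subgroup.mem_top y)
  have d := Cfsg.Agent.S2880.double_count (K.subgroupOf J) hcentral h.extra.ext.2
  have hle : Nat.card (K.subgroupOf J) ≤ Nat.card (Subgroup.centralizer ((K.subgroupOf J) : Set ↥J)) := by
    refine Nat.card_le_card_of_injective _ (Subgroup.inclusion_injective (fun x hx => ?_))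
    exact Subgroup.mem_centralizer_iff.2 fun y hy => Subtype.ext (hcon y hy x hx)
  have hZ : Nat.card ↥(K.subgroupOf J ⊓ Subgroup.center ↥J) ≤ 2 := by
    rw [← h.extra.ext.2]
    exact Nat.card_le_card_of_injective _ (Subgroup.inclusion_injective inf_le_right)
  rw [Nat.card_congr (Subgroup.subgroupOfEquivOfLe hK).toEquiv] at hle d
  rw [h.card_J] at d
  nlinarith [d, hle, hZ, h64]

/-- The image of a subgroup of `J`. -/
noncomputable def imgV (_h : Core z J π ψ) (A : Subgroup X) (hA : A ≤ J) : AddSubgroup V4 :=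
  (AddMonoidHom.mk' (fun a : Additive ↥A => π (a.toMul : ↥A)) fun a b =>
    _h.π_mul _ (hA (a.toMul : ↥A).2) _ (hA (b.toMul : ↥A).2)).range

theorem mem_imgV {A : Subgroup X} {hA : A ≤ J} {v : V4} : v ∈ h.imgV A hA ↔ ∃ a ∈ A, π a = v := by
  constructor
  · rintro ⟨a, rfl⟩; exact ⟨_, (a.toMul : ↥A).2, rfl⟩
  · rintro ⟨a, ha, rfl⟩; exact ⟨Additive.ofMul ⟨a, ha⟩, rfl⟩

theorem card_imgV {A : Subgroup X} (hA : A ≤ J) : Nat.card A ≤ 2 * Nat.card (h.imgV A hA) := by
  classical
  set f : Additive ↥A →+ V4 := AddMonoidHom.mk' (fun a : Additive ↥A => π (a.toMul : ↥A)) (fun a b =>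
    h.π_mul _ (hA (a.toMul : ↥A).2) _ (hA (b.toMul : ↥A).2)) with hf
  have hk : Nat.card f.ker ≤ 2 := by
    let g : f.ker → ({1, z} : Set X) := fun a => ⟨((a.1.toMul : ↥A) : X), by
      rcases (h.π_ker _ (hA (a.1.toMul : ↥A).2)).1 a.2 with e | e
      · exact Or.inl e
      · exact Or.inr e⟩
    have hg : Function.Injective g := fun a b e =>
      Subtype.ext (Additive.toMul.injective (Subtype.ext (show (g a).1 = (g b).1 by rw [e])))
    refine (Nat.card_le_card_of_injective g hg).trans ?_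
    rw [Nat.card_coe_set_eq]
    exact (Set.ncard_insert_le _ _).trans (by rw [Set.ncard_singleton])
  have := f.ker.card_mul_index
  rw [AddSubgroup.index_ker] at this
  have hA' : Nat.card A = Nat.card f.ker * Nat.card f.range := by
    rw [this]; exact Nat.card_congr Additive.ofMul
  rw [hA']
  exact Nat.mul_le_mul_right _ hk

end Core

end CfsgLib.Recognition.USixTwo
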