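import Cfsg.Agent.Lib.Recognition.USixTwo.Points

/-!
# A Sylow subgroup centralising a transvection
-/

set_option autoImplicit false
set_option maxRecDepth 100000

namespace CfsgLib.Recognition.USixTwo

theorem finite_GL : Finite (V4 ≃ₗ[ZMod 2] V4) := Finite.of_injective _ DFunLike.coe_injective

theorem finite_sub (P : Subgroup (V4 ≃ₗ[ZMod 2] V4)) : Finite P := by
  haveI := finite_GL
  infer_instance

/-- The code of a list of columns. -/
def enc : List ℕ → ℕ
  | [] => 0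
  | c :: l => c + 256 * enc l

theorem cols_lt (g : V4 ≃ₗ[ZMod 2] V4) : ∀ c ∈ cols g, c < 256 := by
  intro c hc
  obtain ⟨n, -, rfl⟩ := List.mem_map.1 hc
  exact code_lt _

theorem syl_ok : sylWords.map wordCols = sylCols ∧ sylWords.all validW = true ∧ sylCols.Nodup ∧
    sylCols.length = 64 ∧ sylCols.all (fun a => sylCols.all fun b => sylCols.contains (mulCols a b)) = true ∧
    sylCols.contains idCols = true ∧
    (sylCols.all fun a => mulCols a (idCols.map fun n => code (tvFun v0 (dec n))) ==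
      mulCols (idCols.map fun n => code (tvFun v0 (dec n))) a) = true ∧
    sylCols.contains (idCols.map fun n => code (tvFun v0 (dec n))) = true := by decide +kernel

theorem cols_tv0 : cols (tv v0) = idCols.map fun n => code (tvFun v0 (dec n)) := by
  rw [cols]
  refine List.map_congr_left fun n _ => ?_
  rw [tv_apply v0_hm]; rfl

theorem syl_mul {g k : V4 ≃ₗ[ZMod 2] V4} (hg : cols g ∈ sylCols) (hk : cols k ∈ sylCols) : cols (g * k) ∈ sylCols := by
  rw [cols_mul]
  exact List.contains_iff_mem.1 (List.all_eq_true.1 (List.all_eq_true.1 syl_ok.2.2.2.2.1 _ hg) _ hk)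

/-- The Sylow subgroup. -/
noncomputable def TS : Subgroup (V4 ≃ₗ[ZMod 2] V4) where
  carrier := {g | cols g ∈ sylCols}
  one_mem' := by
    show cols 1 ∈ sylCols
    rw [cols_one]; exact List.contains_iff_mem.1 syl_ok.2.2.2.2.2.1
  mul_mem' := syl_mul
  inv_mem' := by
    intro g hg
    show cols g⁻¹ ∈ sylCols
    haveI := finite_GL
    have hpos : 0 < orderOf g := (isOfFinOrder_of_finite g).orderOf_pos
    have hpow : ∀ n, cols (g ^ n) ∈ sylCols := fun n => by
      induction n with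
      | zero => rw [pow_zero, cols_one]; exact List.contains_iff_mem.1 syl_ok.2.2.2.2.2.1
      | succ n ih => rw [pow_succ]; exact syl_mul ih hg
    have : g⁻¹ = g ^ (orderOf g - 1) :=
      inv_eq_of_mul_eq_one_right (by rw [← pow_succ', Nat.sub_add_cancel hpos, pow_orderOf_eq_one])
    rw [this]; exact hpow _

theorem mem_TS {g : V4 ≃ₗ[ZMod 2] V4} : g ∈ TS ↔ cols g ∈ sylCols := Iff.rfl

theorem syl_word {l : List ℕ} (hl : l ∈ sylCols) : ∃ w ∈ sylWords, validW w = true ∧ cols (wordE w) = l := by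
  rw [← syl_ok.1] at hl
  obtain ⟨w, hw, rfl⟩ := List.mem_map.1 hl
  exact ⟨w, hw, List.all_eq_true.1 syl_ok.2.1 _ hw, cols_wordE _ (List.all_eq_true.1 syl_ok.2.1 _ hw)⟩

theorem TS_le : TS ≤ TG := fun g hg => by
  obtain ⟨w, -, hv, e⟩ := syl_word (mem_TS.1 hg)
  rw [← cols_injective e]; exact wordE_mem hv

theorem TS_card : Nat.card TS = 64 := by
  classical
  haveI := finite_sub TS
  have hset : (fun g : ↥TS => cols g.1) '' Set.univ = ↑sylCols.toFinset := by
    ext l
    simp only [Set.image_univ, Set.mem_range, List.coe_toFinset, Set.mem_setOf_eq]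
    constructor
    · rintro ⟨g, rfl⟩; exact g.2
    · intro hl
      obtain ⟨w, -, -, e⟩ := syl_word hl
      exact ⟨⟨wordE w, by rw [mem_TS, e]; exact hl⟩, e⟩
  have h1 := Set.ncard_image_of_injective Set.univ
    (show Function.Injective (fun g : ↥TS => cols g.1) from fun a b e => Subtype.ext (cols_injective e))
  rw [hset, Set.ncard_coe_finset, List.toFinset_card_of_nodup syl_ok.2.2.1, syl_ok.2.2.2.1, Set.ncard_univ] at h1
  exact h1.symm

theorem tv0_mem_TS : tv v0 ∈ TS := by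
  rw [mem_TS, cols_tv0]; exact List.contains_iff_mem.1 syl_ok.2.2.2.2.2.2.2

theorem TS_commute {g : V4 ≃ₗ[ZMod 2] V4} (hg : g ∈ TS) : g * tv v0 = tv v0 * g := cols_injective (by
  rw [cols_mul, cols_mul, cols_tv0]
  exact beq_iff_eq.1 (List.all_eq_true.1 syl_ok.2.2.2.2.2.2.1 _ (mem_TS.1 hg)))

/-- A subgroup containing the Sylow subgroup conjugates every 2-subgroup into it. -/
theorem conj_into_TS {K C : Subgroup (V4 ≃ₗ[ZMod 2] V4)} (h : Model4 K) (hCK : C ≤ K) (hS : TS ≤ C)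
    {P : Subgroup (V4 ≃ₗ[ZMod 2] V4)} (hP : P ≤ C) (h2 : IsPGroup 2 P) :
    ∃ c ∈ C, ∀ g ∈ P, c * g * c⁻¹ ∈ TS := by
  haveI := finite_GL
  haveI : Fact (Nat.Prime 2) := ⟨Nat.prime_two⟩
  have hSp : IsPGroup 2 (TS.subgroupOf C) :=
    IsPGroup.of_card (n := 6) (by rw [Nat.card_congr (Subgroup.subgroupOfEquivOfLe hS).toEquiv, TS_card]; rfl)
  have hidx : ¬ 2 ∣ (TS.subgroupOf C).index := by
    intro hd
    have h1 := (TS.subgroupOf C).card_mul_index
    rw [Nat.card_congr (Subgroup.subgroupOfEquivOfLe hS).toEquiv, TS_card] at h1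
    have h2 : Nat.card C ∣ 25920 := h.card ▸ Subgroup.card_dvd_of_le hCK
    obtain ⟨k, hk⟩ := hd
    rw [← h1, hk, ← mul_assoc] at h2
    have : 128 ∣ 25920 := (Dvd.intro k rfl).trans h2
    omega
  let S : Sylow 2 C := hSp.toSylow hidx
  obtain ⟨R, hR⟩ := IsPGroup.exists_le_sylow (G := C) (h2.comap_of_injective C.subtype Subtype.val_injective)
  obtain ⟨c, hc⟩ := MulAction.exists_smul_eq C R S
  refine ⟨c, c.2, fun g hg => ?_⟩
  have hgR : (⟨g, hP hg⟩ : C) ∈ R := hR hg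
  have : MulAut.conj c ⟨g, hP hg⟩ ∈ (S : Subgroup C) := by
    rw [← hc]
    exact ⟨_, hgR, rfl⟩
  exact Subgroup.mem_subgroupOf.1 this

/-- A 2-subgroup of the group is conjugate into the Sylow subgroup. -/
theorem two_sub_conj {K : Subgroup (V4 ≃ₗ[ZMod 2] V4)} (h : Model4 K) {P : Subgroup (V4 ≃ₗ[ZMod 2] V4)}
    (hP : P ≤ K) (h2 : IsPGroup 2 P) : ∃ c ∈ K, ∀ g ∈ P, c * g * c⁻¹ ∈ TS :=
  conj_into_TS h le_rfl (TS_le.trans (TG_le_of_model h)) hP h2

/-- A 2-subgroup centralising the transvection is conjugate into the Sylow subgroup inside the centraliser. -/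
theorem two_sub_cent {K : Subgroup (V4 ≃ₗ[ZMod 2] V4)} (h : Model4 K) {P : Subgroup (V4 ≃ₗ[ZMod 2] V4)}
    (hP : P ≤ K) (h2 : IsPGroup 2 P) (hc : ∀ g ∈ P, g * tv v0 = tv v0 * g) :
    ∃ c ∈ K, c * tv v0 = tv v0 * c ∧ ∀ g ∈ P, c * g * c⁻¹ ∈ TS := by
  obtain ⟨c, hcC, hmem⟩ := conj_into_TS (C := K ⊓ Subgroup.centralizer ({tv v0} : Set _)) h inf_le_left
    (fun g hg => ⟨TG_le_of_model h (TS_le hg), Subgroup.mem_centralizer_singleton_iff.2 (TS_commute hg)⟩)
    (fun g hg => ⟨hP hg, Subgroup.mem_centralizer_singleton_iff.2 (hc g hg)⟩) h2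
  exact ⟨c, hcC.1, Subgroup.mem_centralizer_singleton_iff.1 hcC.2, hmem⟩

/-! ### Facts read on the Sylow subgroup -/

theorem inv_ok : sylCols.all (fun a => a == idCols || mulCols a a != idCols || sylInvs.any fun r =>
    validW r.1 && (wordCols r.1 == a) && (r.1.length == 1 || (r.1.length == 2 && r.1.getD 0 0 != r.1.getD 1 0 &&
      hN (ptCodes.getD (r.1.getD 0 0) 0) (ptCodes.getD (r.1.getD 1 0) 0) == 0))) = true := by decide +kernel

/-- The involutions are transvections and products of two orthogonal ones. -/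
theorem involution_cases {K : Subgroup (V4 ≃ₗ[ZMod 2] V4)} (h : Model4 K) {g : V4 ≃ₗ[ZMod 2] V4} (hg : g ∈ K)
    (h2 : g * g = 1) (h1 : g ≠ 1) :
    (∃ v, q4 v = 0 ∧ v ≠ 0 ∧ g = tv v) ∨ (∃ a b, q4 a = 0 ∧ a ≠ 0 ∧ q4 b = 0 ∧ b ≠ 0 ∧ hm a b = 0 ∧
      tv a ≠ tv b ∧ g = tv a * tv b) := by
  haveI : Fact (Nat.Prime 2) := ⟨Nat.prime_two⟩
  have hz : IsPGroup 2 (Subgroup.zpowers g) :=
    IsPGroup.of_card (n := 1) (by rw [Nat.card_zpowers, orderOf_eq_prime (by rw [pow_two, h2]) h1]; rfl)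
  obtain ⟨c, hc, hmem⟩ := two_sub_conj h (Subgroup.zpowers_le.2 hg) hz
  have hcs := List.all_eq_true.1 inv_ok _ (mem_TS.1 (hmem g (Subgroup.mem_zpowers g)))
  have e1 : ¬ cols (c * g * c⁻¹) = idCols := fun e => h1 (by
    have := cols_injective (e.trans cols_one.symm)
    rw [mul_inv_eq_one] at this
    exact mul_eq_left.1 this)
  have e2 : mulCols (cols (c * g * c⁻¹)) (cols (c * g * c⁻¹)) = idCols := by
    rw [← cols_mul, show c * g * c⁻¹ * (c * g * c⁻¹) = c * (g * g) * c⁻¹ by group, h2, mul_one, mul_inv_cancel,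
      cols_one]
  rw [beq_eq_false_iff_ne.2 e1, e2, bne_self_eq_false, Bool.false_or, Bool.false_or] at hcs
  obtain ⟨r, -, hr⟩ := List.any_eq_true.1 hcs
  simp only [Bool.and_eq_true, Bool.or_eq_true, beq_iff_eq] at hr
  obtain ⟨⟨hv, he⟩, hlen⟩ := hr
  have hg' : g = c⁻¹ * wordE r.1 * c := by
    rw [cols_injective ((cols_wordE _ hv).trans he : cols (wordE r.1) = cols (c * g * c⁻¹))]; group
  have hci : IsIso (c⁻¹ : V4 ≃ₗ[ZMod 2] V4) := inv_mem (h.le hc)
  have hmap : ∀ i, i < 45 → q4 (c⁻¹ (ptV i)) = 0 ∧ c⁻¹ (ptV i) ≠ 0 ∧ c⁻¹ * tvP i * c = tv (c⁻¹ (ptV i)) := by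
    intro i hi
    refine ⟨by rw [hci.quad, (ptV_q i hi).1], fun e => (ptV_q i hi).2 ?_, ?_⟩
    · rw [← map_zero (c⁻¹ : V4 ≃ₗ[ZMod 2] V4)] at e
      exact (c⁻¹ : V4 ≃ₗ[ZMod 2] V4).injective e
    · rw [← tv_map hci (ptV_q i hi).1, inv_inv]; rfl
  rcases hlen with hl | ⟨⟨hl, hne⟩, ho⟩
  · obtain ⟨i, hi⟩ := List.length_eq_one_iff.1 hl
    rw [hi] at hv hg'
    have hi' : i < 45 := by simpa [validW] using hv
    obtain ⟨a1, a2, a3⟩ := hmap i hi'
    exact Or.inl ⟨_, a1, a2, by rw [hg', ← a3, wordE, List.map_cons, List.map_nil, List.prod_cons, List.prod_nil, mul_one]⟩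
  · obtain ⟨i, j, hij⟩ := List.length_eq_two.1 hl
    rw [hij] at hv hg' hne ho
    simp only [validW, List.all_cons, List.all_nil, Bool.and_true, Bool.and_eq_true, decide_eq_true_eq] at hv
    simp only [List.getD_cons_zero, List.getD_cons_succ, bne_iff_ne] at hne ho
    obtain ⟨a1, a2, a3⟩ := hmap i hv.1
    obtain ⟨b1, b2, b3⟩ := hmap j hv.2
    refine Or.inr ⟨_, _, a1, a2, b1, b2, ?_, fun e => ?_, ?_⟩
    · rw [hci.hm]
      rw [← code_ptV hv.1, ← code_ptV hv.2, ← cd_hm] at ho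
      exact cd_inj (ho.trans cd_zero.symm)
    · rw [← a3, ← b3, mul_left_inj, mul_right_inj] at e
      exact hne (congrArg Fin.val (tvP_inj (i := ⟨i, hv.1⟩) (j := ⟨j, hv.2⟩) e))
    · rw [hg', ← a3, ← b3, wordE, List.map_cons, List.map_cons, List.map_nil, List.prod_cons, List.prod_cons,
        List.prod_nil, mul_one]
      group

/-- The codes of the vectors orthogonal to the standard one. -/
def perpCodes : List ℕ := (List.range 256).filter fun n => hN n 5 == 0

/-- The codes of the singular ones among them. -/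
def singPerp : List ℕ := perpCodes.filter fun n => !qN n

theorem pair_ok : sylCols.all (fun a => sylCols.all fun b =>
    mulCols a b != mulCols (idCols.map fun n => code (tvFun v0 (dec n))) (mulCols b a) ||
    singPerp.all fun n => lineN 5 n || apN a n != n || apN b n != n) = true := by decide +kernel

theorem move_ok : (List.any sylCols fun a => perpCodes.any fun n =>
    !(lineN 5 (apN a n ^^^ n))) = true := by decide +kernel

theorem fixed_ok : (List.range 256).all (fun n => !(sylCols.all fun a => apN a n == n) || lineN 5 n) = true := by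
  decide +kernel

theorem rad_ok : (sylCols.filter fun a => perpCodes.all fun n => lineN 5 (apN a n ^^^ n)).length ≤ 32 := by
  decide +kernel

theorem code_v0 : code v0 = 5 := by decide

theorem mem_perpCodes {v : V4} (h : hm v v0 = 0) : code v ∈ perpCodes := by
  have h' := hN_of_hm h
  rw [code_v0] at h'
  exact List.mem_filter.2 ⟨List.mem_range.2 (code_lt v), beq_iff_eq.2 h'⟩

theorem mem_singPerp {v : V4} (h : hm v v0 = 0) (hq : q4 v = 0) : code v ∈ singPerp :=
  List.mem_filter.2 ⟨mem_perpCodes h, by rw [(q4_eq_zero_iff v).1 hq]; rfl⟩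

attribute [local irreducible] sylCols sylWords sylInvs perpCodes singPerp

/-- Common fixed singular vectors of two elements with commutator the transvection: only the line. -/
theorem tau_pair {K P : Subgroup (V4 ≃ₗ[ZMod 2] V4)} (hK : Model4 K) (hPK : P ≤ K) (h2 : IsPGroup 2 P) {v : V4}
    (hq : q4 v = 0) (hv : v ≠ 0) (hc : ∀ p ∈ P, p * tv v = tv v * p) {g k : V4 ≃ₗ[ZMod 2] V4} (hg : g ∈ P)
    (hk : k ∈ P) (e : g * k = tv v * (k * g)) {x : V4} (hx : hm x v = 0) (hxq : q4 x = 0) (gx : g x = x)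
    (kx : k x = x) : ∃ c, x = scl c v := by
  obtain ⟨m, hm', rfl⟩ := exists_moving hq hv
  have hmi := TG_le hm'
  have hmK := TG_le_of_model hK hm'
  have hconj : tv (m v0) = m * tv v0 * m⁻¹ := (tv_conj hmi v0_hm).symm
  set P' := P.map (MulAut.conj m⁻¹).toMonoidHom with hP'
  have hP'K : P' ≤ K := by
    rintro _ ⟨p, hp, rfl⟩
    exact mul_mem (mul_mem (inv_mem hmK) (hPK hp)) (inv_mem (inv_mem hmK))
  have hP'2 : IsPGroup 2 P' := h2.map _
  have hP'c : ∀ p ∈ P', p * tv v0 = tv v0 * p := by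
    rintro _ ⟨p, hp, rfl⟩
    have := hc p hp
    rw [hconj] at this
    show m⁻¹ * p * m⁻¹⁻¹ * tv v0 = tv v0 * (m⁻¹ * p * m⁻¹⁻¹)
    calc m⁻¹ * p * m⁻¹⁻¹ * tv v0 = m⁻¹ * (p * (m * tv v0 * m⁻¹)) * m := by group
      _ = _ := by rw [this]; group
  obtain ⟨c, hcK, hcc, hmem⟩ := two_sub_cent hK hP'K hP'2 hP'c
  have hci : IsIso c := hK.le hcK
  set g' := c * (m⁻¹ * g * m⁻¹⁻¹) * c⁻¹ with hg'
  set k' := c * (m⁻¹ * k * m⁻¹⁻¹) * c⁻¹ with hk'
  have hgS : g' ∈ TS := hmem _ ⟨g, hg, rfl⟩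
  have hkS : k' ∈ TS := hmem _ ⟨k, hk, rfl⟩
  have he : g' * k' = tv v0 * (k' * g') := by
    have hcc' : c * tv v0 * c⁻¹ = tv v0 := by rw [hcc, mul_inv_cancel_right]
    calc g' * k' = c * (m⁻¹ * (g * k) * m) * c⁻¹ := by rw [hg', hk']; group
      _ = c * tv v0 * c⁻¹ * (k' * g') := by rw [e, hconj, hg', hk']; group
      _ = _ := by rw [hcc']
  set y := c (m.symm x) with hy
  obtain ⟨l, hl, hcv⟩ : ∃ l, l ≠ 0 ∧ c v0 = scl l v0 := by
    have h0 : q4 v0 = 0 ∧ v0 ≠ 0 := by decide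
    refine tv_eq_tv h0.1 (by rw [hci.quad]; exact h0.1) h0.2 (fun e0 => h0.2 ?_) ?_
    · rw [← map_zero c] at e0; exact c.injective e0
    · rw [← tv_map hci h0.1, hcc, mul_inv_cancel_right]
  have hy0 : hm y v0 = 0 := by
    have h0 : hm y (c v0) = 0 := by
      rw [hy, hci.hm]
      have := hmi.hm (m.symm x) v0
      rw [m.apply_symm_apply] at this
      rw [← this]; exact hx
    rw [hcv, hm_scl_right] at h0
    exact (by decide : ∀ a b : CfsgLib.Sporadic.LargeFischer.D4, a ≠ 0 → fm (cj a) b = 0 → b = 0) l _ hl h0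
  have hyq : q4 y = 0 := by
    rw [hy, hci.quad, ← hmi.quad, m.apply_symm_apply]; exact hxq
  have happ : ∀ {f : V4 ≃ₗ[ZMod 2] V4}, f x = x → (c * (m⁻¹ * f * m⁻¹⁻¹) * c⁻¹) y = y := by
    intro f hf
    show c (m.symm (f (m (c.symm (c (m.symm x)))))) = c (m.symm x)
    rw [c.symm_apply_apply, m.apply_symm_apply, hf]
  have := List.all_eq_true.1 (List.all_eq_true.1 pair_ok _ (mem_TS.1 hgS)) _ (mem_TS.1 hkS)
  have e3 : mulCols (cols g') (cols k') =
      mulCols (idCols.map fun n => code (tvFun v0 (dec n))) (mulCols (cols k') (cols g')) := by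
    rw [← cols_tv0, ← cols_mul, ← cols_mul, ← cols_mul, he]
  rw [e3, bne_self_eq_false, Bool.false_or] at this
  have h1 := List.all_eq_true.1 this _ (mem_singPerp hy0 hyq)
  rw [← code_apply, happ gx, bne_self_eq_false, Bool.or_false, ← code_apply, happ kx, bne_self_eq_false,
    Bool.or_false, ← code_v0] at h1
  obtain ⟨d, hd⟩ := (lineN_iff _ _).1 h1
  obtain ⟨l', hl'⟩ := cj_fm l hl
  refine ⟨fm d l', ?_⟩
  apply (m.trans (1 : V4 ≃ₗ[ZMod 2] V4)).symm.injective
  show m.symm x = m.symm (scl (fm d l') (m v0))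
  rw [← hmi.scl, m.symm_apply_apply]
  apply c.injective
  rw [hci.scl, hcv, scl_scl, show fm (fm d l') l = fm d (fm l' l) from
    (by decide : ∀ a b x : CfsgLib.Sporadic.LargeFischer.D4, fm (fm a b) x = fm a (fm b x)) _ _ _, hl',
    show fm d (1, 0) = d from (by decide : ∀ a : CfsgLib.Sporadic.LargeFischer.D4, fm a (1, 0) = a) _]
  exact hd

theorem fm_zero : ∀ a : CfsgLib.Sporadic.LargeFischer.D4, fm a 0 = 0 := by decide

/-- A subgroup of order 64 fixing an isotropic vector moves its orthogonal out of the line. -/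
theorem big_moves {K P : Subgroup (V4 ≃ₗ[ZMod 2] V4)} (hK : Model4 K) (hPK : P ≤ K) (h64 : Nat.card P = 64)
    {v : V4} (hq : q4 v = 0) (hv : v ≠ 0) (hfix : ∀ p ∈ P, p v = v) :
    ∃ p ∈ P, ∃ x, hm x v = 0 ∧ ¬ ∃ c, p x + x = scl c v := by
  haveI := finite_GL
  haveI : Fact (Nat.Prime 2) := ⟨Nat.prime_two⟩
  have h2 : IsPGroup 2 P := IsPGroup.of_card (n := 6) (by rw [h64]; rfl)
  obtain ⟨c, hcK, hmem⟩ := two_sub_conj hK hPK h2
  have hci : IsIso c := hK.le hcK
  have hall : ∀ s ∈ TS, ∃ p ∈ P, c * p * c⁻¹ = s := by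
    have hle : P.map (MulAut.conj c).toMonoidHom ≤ TS := by
      rintro _ ⟨p, hp, rfl⟩; exact hmem p hp
    have heq : P.map (MulAut.conj c).toMonoidHom = TS := Subgroup.eq_of_le_of_card_ge hle (by
      rw [Subgroup.card_map_of_injective (MulAut.conj c).injective, h64, TS_card])
    intro s hs
    rw [← heq] at hs
    obtain ⟨p, hp, rfl⟩ := hs
    exact ⟨p, hp, rfl⟩
  have hline : lineN 5 (code (c v)) = true := by
    have := forall_of_codes fixed_ok (c v)
    rw [Bool.or_eq_true] at this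
    refine this.resolve_left fun e => ?_
    rw [Bool.not_eq_true', List.all_eq_false] at e
    obtain ⟨a, ha, hne⟩ := e
    obtain ⟨w, -, -, hw⟩ := syl_word ha
    obtain ⟨p, hp, hpe⟩ := hall (wordE w) (by rw [mem_TS, hw]; exact ha)
    apply hne
    rw [beq_iff_eq, ← hw, ← code_apply, ← hpe]
    show code (c (p (c.symm (c v)))) = code (c v)
    rw [c.symm_apply_apply, hfix p hp]
  rw [← code_v0] at hline
  obtain ⟨l, hl⟩ := (lineN_iff _ _).1 hline
  obtain ⟨a, ha, hne⟩ := List.any_eq_true.1 move_ok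
  obtain ⟨n, hn, hout⟩ := List.any_eq_true.1 hne
  obtain ⟨hn256, hn0⟩ : n ∈ List.range 256 ∧ (hN n 5 == 0) = true := by
    unfold perpCodes at hn; exact List.mem_filter.1 hn
  obtain ⟨w, -, -, hw⟩ := syl_word ha
  obtain ⟨p, hp, hpe⟩ := hall (wordE w) (by rw [mem_TS, hw]; exact ha)
  refine ⟨p, hp, c.symm (dec n), ?_, ?_⟩
  · have := hci.hm (c.symm (dec n)) v
    rw [c.apply_symm_apply, hl, hm_scl_right] at this
    rw [← this, show hm (dec n) v0 = 0 from cd_inj (by
      rw [cd_hm, codes_ok n (List.mem_range.1 hn256), code_v0, beq_iff_eq.1 hn0, cd_zero]),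
      fm_zero]
  · rintro ⟨d, hd⟩
    rw [Bool.not_eq_true'] at hout
    refine Bool.false_ne_true (hout.symm.trans ?_)
    rw [← hw, ← codes_ok n (List.mem_range.1 hn256), ← code_apply, ← code_add, ← code_v0, lineN_iff]
    refine ⟨fm d l, ?_⟩
    have h1 : wordE w (dec n) = c (p (c.symm (dec n))) := by rw [← hpe]; rfl
    have h2 := congrArg c hd
    rw [map_add, c.apply_symm_apply, hci.scl, hl, scl_scl] at h2
    rw [h1, h2]

end CfsgLib.Recognition.USixTwo
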