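import Cfsg.Agent.Lib.Recognition.USixTwo.Couple

/-!
# Commuting conjugates acting as transvections

If one of two commuting conjugates acts on the other's coordinates as a transvection then so does the other,
and the intersection of the two extraspecial groups is read off from the conjugates of `w` under `J`.
-/

set_option autoImplicit false
set_option linter.unusedSectionVars false

namespace CfsgLib.Recognition.USixTwo

open CfsgLib.ThreeTransp.Extraspecial
open CfsgLib.Sporadic.LargeFischer (D4 om nzd)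

attribute [local irreducible] sylCols perpCodes

theorem omV_three (x : V4) : omV (omV (omV x)) = x := by
  rw [omV_eq, omV_eq, omV_eq, scl_scl, scl_scl]
  exact scl_one x

/-- The image of the product of two orthogonal transvections minus the identity is their span. -/
theorem uu_surj {a b : V4} (ha : q4 a = 0) (ha0 : a ≠ 0) (hb : q4 b = 0) (hb0 : b ≠ 0) (h : hm a b = 0)
    (hne : tv a ≠ tv b) (c d : D4) : ∃ x, (tv a * tv b) x + x = scl c a + scl d b := by
  obtain ⟨g, hg, rfl, l, hl, rfl⟩ := exists_pair ha ha0 hb hb0 h hne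
  have hgi : IsIso g := TG_le hg
  have std : hm (ev 0) v0 = (1, 0) ∧ hm (ev 2) v0 = 0 ∧ hm (ev 0) b0 = 0 ∧ hm (ev 2) b0 = (1, 0) := by decide
  obtain ⟨y, hy⟩ : ∃ y, fm y (cj l) = d :=
    (by decide : ∀ l d : D4, l ≠ 0 → ∃ y, fm y (cj l) = d) l d hl
  refine ⟨scl c (g (ev 0)) + scl y (g (ev 2)), ?_⟩
  set x := scl c (g (ev 0)) + scl y (g (ev 2)) with hx
  have e1 : hm x (g v0) = c := by
    rw [hx, hm_add_left, hm_scl_left, hm_scl_left, hgi.hm, hgi.hm, std.1, std.2.1]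
    exact (by decide : ∀ c y : D4, fm c (1, 0) + fm y 0 = c) c y
  have e2 : hm x (scl l (g b0)) = d := by
    rw [hm_scl_right, hx, hm_add_left, hm_scl_left, hm_scl_left, hgi.hm, hgi.hm, std.2.2.1, std.2.2.2, ← hy]
    exact (by decide : ∀ c y l : D4, fm l (fm c 0 + fm y (1, 0)) = fm y l) c y (cj l)
  have e3 : hm (scl d (scl l (g b0))) (g v0) = 0 := by
    rw [hm_scl_left, hm_symm, h]
    exact fm_zero d
  show tv (g v0) (tv (scl l (g b0)) x) + x = _
  rw [tv_apply (hm_self_zero hb), e2, map_add, tv_apply (hm_self_zero ha), tv_apply (hm_self_zero ha), e1, e3,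
    scl_zero, add_zero, add_comm x (scl c (g v0))]
  calc scl c (g v0) + x + scl d (scl l (g b0)) + x = scl c (g v0) + scl d (scl l (g b0)) + (x + x) := by abel
    _ = _ := by rw [add_self_V4, add_zero]

/-- A 2-group centralising a transvection moves, by conjugation, into the standard Sylow subgroup. -/
theorem to_std {K P : Subgroup (V4 ≃ₗ[ZMod 2] V4)} (hK : Model4 K) (hPK : P ≤ K) (h2 : IsPGroup 2 P) {v : V4}
    (hq : q4 v = 0) (hv : v ≠ 0) (hc : ∀ p ∈ P, p * tv v = tv v * p) :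
    ∃ d : V4 ≃ₗ[ZMod 2] V4, IsIso d ∧ (∀ p ∈ P, d * p * d⁻¹ ∈ TS) ∧ ∃ l, l ≠ 0 ∧ d v = scl l v0 := by
  obtain ⟨m, hm', rfl⟩ := exists_moving hq hv
  have hmi := TG_le hm'
  have hmK := TG_le_of_model hK hm'
  have hconj : tv (m v0) = m * tv v0 * m⁻¹ := (tv_conj hmi v0_hm).symm
  have hP'K : P.map (MulAut.conj m⁻¹).toMonoidHom ≤ K := by
    rintro _ ⟨p, hp, rfl⟩
    exact mul_mem (mul_mem (inv_mem hmK) (hPK hp)) (inv_mem (inv_mem hmK))
  obtain ⟨c, hcK, hcc, hmem⟩ := two_sub_cent hK hP'K (h2.map _) (by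
    rintro _ ⟨p, hp, rfl⟩
    have := hc p hp
    rw [hconj] at this
    show m⁻¹ * p * m⁻¹⁻¹ * tv v0 = tv v0 * (m⁻¹ * p * m⁻¹⁻¹)
    calc m⁻¹ * p * m⁻¹⁻¹ * tv v0 = m⁻¹ * (p * (m * tv v0 * m⁻¹)) * m := by group
      _ = _ := by rw [this]; group)
  have hci : IsIso c := hK.le hcK
  refine ⟨c * m⁻¹, mul_mem (show c ∈ isoGroup from hci) (inv_mem hmi), fun p hp => ?_, ?_⟩
  · have := hmem _ ⟨p, hp, rfl⟩
    rw [show c * m⁻¹ * p * (c * m⁻¹)⁻¹ = c * (m⁻¹ * p * m⁻¹⁻¹) * c⁻¹ by group]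
    exact this
  · show ∃ l, l ≠ 0 ∧ c (m.symm (m v0)) = scl l v0
    rw [m.symm_apply_apply]
    have h0 : q4 v0 = 0 ∧ v0 ≠ 0 := by decide
    refine tv_eq_tv h0.1 (by rw [hci.quad]; exact h0.1) h0.2 (fun e0 => h0.2 ?_) ?_
    · rw [← map_zero c] at e0; exact c.injective e0
    · rw [← tv_map hci h0.1, hcc, mul_inv_cancel_right]

/-- A 2-group centralising a transvection and trivial on its orthogonal modulo the line has at most 32 elements. -/
theorem rad_card {K P : Subgroup (V4 ≃ₗ[ZMod 2] V4)} (hK : Model4 K) (hPK : P ≤ K) (h2 : IsPGroup 2 P) {v : V4}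
    (hq : q4 v = 0) (hv : v ≠ 0) (hc : ∀ p ∈ P, p * tv v = tv v * p)
    (hrad : ∀ p ∈ P, ∀ x, hm x v = 0 → ∃ c, p x + x = scl c v) : Nat.card P ≤ 32 := by
  classical
  obtain ⟨d, hdi, hmem, l, hl, hdv⟩ := to_std hK hPK h2 hq hv hc
  set L := (sylCols.filter fun a => perpCodes.all fun n => lineN 5 (apN a n ^^^ n)) with hL
  have hmemL : ∀ p : P, cols (d * p.1 * d⁻¹) ∈ L.toFinset := by
    intro p
    rw [List.mem_toFinset, hL, List.mem_filter, List.all_eq_true]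
    refine ⟨mem_TS.1 (hmem _ p.2), fun n hn => ?_⟩
    unfold perpCodes at hn
    obtain ⟨hn1, hn2⟩ := List.mem_filter.1 hn
    have hx : hm (d.symm (dec n)) v = 0 := by
      rw [← hdi.hm, d.apply_symm_apply, hdv, hm_scl_right,
        show hm (dec n) v0 = 0 from cd_inj (by
          rw [cd_hm, codes_ok n (List.mem_range.1 hn1), code_v0, beq_iff_eq.1 hn2, cd_zero]), fm_zero]
    obtain ⟨c, hc⟩ := hrad _ p.2 _ hx
    have h' := congrArg d hc
    rw [map_add, d.apply_symm_apply, hdi.scl, hdv, scl_scl] at h'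
    rw [← codes_ok n (List.mem_range.1 hn1), ← code_apply, ← code_add, ← code_v0, lineN_iff]
    exact ⟨_, h'⟩
  have hle := Nat.card_le_card_of_injective (fun p : P => (⟨_, hmemL p⟩ : ↥L.toFinset))
    (fun p q e => Subtype.ext (mul_left_cancel (mul_right_cancel (cols_injective (congrArg Subtype.val e)))))
  rw [Nat.card_eq_fintype_card (α := ↥L.toFinset), Fintype.card_coe] at hle
  exact hle.trans ((List.toFinset_card_le _).trans rad_ok)

variable {X : Type*} [Group X] [Finite X] {z w : X} {J J' : Subgroup X} {π π' : X → V4}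
  {ψ : ↥(Subgroup.centralizer ({z} : Set X)) →* (V4 ≃ₗ[ZMod 2] V4)}
  {ψ' : ↥(Subgroup.centralizer ({w} : Set X)) →* (V4 ≃ₗ[ZMod 2] V4)}

namespace Couple

variable (P : Couple z w J J' π π' ψ ψ')
include P

theorem meet_fixed {b : X} (hb : b ∈ J) (hb' : b ∈ J') : ψ (cz P.comm) (π b) = π b := by
  rw [← P.act_w hb, ← P.hw.cent_z hb', mul_inv_cancel_right]

/-- For a product of two transvections the other centraliser fixes both points. -/
theorem plane_fix {a b : V4} (ha : q4 a = 0) (ha0 : a ≠ 0) (hb : q4 b = 0) (hb0 : b ≠ 0) (h : hm a b = 0)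
    (hne : tv a ≠ tv b) (e : ψ (cz P.comm) = tv a * tv b) : ∀ p ∈ P.symm.actOn.range, p a = a ∧ p b = b := by
  obtain ⟨θ, hθ, θa, θb, -⟩ := exists_theta ha ha0 hb hb0 h hne
  have hθi : IsIso θ := TG_le hθ
  obtain ⟨c, hc⟩ : θ ∈ ψ.range := TG_le_of_model P.hz.model hθ
  have ta : tv (omV a) = tv a := by rw [omV_eq, tv_scl (hm_self_zero ha) (by decide)]
  have tb : tv (omV (omV b)) = tv b := by rw [← scl_ww, tv_scl (hm_self_zero hb) (by decide)]
  have hu : θ * (tv a * tv b) * θ⁻¹ = tv a * tv b := by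
    rw [show θ * (tv a * tv b) * θ⁻¹ = θ * tv a * θ⁻¹ * (θ * tv b * θ⁻¹) by group, tv_map hθi ha,
      tv_map hθi hb, θa, θb, ta, tb]
  set w' := (c : X) * w * (c : X)⁻¹ with hw'
  have hsq : w' * w' = 1 := by
    rw [hw', show (c : X) * w * (c : X)⁻¹ * (c * w * (c : X)⁻¹) = c * (w * w) * (c : X)⁻¹ by group, P.ww, mul_one,
      mul_inv_cancel]
  have heJ : w * w' ∈ J := by
    refine (P.hz.ker (cz P.comm * (c * cz P.comm * c⁻¹))).1 ?_
    rw [map_mul, map_mul, map_mul, map_inv, hc, e, hu, ← e, P.psi_sq]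
  have hefix : ψ (cz P.comm) (π (w * w')) = π (w * w') := by
    rw [← P.act_w heJ, show w * (w * w') * w⁻¹ = (w * w')⁻¹ by
      rw [← mul_assoc, P.ww, one_mul, mul_inv_rev, inv_eq_of_mul_eq_one_right hsq], P.hz.π_inv heJ]
  rw [e, uu_fixed ha ha0 hb hb0 hne] at hefix
  obtain ⟨C, D, hCD⟩ := perp_span ha ha0 hb hb0 h hne hefix.1 hefix.2
  obtain ⟨x, hx⟩ := uu_surj ha ha0 hb hb0 h hne C D
  obtain ⟨j, hj, rfl⟩ := P.hz.π_surj x
  have hπ : π (w * (j * w * j⁻¹)) = π (w * w') := by rw [P.π_cof hj, e, hx, hCD]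
  set c₁ : ↥(Subgroup.centralizer ({z} : Set X)) := (⟨j, P.hz.mem_cent hj⟩ : ↥(Subgroup.centralizer ({z} : Set X)))⁻¹ * c with hc₁
  have hz₁ : (c₁ : X) * z = z * c₁ := Subgroup.mem_centralizer_singleton_iff.1 c₁.2
  have hψ₁ : ψ c₁ = θ := by
    rw [hc₁, map_mul, map_inv, (P.hz.ker ⟨j, P.hz.mem_cent hj⟩).2 hj, inv_one, one_mul, hc]
  have h1 : (c₁ : X) * w * (c₁ : X)⁻¹ = w ∨ (c₁ : X) * w * (c₁ : X)⁻¹ = w * z := by
    have hcoe : (c₁ : X) * w * (c₁ : X)⁻¹ = j⁻¹ * w' * j := by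
      rw [hc₁, hw']
      show j⁻¹ * c * w * (j⁻¹ * c)⁻¹ = _
      group
    rw [hcoe]
    rcases (P.hz.π_eq_iff (P.cof_mem hj) heJ).1 hπ with e' | e'
    · left; rw [mul_left_cancel e']; group
    · right
      rw [mul_assoc w] at e'
      rw [mul_left_cancel e', show j⁻¹ * (j * w * j⁻¹ * z) * j = w * (j⁻¹ * (z * j)) by group,
        ← P.jcomm hj]
      group
  have h2 : ((c₁ * c₁ : ↥(Subgroup.centralizer ({z} : Set X))) : X) * w = w * (c₁ * c₁ : ↥(Subgroup.centralizer ({z} : Set X))) := by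
    refine mul_inv_eq_iff_eq_mul.1 ?_
    show (c₁ : X) * c₁ * w * ((c₁ : X) * c₁)⁻¹ = w
    rw [show (c₁ : X) * c₁ * w * ((c₁ : X) * c₁)⁻¹ = c₁ * ((c₁ : X) * w * (c₁ : X)⁻¹) * (c₁ : X)⁻¹ by group]
    rcases h1 with e' | e' <;> rw [e']
    · exact e'
    · rw [show (c₁ : X) * (w * z) * (c₁ : X)⁻¹ = ((c₁ : X) * w * (c₁ : X)⁻¹) * ((c₁ : X) * z * (c₁ : X)⁻¹) by group,
        e', hz₁, mul_inv_cancel_right, mul_assoc, P.zz, mul_one]
  have θθa : (θ * θ) a = omV (omV a) := by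
    show θ (θ a) = _
    rw [θa, hθi.lin, θa]
  have θθb : (θ * θ) b = omV b := by
    show θ (θ b) = _
    rw [θb, hθi.lin, hθi.lin, θb, omV_three]
  intro p hp
  refine (plane_of_normalised (a := b) (b := a) hb hb0 ha ha0 (by rw [hm_symm, h]; rfl) hne.symm
    (mul_mem (show θ ∈ isoGroup from hθi) hθi) θθb θθa _ P.symm.actOn_two
    (fun q hq => P.hz.model.le (P.symm.actOn_le hq)) (fun q hq => ?_) (fun q hq => ?_) p hp).symm
  · rw [tv_commute hb ha (by rw [hm_symm, h]; rfl), ← e]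
    exact P.symm.actOn_comm q hq
  · obtain ⟨k, rfl⟩ := hq
    obtain ⟨hk, hkz⟩ := Subgroup.mem_inf.1 k.2
    set c₂ := c₁ * c₁ with hc₂
    have hc₂k : (c₂ * ⟨k, hkz⟩ * c₂⁻¹ : ↥(Subgroup.centralizer ({z} : Set X))).1 ∈
        J' ⊓ Subgroup.centralizer ({z} : Set X) := Subgroup.mem_inf.2 ⟨P.hw.norm _ h2 _ hk, Subtype.prop _⟩
    refine ⟨⟨_, hc₂k⟩, ?_⟩
    rw [P.symm.actOn_apply, P.symm.actOn_apply]
    show ψ (c₂ * ⟨k, hkz⟩ * c₂⁻¹) = _
    rw [map_mul, map_mul, map_inv, hc₂, map_mul, hψ₁]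

section Tau

variable {v : V4} (hq : q4 v = 0) (hv : v ≠ 0) (he : ψ (cz P.comm) = tv v)
include hq hv he

theorem π_cof_line {j : X} (hj : j ∈ J) : π (w * (j * w * j⁻¹)) = scl (hm (π j) v) v := by
  rw [P.π_cof hj, he, tv_apply (hm_self_zero hq), add_comm (π j), add_assoc, add_self_V4, add_zero]

theorem cent_big : 64 ≤ Nat.card ↥(J ⊓ Subgroup.centralizer ({w} : Set X)) := by
  classical
  have h := P.card_cent (W := (Finset.univ : Finset D4).image fun c => scl c v) fun j hj =>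
    Finset.mem_image.2 ⟨_, Finset.mem_univ _, (P.π_cof_line hq hv he hj).symm⟩
  have hc : ((Finset.univ : Finset D4).image fun c => scl c v).card ≤ 4 := Finset.card_image_le.trans (by decide)
  nlinarith

/-- Then `z` acts as a transvection at `w`. -/
theorem tau_symm : ∃ u, q4 u = 0 ∧ u ≠ 0 ∧ ψ' (cz P.symm.comm) = tv u := by
  rcases P.symm.psi_cases with h | ⟨a, b, ha, ha0, hb, hb0, h, hne, e⟩
  · exact h
  exfalso
  obtain ⟨g, hg, k, hk, hgk⟩ := P.exists_commutator (P.cent_big hq hv he)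
  have hfix := P.symm.plane_fix ha ha0 hb hb0 h hne e
  have hcomm := plane_comm ha ha0 hb hb0 h hne (P.hw.model.le (P.actOn_le hg)) (P.hw.model.le (P.actOn_le hk))
    (hfix g hg).1 (hfix g hg).2 (hfix k hk).1 (hfix k hk).2
  rw [← hcomm] at hgk
  exact P.symm.psi_ne (mul_eq_right.1 hgk.symm)

/-- The fixed singular vectors of the other group are on the line. -/
theorem fixed_line {x : V4} (hx : hm x v = 0) (hxq : q4 x = 0) (hfix : ∀ p ∈ P.symm.actOn.range, p x = x) :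
    ∃ c, x = scl c v := by
  obtain ⟨u, hu, hu0, hue⟩ := P.tau_symm hq hv he
  obtain ⟨g, hg, k, hk, hgk⟩ := P.symm.exists_commutator (P.symm.cent_big hu hu0 hue)
  exact tau_pair P.hz.model P.symm.actOn_le P.symm.actOn_two hq hv (fun p hp => he ▸ P.symm.actOn_comm p hp)
    hg hk (hgk.trans (by rw [← he])) hx hxq (hfix g hg) (hfix k hk)

theorem meet_line {b : X} (hb : b ∈ J) (hb' : b ∈ J') : ∃ c, π b = scl c v :=
  P.fixed_line hq hv he ((tv_fixed hq hv).1 (he ▸ P.meet_fixed hb hb')) ((P.hz.q_iff b hb).2 (P.meet_sq hb hb'))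
    (P.symm.actOn_fix hb' hb)

theorem exists_cof (c : D4) : ∃ j ∈ J, π (w * (j * w * j⁻¹)) = scl c v := by
  obtain ⟨i, hi⟩ := hm_nondeg hv
  obtain ⟨y, hy⟩ := cj_fm _ hi
  obtain ⟨j, hj, hπ⟩ := P.hz.π_surj (scl (fm c y) (ev i))
  refine ⟨j, hj, ?_⟩
  rw [P.π_cof_line hq hv he hj, hπ, hm_scl_left]
  congr 1
  rw [show fm (fm c y) (hm (ev i) v) = fm c (fm y (hm (ev i) v)) from
    (by decide : ∀ a b x : D4, fm (fm a b) x = fm a (fm b x)) _ _ _, hy]
  exact (by decide : ∀ c : D4, fm c (1, 0) = c) c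

/-- The conjugate of `w` by an element of `J` is never `w z`. -/
theorem no_flip {j : X} (hj : j ∈ J) : j * w * j⁻¹ ≠ w * z := by
  intro hflip
  have hall : ∀ {x : X}, x ∈ J → (∃ c, π x = scl c v) → ∃ j' ∈ J, x = w * (j' * w * j'⁻¹) := by
    rintro x hx ⟨c, hc⟩
    obtain ⟨j₁, hj₁, e₁⟩ := P.exists_cof hq hv he c
    rcases (P.hz.π_eq_iff (P.cof_mem hj₁) hx).1 (e₁.trans hc.symm) with e | e
    · exact ⟨j₁, hj₁, e⟩
    · refine ⟨j₁ * j, mul_mem hj₁ hj, ?_⟩
      rw [e, P.cof_mul, hflip, ← mul_assoc w w z, P.ww, one_mul, P.jcomm hj₁, mul_inv_cancel_right]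
  have hB : ∀ b ∈ J, b ∈ J' → b = 1 := by
    intro b hb hb'
    obtain ⟨j', hj', rfl⟩ := hall hb (P.meet_line hq hv he hb hb')
    rw [P.conj_not_mem hj' ((Subgroup.mul_mem_cancel_left _ P.hw.extra.z_mem).1 hb'), P.ww]
  have hfix : ∀ a ∈ J, a * w = w * a → ∀ p ∈ P.symm.actOn.range, p (π a) = π a := by
    rintro a ha haw _ ⟨k, rfl⟩
    obtain ⟨hk, hkz⟩ := Subgroup.mem_inf.1 k.2
    have hkz' := Subgroup.mem_centralizer_singleton_iff.1 hkz
    obtain ⟨m1, m2⟩ := P.comm_meet ha haw hk hkz'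
    rw [P.symm.actOn_apply, ← P.hz.act _ a ha]
    congr 1
    show (k : X) * a * (k : X)⁻¹ = a
    rw [mul_inv_eq_iff_eq_mul]
    calc (k : X) * a = (a * k * a⁻¹ * (k : X)⁻¹)⁻¹ * (a * k) := by group
      _ = a * k := by rw [hB _ m1 m2, inv_one, one_mul]
  set K := J ⊓ Subgroup.centralizer ({w} : Set X) with hK
  have hperp : ∀ x ∈ P.hz.imgV K inf_le_left, hm x v = 0 := by
    intro x hx
    obtain ⟨a, ha, rfl⟩ := P.hz.mem_imgV.1 hx
    obtain ⟨ha1, ha2⟩ := Subgroup.mem_inf.1 ha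
    have := P.act_w ha1
    rw [← Subgroup.mem_centralizer_singleton_iff.1 ha2, mul_inv_cancel_right, he] at this
    exact (tv_fixed hq hv).1 this.symm
  have h32 : 32 ≤ Nat.card (P.hz.imgV K inf_le_left) := by
    have h1 := P.hz.card_imgV (A := K) inf_le_left
    have h2 : 64 ≤ Nat.card ↥K := P.cent_big hq hv he
    omega
  obtain ⟨x, hx, hxq, hoff⟩ := exists_singular_off hq hv _ hperp h32
  obtain ⟨a, ha, rfl⟩ := P.hz.mem_imgV.1 hx
  obtain ⟨ha1, ha2⟩ := Subgroup.mem_inf.1 ha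
  exact hoff (P.fixed_line hq hv he (hperp _ hx) hxq (hfix a ha1 (Subgroup.mem_centralizer_singleton_iff.1 ha2)))

/-- Commuting with `w` is being orthogonal to the point. -/
theorem cent_iff {a : X} (ha : a ∈ J) : a * w = w * a ↔ hm (π a) v = 0 := by
  refine ⟨fun e => ?_, fun e => ?_⟩
  · have := P.act_w ha
    rw [← e, mul_inv_cancel_right, he] at this
    exact (tv_fixed hq hv).1 this.symm
  · have hπ : π (w * (a * w * a⁻¹)) = 0 := by rw [P.π_cof_line hq hv he ha, e, scl_zero]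
    rcases (P.hz.π_ker _ (P.cof_mem ha)).1 hπ with x | x
    · exact mul_inv_eq_iff_eq_mul.1 ((eq_inv_of_mul_eq_one_right x).trans P.winv)
    · refine absurd ?_ (P.no_flip hq hv he ha)
      rw [show a * w * a⁻¹ = w⁻¹ * (w * (a * w * a⁻¹)) by group, x, P.winv]

/-- The conjugate is determined by the image of the cofactor. -/
theorem conj_eq {j₁ j₂ : X} (h₁ : j₁ ∈ J) (h₂ : j₂ ∈ J) (e : π (w * (j₁ * w * j₁⁻¹)) = π (w * (j₂ * w * j₂⁻¹))) :
    j₁ * w * j₁⁻¹ = j₂ * w * j₂⁻¹ := by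
  rw [P.π_cof_line hq hv he h₁, P.π_cof_line hq hv he h₂] at e
  have e' : hm (π j₁) v + hm (π j₂) v = 0 := by
    refine scl_eq_zero hv ?_
    rw [add_scl, e, add_self_V4]
  have := (P.cent_iff hq hv he (mul_mem (inv_mem h₁) h₂)).2 (by
    rw [P.hz.π_mul _ (inv_mem h₁) _ h₂, P.hz.π_inv h₁, hm_add_left]; exact e')
  calc j₁ * w * j₁⁻¹ = j₁ * (w * (j₁⁻¹ * j₂)) * j₂⁻¹ := by group
    _ = j₂ * w * j₂⁻¹ := by rw [← this]; group

/-- The intersection: one and the conjugates of `w` multiplied with `z w`. -/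
theorem meet_cases {b : X} (hb : b ∈ J) (hb' : b ∈ J') : b = 1 ∨ ∃ j ∈ J, b = z * (w * (j * w * j⁻¹)) := by
  obtain ⟨c, hc⟩ := P.meet_line hq hv he hb hb'
  obtain ⟨j, hj, ej⟩ := P.exists_cof hq hv he c
  rcases (P.hz.π_eq_iff (P.cof_mem hj) hb).1 (ej.trans hc.symm) with e | e
  · left
    rw [e, P.conj_not_mem hj ((Subgroup.mul_mem_cancel_left _ P.hw.extra.z_mem).1 (e ▸ hb')), P.ww]
  · exact Or.inr ⟨j, hj, by rw [e, P.hz.extra.z_comm (P.cof_mem hj)]⟩

theorem cent_lower : 128 ≤ Nat.card ↥(J ⊓ Subgroup.centralizer ({w} : Set X)) := by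
  classical
  set K := (J ⊓ Subgroup.centralizer ({w} : Set X)).subgroupOf J with hK
  let f : ↥J → D4 := fun j => hm (π (j : X)) v
  have hf : ∀ a b : ↥J, f a = f b ↔ a⁻¹ * b ∈ K := by
    intro a b
    rw [hK, Subgroup.mem_subgroupOf, Subgroup.mem_inf, Subgroup.mem_centralizer_singleton_iff, Subgroup.coe_mul,
      Subgroup.coe_inv, P.cent_iff hq hv he (mul_mem (inv_mem a.2) b.2), P.hz.π_mul _ (inv_mem a.2) _ b.2,
      P.hz.π_inv a.2, hm_add_left]
    refine ⟨fun e => ⟨mul_mem (inv_mem a.2) b.2, ?_⟩, fun e => ?_⟩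
    · show f a + f b = 0
      rw [e]; exact (by decide : ∀ x : D4, x + x = 0) _
    · exact (by decide : ∀ x y : D4, x + y = 0 → x = y) _ _ e.2
  let g : ↥J ⧸ K → D4 := Quotient.lift f fun a b hab => (hf a b).2 (QuotientGroup.leftRel_apply.1 hab)
  have hg : Function.Injective g := by
    intro a b
    induction a using QuotientGroup.induction_on with
    | H a =>
      induction b using QuotientGroup.induction_on with
      | H b => exact fun e => QuotientGroup.eq.2 ((hf a b).1 e)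
  have hle := Nat.card_le_card_of_injective g hg
  rw [Nat.card_eq_fintype_card (α := D4), show Fintype.card D4 = 4 by decide] at hle
  have hmul := K.card_mul_index
  rw [Subgroup.index, Nat.card_congr (Subgroup.subgroupOfEquivOfLe inf_le_left).toEquiv, P.hz.card_J] at hmul
  nlinarith

/-- The intersection has four elements. -/
theorem meet_big : 4 ≤ Nat.card ↥(J ⊓ J') := by
  obtain ⟨u, hu, hu0, hue⟩ := P.tau_symm hq hv he
  have h128 := P.symm.cent_lower hu hu0 hue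
  have h32 := rad_card P.hz.model P.symm.actOn_le P.symm.actOn_two hq hv (fun p hp => he ▸ P.symm.actOn_comm p hp)
    (by
      rintro _ ⟨k, rfl⟩ x hx
      obtain ⟨a, ha, rfl⟩ := P.hz.π_surj x
      obtain ⟨hk, hkz⟩ := Subgroup.mem_inf.1 k.2
      have hkz' := Subgroup.mem_centralizer_singleton_iff.1 hkz
      obtain ⟨m1, m2⟩ := P.comm_meet ha ((P.cent_iff hq hv he ha).2 hx) hk hkz'
      obtain ⟨c, hc⟩ := P.meet_line hq hv he m1 m2
      refine ⟨c, ?_⟩
      have hn := P.hz.norm _ hkz' _ (inv_mem ha)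
      rw [← hc, show a * (k : X) * a⁻¹ * (k : X)⁻¹ = a * ((k : X) * a⁻¹ * (k : X)⁻¹) by group,
        P.hz.π_mul _ ha _ hn, P.symm.actOn_apply, add_comm]
      congr 1
      rw [← P.hz.act _ a ha, show (k : X) * a⁻¹ * (k : X)⁻¹ = ((k : X) * a * (k : X)⁻¹)⁻¹ by group,
        P.hz.π_inv (P.hz.norm _ hkz' a ha)])
  have hker : Nat.card P.symm.actOn.ker ≤ Nat.card ↥(J ⊓ J') := by
    refine Nat.card_le_card_of_injective
      (fun k => (⟨(k.1 : X), ⟨(P.hz.ker _).1 k.2, (Subgroup.mem_inf.1 k.1.2).1⟩⟩ : ↥(J ⊓ J')))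
      fun a b e => Subtype.ext (Subtype.ext (congrArg (fun q : ↥(J ⊓ J') => (q : X)) e))
  have hmul := P.symm.actOn.ker.card_mul_index
  rw [Subgroup.index_ker] at hmul
  nlinarith

/-- The product with `z w` of another conjugate under `J` is in `J'`. -/
theorem meet_mem {j : X} (hj : j ∈ J) (hne : j * w * j⁻¹ ≠ w) : z * (w * (j * w * j⁻¹)) ∈ J' := by
  classical
  choose f hf using fun b : ↥(J ⊓ J') => P.meet_line hq hv he (Subgroup.mem_inf.1 b.2).1 (Subgroup.mem_inf.1 b.2).2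
  have finj : Function.Injective f := fun a b e => by
    obtain ⟨ha, ha'⟩ := Subgroup.mem_inf.1 a.2
    obtain ⟨hb, hb'⟩ := Subgroup.mem_inf.1 b.2
    rcases (P.hz.π_eq_iff ha hb).1 (by rw [hf, hf, e]) with x | x
    · exact Subtype.ext x.symm
    · exact absurd ((Subgroup.mul_mem_cancel_left _ ha').1 (x ▸ hb')) P.not_mem'
  haveI : Fintype ↥(J ⊓ J') := Fintype.ofFinite _
  have hbij : Function.Bijective f := (Fintype.bijective_iff_injective_and_card f).2 ⟨finj,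
    le_antisymm (Fintype.card_le_of_injective f finj) (by
      rw [← Nat.card_eq_fintype_card (α := ↥(J ⊓ J')), show Fintype.card D4 = 4 by decide]
      exact P.meet_big hq hv he)⟩
  obtain ⟨b, hb⟩ := hbij.2 (hm (π j) v)
  have hπb : π (b : X) = π (w * (j * w * j⁻¹)) := by rw [hf, hb, P.π_cof_line hq hv he hj]
  obtain ⟨hbJ, hbJ'⟩ := Subgroup.mem_inf.1 b.2
  rcases P.meet_cases hq hv he hbJ hbJ' with e | ⟨j₂, hj₂, e⟩
  · refine absurd ?_ hne
    have := P.conj_eq hq hv he hj (j₂ := 1) (one_mem _) (by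
      rw [← hπb, e]; simp [P.ww])
    simpa using this
  · rw [e, P.hz.π_mul _ P.hz.extra.z_mem _ (P.cof_mem hj₂), P.hz.π_z, zero_add] at hπb
    rw [← P.conj_eq hq hv he hj₂ hj hπb, ← e]
    exact hbJ'

end Tau

end Couple

end CfsgLib.Recognition.USixTwo
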