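import Cfsg.Agent.Lib.Recognition.USixTwo.Setup

/-!
# The involution is weakly closed in `J`

If a conjugate `u ≠ z` lay in `J`, then `J ∩ J'` would map onto a subgroup invariant under the stabiliser
of `π u`, so containing its multiples; an element of `J'` centralising `z` would move them.
-/

set_option autoImplicit false
set_option linter.unusedSectionVars false

namespace CfsgLib.Recognition.USixTwo

open CfsgLib.ThreeTransp.Extraspecial
open CfsgLib.Sporadic.LargeFischer (D4 om nzd)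

/-- An element of an extraspecial group commuting with the half centralising an involution. -/
theorem half_centralizer {G : Type*} [Group G] [Finite G] {P : Subgroup G} {s u r : G} (h : Extra P s) (hu : u ∈ P)
    (hu1 : u ≠ 1) (hus : u ≠ s) (hr : r ∈ P) (hc : ∀ d ∈ P, d * u = u * d → d * r = r * d) :
    r = 1 ∨ r = s ∨ r * u = 1 ∨ r * u = s := by
  obtain ⟨q, hq, hqu⟩ := h.exists_conj_eq hu hu1 hus
  have key : ∀ x ∈ P, q * x = x * q → (∀ d ∈ P, d * u = u * d → d * x = x * d) → x = 1 ∨ x = s := by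
    intro x hx hqx hdx
    refine h.mem_center_cases hx fun e he => ?_
    rcases h.conj_cases hu he with c | c
    · exact (hdx e he (mul_inv_eq_iff_eq_mul.1 c)).symm
    · have hd : q⁻¹ * e * u = u * (q⁻¹ * e) := by
        refine mul_inv_eq_iff_eq_mul.1 ?_
        calc q⁻¹ * e * u * (q⁻¹ * e)⁻¹ = q⁻¹ * (e * u * e⁻¹) * q := by group
          _ = q⁻¹ * (q * u * q⁻¹) * q := by rw [c, hqu]
          _ = u := by group
      have h1 := hdx _ (mul_mem (inv_mem hq) he) hd
      calc x * e = q * (q⁻¹ * x * e) := by group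
        _ = q * (x * (q⁻¹ * e)) := by
          rw [show q⁻¹ * x = x * q⁻¹ from (Commute.inv_left hqx).eq]; group
        _ = e * x := by rw [← h1]; group
  rcases h.conj_cases hr hq with c | c
  · rcases key r hr (mul_inv_eq_iff_eq_mul.1 c) hc with e | e
    · exact Or.inl e
    · exact Or.inr (Or.inl e)
  · have hqru : q * (r * u) = r * u * q := by
      refine mul_inv_eq_iff_eq_mul.1 ?_
      calc q * (r * u) * q⁻¹ = (q * r * q⁻¹) * (q * u * q⁻¹) := by group
        _ = r * (s * u) * s := by rw [c, hqu]; group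
        _ = r * u * (s * s) := by rw [h.z_comm hu]; group
        _ = r * u := by rw [h.z_sq, mul_one]
    have hd : ∀ d ∈ P, d * u = u * d → d * (r * u) = r * u * d := fun d hd hdu => by
      rw [← mul_assoc, hc d hd hdu, mul_assoc, hdu, ← mul_assoc]
    rcases key _ (mul_mem hr hu) hqru hd with e | e
    · exact Or.inr (Or.inr (Or.inl e))
    · exact Or.inr (Or.inr (Or.inr e))

namespace Core

variable {X : Type*} [Group X] [Finite X] {z : X} {J : Subgroup X} {π : X → V4}
  {ψ : ↥(Subgroup.centralizer ({z} : Set X)) →* (V4 ≃ₗ[ZMod 2] V4)} (h : Core z J π ψ)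
include h

/-- No other conjugate of `z` lies in `J`. -/
theorem weakly_closed {g : X} (hu : g * z * g⁻¹ ∈ J) : g * z * g⁻¹ = z := by
  classical
  by_contra hne
  set u := g * z * g⁻¹ with hudef
  have h' : Core u (J.map (MulAut.conj g).toMonoidHom) (fun a => π (g⁻¹ * a * g)) (ψ.comp (centConj z g)) :=
    h.conj g
  set J' := J.map (MulAut.conj g).toMonoidHom with hJ'
  have hu1 : u ≠ 1 := h'.extra.z_ne
  have huu : u * u = 1 := h'.extra.z_sq
  have hzJ' : z ∈ J' := mem_map_conj.2 (mem_conj_of_nonabelian h.extra h.cent_le h.normalizer hu hne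
    (CfsgLib.ThreeTransp.LargePair.nonabelian_centralizer h.extra (w := 4) (by norm_num) (by rw [h.card_J]; norm_num) hu hu1 huu hne))
  have hne' : z ≠ u := fun e => hne e.symm
  set A := J ⊓ J' with hA
  have hAsq : ∀ a ∈ A, a * a = 1 := fun a ha => by
    rcases h.sq_cases ha.1 with e | e
    · exact e
    · rcases h'.sq_cases ha.2 with e' | e'
      · exact e'
      · exact absurd (e'.symm.trans e) hne
  have hAu : ∀ a ∈ A, a * u = u * a := fun a ha => h'.cent_z ha.2
  set R := h.imgV A inf_le_left with hR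
  set v := π u with hv
  have hvR : v ∈ R := h.mem_imgV.2 ⟨u, ⟨hu, h'.extra.z_mem⟩, rfl⟩
  have hq : q4 v = 0 := (h.q_iff u hu).2 huu
  have hv0 : v ≠ 0 := fun e => ((h.π_ker u hu).1 e).elim hu1 hne
  have hperp : ∀ y ∈ R, bs4 y v = 0 := by
    intro y hy
    obtain ⟨a, ha, rfl⟩ := h.mem_imgV.1 hy
    exact (h.comm_iff ha.1 hu).1 (hAu a ha)
  -- the stabiliser of `v` leaves the image invariant
  have hinv : ∀ k ∈ ψ.range, k v = v → ∀ y ∈ R, k y ∈ R := by
    rintro _ ⟨c, rfl⟩ hfix y hy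
    obtain ⟨a, ha, rfl⟩ := h.mem_imgV.1 hy
    obtain ⟨c', hψ, hc'⟩ : ∃ c', ψ c' = ψ c ∧ (c' : X) * u * (c' : X)⁻¹ = u := by
      have hm := h.norm c (Subgroup.mem_centralizer_singleton_iff.1 c.2) _ hu
      rcases (h.π_eq_iff hu hm).1 ((h.act c _ hu).trans hfix).symm with e | e
      · exact ⟨c, rfl, e⟩
      · obtain ⟨q, hq, hqe⟩ := h.extra.exists_conj_eq hu hu1 hne
        refine ⟨(⟨q, h.mem_cent hq⟩ : ↥(Subgroup.centralizer ({z} : Set X)))⁻¹ * c, ?_, ?_⟩
        · rw [map_mul, map_inv, (h.ker ⟨q, h.mem_cent hq⟩).2 hq, inv_one, one_mul]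
        · show q⁻¹ * c * u * (q⁻¹ * c)⁻¹ = u
          rw [show q⁻¹ * c * u * (q⁻¹ * c)⁻¹ = q⁻¹ * (c * u * (c : X)⁻¹) * q by group, e, ← hqe]
          group
    refine h.mem_imgV.2 ⟨(c' : X) * a * (c' : X)⁻¹,
      ⟨h.norm _ (Subgroup.mem_centralizer_singleton_iff.1 c'.2) a ha.1,
        h'.norm _ (mul_inv_eq_iff_eq_mul.1 hc') a ha.2⟩, ?_⟩
    rw [h.act c' a ha.1, hψ]
  by_cases hsmall : ∀ y ∈ R, y = 0 ∨ y = v
  · -- the half of `J'` acts as a Sylow subgroup fixing `v`
    have hR2 : Nat.card R ≤ 2 := by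
      let f : R → ({0, v} : Set V4) := fun y => ⟨y.1, (hsmall y.1 y.2).elim (fun e => Or.inl e) fun e => Or.inr e⟩
      refine (Nat.card_le_card_of_injective f fun a b e => Subtype.ext (congrArg (fun q : ({0, v} : Set V4) => q.1) e)).trans ?_
      rw [Nat.card_coe_set_eq]
      exact (Set.ncard_insert_le _ _).trans (by rw [Set.ncard_singleton])
    have hA4 : Nat.card A ≤ 4 := (h.card_imgV (A := A) inf_le_left).trans (by rw [← hR]; omega)
    set D' := J' ⊓ Subgroup.centralizer ({z} : Set X) with hD'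
    let f : ↥D' →* (V4 ≃ₗ[ZMod 2] V4) := ψ.comp
      { toFun := fun d => ⟨d, d.2.2⟩
        map_one' := rfl
        map_mul' := fun _ _ => rfl }
    have hker : Nat.card f.ker ≤ Nat.card A := by
      refine Nat.card_le_card_of_injective (fun d => (⟨((d.1 : ↥D') : X), ⟨(h.ker _).1 d.2, d.1.2.1⟩⟩ : ↥A))
        fun a b e => Subtype.ext (Subtype.ext (by simpa using congrArg (fun q : ↥A => (q : X)) e))
    have hD'c : Nat.card D' = 256 := h'.card_half hzJ' h.extra.z_ne hne'
    have hmul := f.ker.card_mul_index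
    rw [Subgroup.index_ker, hD'c] at hmul
    haveI := finite_sub f.range
    have hle : f.range ≤ ψ.range := by rintro _ ⟨d, rfl⟩; exact ⟨_, rfl⟩
    have h64 : Nat.card f.range = 64 := by
      have h1 : Nat.card f.range ∣ 25920 := h.model.card ▸ Subgroup.card_dvd_of_le hle
      have h2 : Nat.card f.range ∣ 256 := ⟨_, (mul_comm _ _).trans hmul |>.symm⟩
      have h3 : Nat.card f.range ∣ 64 := (Nat.dvd_gcd h1 h2).trans (by norm_num)
      have h4 : 64 ≤ Nat.card f.range := by
        by_contra hc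
        push Not at hc
        nlinarith [hmul, hker, hA4, Nat.card_pos (α := f.ker)]
      exact le_antisymm (Nat.le_of_dvd (by norm_num) h3) h4
    have hfix : ∀ p ∈ f.range, p v = v := by
      rintro _ ⟨d, rfl⟩
      show ψ ⟨d, d.2.2⟩ (π u) = π u
      rw [← h.act _ u hu]
      congr 1
      show (d : X) * u * (d : X)⁻¹ = u
      rw [h'.cent_z d.2.1, mul_inv_cancel_right]
    obtain ⟨p, ⟨d, rfl⟩, x, hx, hout⟩ := big_moves h.model hle h64 hq hv0 hfix
    obtain ⟨a, ha, rfl⟩ := h.π_surj x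
    have hau : a * u = u * a := (h.comm_iff ha hu).2 (by rw [bs4_eq, hx]; rfl)
    have hd : (d : X) * z = z * d := Subgroup.mem_centralizer_singleton_iff.1 d.2.2
    have hcA : (d : X) * a * (d : X)⁻¹ * a⁻¹ ∈ A := by
      refine Subgroup.mem_inf.2 ⟨mul_mem (h.norm d hd a ha) (inv_mem ha), ?_⟩
      rw [show (d : X) * a * (d : X)⁻¹ * a⁻¹ = d * (a * (d : X)⁻¹ * a⁻¹) by group]
      exact mul_mem (show (d : X) ∈ J' from d.2.1) (h'.norm a hau _ (inv_mem (show (d : X) ∈ J' from d.2.1)))
    have hπ : π ((d : X) * a * (d : X)⁻¹ * a⁻¹) = f d (π a) + π a := by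
      rw [h.π_mul _ (h.norm d hd a ha) _ (inv_mem ha), h.π_inv ha]
      exact congrArg (· + π a) (h.act ⟨d, d.2.2⟩ a ha)
    rcases hsmall _ (h.mem_imgV.2 ⟨_, hcA, hπ⟩) with e | e
    · exact hout ⟨0, by rw [e, scl_zero]⟩
    · exact hout ⟨(1, 0), by rw [e, scl_one]⟩
  · push Not at hsmall
    obtain ⟨y, hy, hy0, hyv⟩ := hsmall
    have homv := closure_line h.model hq hv0 R hvR hinv hy (hperp y hy) hy0 hyv
    obtain ⟨r, hr, hrπ⟩ := h.mem_imgV.1 homv
    have hne2 : omV v ≠ 0 ∧ omV v ≠ v := by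
      constructor
      · intro e
        rw [omV_eq] at e
        exact absurd (scl_eq_zero hv0 e) (by decide)
      · intro e
        rw [omV_eq] at e
        have : scl ((0, 1) + (1, 0)) v = 0 := by rw [add_scl, e, scl_one, add_self_V4]
        exact absurd (scl_eq_zero hv0 this) (by decide)
    obtain ⟨d, hd, hdz, hdr⟩ : ∃ d ∈ J', d * z = z * d ∧ d * r ≠ r * d := by
      by_contra hc
      push Not at hc
      rcases half_centralizer h'.extra hzJ' h.extra.z_ne hne' hr.2 hc with e | e | e | e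
      · exact hne2.1 (by rw [← hrπ, e, h.π_one])
      · exact hne2.2 (by rw [← hrπ, e])
      · exact hne2.1 (by rw [← hrπ, eq_inv_of_mul_eq_one_left e, h.π_inv h.extra.z_mem, h.π_z])
      · exact hne2.2 (by rw [← hrπ, hv, ← h.π_mul_z hr.1, e])
    have hdu : d * u * d⁻¹ = u := by rw [h'.cent_z hd, mul_inv_cancel_right]
    set c : ↥(Subgroup.centralizer ({z} : Set X)) := ⟨d, Subgroup.mem_centralizer_singleton_iff.2 hdz⟩
    have hcv : ψ c v = v := by rw [hv, ← h.act c u hu]; exact congrArg π hdu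
    have hconj : d * r * d⁻¹ = r * u := (h'.extra.conj_cases hr.2 hd).resolve_left fun e =>
      hdr (mul_inv_eq_iff_eq_mul.1 e)
    have h1 : ψ c (omV v) = omV v + v := by
      rw [← hrπ, ← h.act c r hr.1, show (c : X) * r * (c : X)⁻¹ = r * u from hconj, h.π_mul r hr.1 u hu]
    rw [(h.model.le ⟨c, rfl⟩).lin, hcv] at h1
    exact hv0 (left_eq_add.1 h1)

/-- Conjugates of `z` in `J` equal `z`. -/
theorem eq_of_isConj {x : X} (hx : x ∈ J) (hc : IsConj z x) : x = z := by
  obtain ⟨g, rfl⟩ := isConj_iff.1 hc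
  exact h.weakly_closed hx

end Core

end CfsgLib.Recognition.USixTwo
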